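import Cfsg.Agent.H65.AlDefs
import Cfsg.Agent.H3.PResidual
import Cfsg.Agent.S3035
import Cfsg.Agent.S1005
import Cfsg.Agent.S3261
import Cfsg.Agent.H9.SLBasic

/-! KON: the base case `A₆` or `L₂(7)`, and the exclusion of `L₂(7)` as a quotient `C(Vᵢ)/Vᵢ`. -/

set_option autoImplicit false
set_option linter.unusedSectionVars false

namespace Cfsg.Agent.H65.Alt

open Subgroup Equiv Cfsg.Agent.H49 Cfsg.Agent.ALT
open Cfsg.Agent.SAN (An Four KK NN cA)

variable {G : Type*} [Group G] [Finite G] {ι : Type*} [Fintype ι] [DecidableEq ι]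
  {θ : (ι → D8) →* G} {s : Finset ι} {m : ℕ} {i : ι}

theorem b6_simple : IsSimpleGroup (Matrix.SpecialLinearGroup (Fin 3) (ZMod 2)) := by
  have h := H9.psl_isSimpleGroup (ι := Fin 3) (F := ZMod 2) (by simp)
  have hz : center (Matrix.SpecialLinearGroup (Fin 3) (ZMod 2)) = ⊥ := by
    rw [← card_eq_one, H9.card_center_sl]; simp
  exact (H9.quotCenterEquivOfBot hz).symm.isSimpleGroup

theorem b6_card : Nat.card (Matrix.SpecialLinearGroup (Fin 3) (ZMod 2)) = 168 := by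
  have h2 := H9.card_sl_fin (F := ZMod 2) 3 (by norm_num)
  rw [ZMod.card] at h2
  generalize Nat.card (Matrix.SpecialLinearGroup (Fin 3) (ZMod 2)) = A at *
  norm_num [Fin.prod_univ_succ] at h2
  omega

theorem base6 {X : Type*} [Group X] [Finite X] {z : X} (hz : orderOf z = 2) {α : An 6}
    (hα : orderOf α = 2) (e : 𝒞[z] ≃* 𝒞[α]) (hr : 𝒞[z] ≤ pResidual 2 X) :
    Nonempty (X ≃* An 6) ∨ (IsSimpleGroup X ∧ Nat.card X = 168) := by
  have a2 : α.1 * α.1 = 1 := by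
    have := congrArg Subtype.val (pow_orderOf_eq_one α)
    rwa [hα, pow_two] at this
  have a4 : α.1.support.card = 4 := by
    have h1 := four_dvd_support a2 (SAN.sign_coe α)
    have h3 := α.1.support.card_le_univ
    have h4 : α.1.support.card ≠ 0 := fun e => by
      rw [show α = 1 from Subtype.ext (Perm.card_support_eq_zero.1 e), orderOf_one] at hα
      exact absurd hα (by norm_num)
    rw [Fintype.card_fin] at h3
    omega
  obtain ⟨e'⟩ := S3261.cent α hα a4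
  have h8 : Nat.card 𝒞[z] = 2 ^ 3 := by
    rw [Nat.card_congr (e.trans e').toEquiv, DihedralGroup.nat_card]; rfl
  have hsym : ∀ n : ℕ, ¬ 16 ∣ (n + 2).factorial → ¬ Nonempty (X ≃* Perm (Fin (n + 2))) :=
    fun n hn ⟨f⟩ => by
      have h1 : ((alternatingGroup (Fin (n + 2))).comap f.toMonoidHom).index = 2 ^ 1 := by
        rw [index_comap_of_surjective _ f.surjective, alternatingGroup.index_eq_two]; rfl
      have h2 := card_dvd_of_le (hr.trans (H3.pResidual_le_of_index_eq_pow _ h1))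
      have h3 := ((alternatingGroup (Fin (n + 2))).comap f.toMonoidHom).card_mul_index
      rw [h1, Nat.card_congr f.toEquiv, Nat.card_perm, Nat.card_eq_fintype_card (α := Fin _),
        Fintype.card_fin] at h3
      rw [h8] at h2
      exact hn (h3 ▸ Nat.mul_dvd_mul_right h2 (2 ^ 1))
  rcases S3035.result z hz ⟨e.trans e'⟩ with h | h | h | ⟨⟨f⟩⟩ | h
  · exfalso
    have hc : (oddCore X).Characteristic := H22.pPrimeCore_characteristic
    have hp : IsPGroup 2 (X ⧸ oddCore X) := by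
      have h1 := (IsPGroup.of_card h8).map (QuotientGroup.mk' (oddCore X))
      have h2 : (centralizer ({z} : Set X)).map (QuotientGroup.mk' (oddCore X)) = ⊤ := by
        have h3 := congrArg (Subgroup.map (QuotientGroup.mk' (oddCore X))) h
        rwa [Subgroup.map_sup, QuotientGroup.map_mk'_self, sup_bot_eq,
          map_top_of_surjective _ (QuotientGroup.mk'_surjective _)] at h3
      rw [h2] at h1
      exact h1.of_equiv topEquiv
    have h2 : (Nat.card (oddCore X)).Coprime 2 := H22.coprime_card_pPrimeCore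
    have h3 := card_dvd_of_le (hr.trans (H3.pResidual_le_of_isPGroup_quotient _ hp))
    rw [h8] at h3
    exact absurd (Nat.Coprime.coprime_dvd_left h3 h2) (by norm_num)
  · exact absurd h (hsym 2 (by decide))
  · exact absurd h (hsym 3 (by decide))
  · have := b6_simple
    exact .inr ⟨f.isSimpleGroup, (Nat.card_congr f.toEquiv).trans b6_card⟩
  · exact .inl h

theorem b6_lt {X : Type*} [Group X] [Finite X] {H K : Subgroup X} (h : H ≤ K) {x : X} (hx : x ∈ K)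
    (hx' : x ∉ H) : 2 * Nat.card H ≤ Nat.card K := by
  obtain ⟨k, hk⟩ := card_dvd_of_le h
  have h1 : k ≠ 1 := fun e => hx' (by
    rw [eq_of_le_of_card_ge h (by rw [hk, e, mul_one])]; exact hx)
  have h0 : k ≠ 0 := fun e => Nat.card_pos.ne' (by rw [hk, e, mul_zero] : Nat.card K = 0)
  rw [hk, mul_comm]
  exact Nat.mul_le_mul_left _ (by omega)

theorem b6_three {X : Type*} [Group X] [Finite X] {z v ρ : X} (tt : z * z = 1) (z1 : z ≠ 1)
    (hρ : R3 ρ z v) : 3 ∣ orderOf ρ := by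
  by_contra h3
  have h1 : ρ ∈ zpowers (ρ ^ 3) :=
    mem_zpowers_pow_iff.2 ((Nat.Prime.coprime_iff_not_dvd (by norm_num)).2 h3)
  have h2 : Fx (ρ ^ 3) z := by
    show ρ ^ 3 * z * (ρ ^ 3)⁻¹ = z
    calc ρ ^ 3 * z * (ρ ^ 3)⁻¹ = ρ * (ρ * (ρ * z * ρ⁻¹) * ρ⁻¹) * ρ⁻¹ := by
          rw [pow_succ, pow_two]; group
      _ = z := by rw [hρ.r1, hρ.r2, hρ.r3 tt]
  exact hρ.not_fx tt z1 (fx_iff_mem.2 (zpowers_le.2 (fx_iff_mem.1 h2) h1))

theorem b6_abs {X : Type*} [Group X] [Finite X] [IsSimpleGroup X] (h : Nat.card X = 168)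
    {z v c ρ a : X} (α : X →* X) (tt : z * z = 1) (z1 : z ≠ 1) (hρ : R3 ρ z v) (ha : R3 a z c)
    (vc : v * c * v⁻¹ = c * z) (αz : α z = z) (αv : α v = v) (αc : α c = c) (αρ : α ρ = ρ)
    (αa : α a = z * a * z⁻¹) : False := by
  obtain ⟨F, hF⟩ : ∃ F : Subgroup X, ∀ x, x ∈ F ↔ α x = x :=
    ⟨α.eqLocus (MonoidHom.id X), fun _ => Iff.rfl⟩
  have cc := ha.sq tt
  have cz := ha.comm tt
  have o8 : ∀ g : X, g * g = 1 → orderOf g ∣ 8 := fun g hg =>
    (orderOf_dvd_of_pow_eq_one (n := 2) (by rw [pow_two, hg])).trans (by norm_num)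
  have αa' : α a = c * z * a := by
    rw [αa, cz, ← inv_eq_of_mul_eq_one_right cc, ← ha.r1]; group
  have nvc : ¬ Fx v c := fun e => z1 (mul_left_cancel (a := c) (by rw [← vc, mul_one]; exact e))
  have key : ∀ f ∈ F, a⁻¹ * f * a ∈ F → Fx f (c * z) := fun f hf h1 => by
    rw [hF, map_mul, map_mul, map_inv, αa', (hF f).1 hf] at h1
    show f * (c * z) * f⁻¹ = c * z
    calc f * (c * z) * f⁻¹ = c * z * a * ((c * z * a)⁻¹ * f * (c * z * a)) * a⁻¹ * f⁻¹ := by group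
      _ = c * z := by rw [h1]; group
  have fvz : Fx v z := fx_iff.2 (hρ.comm tt)
  have fcz : Fx c z := fx_iff.2 cz
  have aF : a ∉ F := fun e => ha.not_fx tt z1 (fx_symm (αa.symm.trans ((hF a).1 e)))
  have Ft : F ≠ ⊤ := fun e => aF (e ▸ mem_top a)
  have zF := (hF z).2 αz
  have vF := (hF v).2 αv
  have cF := (hF c).2 αc
  have F24 : Nat.card F = 24 := by
    have h1 := b6_lt (bot_le : ⊥ ≤ 𝒞[z] ⊓ F ⊓ 𝒞[v] ⊓ 𝒞[c]) (x := z)
      ⟨⟨⟨fx_iff_mem.1 (fx_self z), zF⟩, fx_iff_mem.1 (fx_symm fvz)⟩, fx_iff_mem.1 (fx_symm fcz)⟩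
      (by rwa [mem_bot])
    have h2 := b6_lt (inf_le_left : 𝒞[z] ⊓ F ⊓ 𝒞[v] ⊓ 𝒞[c] ≤ _) (x := v)
      ⟨⟨fx_iff_mem.1 fvz, vF⟩, fx_iff_mem.1 (fx_self v)⟩ fun e => nvc (fx_iff_mem.2 e.2)
    have h3 := b6_lt (inf_le_left : 𝒞[z] ⊓ F ⊓ 𝒞[v] ≤ _) (x := c)
      ⟨fx_iff_mem.1 fcz, cF⟩ fun e => nvc (fx_symm (fx_iff_mem.2 e.2))
    have h4 := (card_dvd_of_le (inf_le_left : 𝒞[z] ⊓ F ≤ _)).trans
      (H36.G168.cent_dvd_eight h (o8 z tt) z1)
    have h5 := card_dvd_of_le (inf_le_right : 𝒞[z] ⊓ F ≤ _)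
    have h6 := (b6_three tt z1 hρ).trans (Subgroup.orderOf_dvd_natCard F ((hF ρ).2 αρ))
    have h7 := H36.G168.card_le h Ft
    have h8 := Nat.le_of_dvd (by norm_num) h4
    have h9 : 0 < Nat.card F := Nat.card_pos
    rw [card_bot] at h1
    rw [show Nat.card (𝒞[z] ⊓ F : Subgroup X) = 8 by omega] at h5
    omega
  have r3 : a * (c * z) * a⁻¹ = z := ha.r3 tt
  have S4 : Nat.card (MulAction.stabilizer F (a : X ⧸ F)) ≤ 4 := by
    have h1 : (MulAction.stabilizer F (a : X ⧸ F)).map F.subtype ≤ 𝒞[c * z] := by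
      rintro _ ⟨f, hf, rfl⟩
      have h2 : ((f : X) * a)⁻¹ * a ∈ F := QuotientGroup.eq.1 hf
      refine fx_iff_mem.1 (key _ f.2 ?_)
      simpa [mul_assoc] using inv_mem h2
    have h2 := b6_lt h1 (x := a⁻¹ * v * a) (fx_iff_mem.1 (by
      show a⁻¹ * v * a * (c * z) * (a⁻¹ * v * a)⁻¹ = c * z
      calc a⁻¹ * v * a * (c * z) * (a⁻¹ * v * a)⁻¹ = a⁻¹ * (v * (a * (c * z) * a⁻¹) * v⁻¹) * a := by
            group
        _ = a⁻¹ * (a * (c * z) * a⁻¹) * a := by rw [r3, fvz]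
        _ = c * z := by group)) fun e => nvc (fx_cancel' (key v vF (map_subtype_le _ e)) fvz)
    have h3 := H36.G168.cent_dvd_eight h (o8 (c * z) (by rw [← ha.r2, conj_mul, cc]; group))
      fun e => z1 (by rw [← r3, e]; group)
    have h4 := Nat.le_of_dvd (by norm_num) h3
    rw [card_subtype] at h2
    omega
  have orb : MulAction.orbit F (a : X ⧸ F) = {((1 : X) : X ⧸ F)}ᶜ := by
    refine Set.eq_of_subset_of_ncard_le ?_ ?_
    · rintro _ ⟨f, rfl⟩ e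
      have h2 : ((f : X) * a)⁻¹ * 1 ∈ F := QuotientGroup.eq.1 e
      rw [mul_one, inv_mem_iff] at h2
      exact aF ((mul_mem_cancel_left f.2).1 h2)
    · have h1 := (MulAction.stabilizer F (a : X ⧸ F)).card_mul_index
      have h2 := F.card_mul_index
      have h3 := Set.ncard_add_ncard_compl ({((1 : X) : X ⧸ F)} : Set (X ⧸ F))
      rw [MulAction.index_stabilizer, F24] at h1
      rw [F24, h] at h2
      rw [Set.ncard_singleton, ← index_eq_card, show F.index = 7 by omega] at h3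
      have := Nat.mul_le_mul_right (MulAction.orbit F (a : X ⧸ F)).ncard S4
      omega
  have δa : a⁻¹ * α a = c := by rw [αa', ← ha.r2]; group
  have δ : ∀ x, x⁻¹ * α x ∈ F := fun x => by
    by_cases hx : x ∈ F
    · rw [(hF x).1 hx, inv_mul_cancel]; exact one_mem F
    · have h1 : (x : X ⧸ F) ∈ MulAction.orbit F (a : X ⧸ F) := by
        rw [orb]
        exact fun e => hx (by simpa using QuotientGroup.eq.1 (Set.mem_singleton_iff.1 e).symm)
      obtain ⟨f, hf⟩ := h1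
      have h2 : ((f : X) * a)⁻¹ * x ∈ F := QuotientGroup.eq.1 hf
      obtain ⟨f', hf'⟩ : ∃ f', f' = ((f : X) * a)⁻¹ * x := ⟨_, rfl⟩
      rw [← hf'] at h2
      rw [show x = f * a * f' by rw [hf']; group, map_mul, map_mul, (hF _).1 f.2, (hF _).1 h2,
        show ((f : X) * a * f')⁻¹ * (f * α a * f') = f'⁻¹ * (a⁻¹ * α a) * f' by group, δa]
      exact mul_mem (mul_mem (inv_mem h2) cF) h2
  have hc : c ∈ F.normalCore := fun b => by
    have h1 := mul_mem (δ (a * b⁻¹)) (inv_mem (δ b⁻¹))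
    rw [map_mul] at h1
    rw [← δa]
    convert h1 using 1
    group
  rcases F.normalCore_normal.eq_bot_or_eq_top with e | e
  · rw [e, mem_bot] at hc
    exact z1 (by rw [← conj_inv_of ha.r1, hc]; group)
  · exact Ft (eq_top_iff.2 (e ▸ F.normalCore_le))

theorem no168 (hθ : Function.Injective θ) (p : PF θ i) {j : ι} (hj : j ≠ i) {X : Type*} [Group X]
    [Finite X] {π : CV θ i →* X} (q : QP θ i π) [IsSimpleGroup X] : Nat.card X ≠ 168 := fun h => by
  obtain ⟨ρ, μ, I, S, hρ, hμ, ρv, μv, ρw, μw⟩ := p.res j hj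
  obtain ⟨w, hw⟩ : ∃ w, w = ee θ i * zs θ S := ⟨_, rfl⟩
  rw [← hw] at ρw μw
  have wf : ∀ x : D8, Fx w (at1 θ j x) := fun x =>
    hw ▸ fx_mul (fx_at1_at1 hj.symm _ _) (fx_symm (fx_map_zs _ S))
  have wI : Fx w (zs θ I) := hw ▸ fx_mul (fx_map_zs _ I) (fx_map_zs _ I)
  have wz : Fx w (zz θ i) := hw ▸ fx_mul (fx_map_zz _ i) (fx_map_zz _ i)
  have wv : w * vv θ i * w⁻¹ = vv θ i * zz θ i := by
    have h1 : zs θ S * vv θ i * (zs θ S)⁻¹ = vv θ i := fx_symm (fx_map_zs _ S)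
    rw [hw, ← ee_conj_vv, show ee θ i * zs θ S * vv θ i * (ee θ i * zs θ S)⁻¹ =
      ee θ i * (zs θ S * vv θ i * (zs θ S)⁻¹) * (ee θ i)⁻¹ by group, h1]
  have wm : ∀ g : CV θ i, w * g * w⁻¹ ∈ CV θ i := fun g => by
    have h1 := fx_conj (g := w).2 (mem_CV.1 g.2).1
    have h2 := fx_conj (g := w).2 (mem_CV.1 g.2).2
    rw [wz] at h1
    rw [wv] at h2
    exact mem_CV.2 ⟨h1, fx_cancel' h2 h1⟩
  obtain ⟨κ, hκ⟩ : ∃ κ : CV θ i →* CV θ i, ∀ g, (κ g : G) = w * g * w⁻¹ :=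
    ⟨((MulAut.conj w).toMonoidHom.comp (CV θ i).subtype).codRestrict _ wm, fun _ => rfl⟩
  have hk : π.ker ≤ (π.comp κ).ker := fun x hx => by
    rw [MonoidHom.mem_ker, MonoidHom.comp_apply, q.ker, hκ]
    rcases (q.ker x).1 hx with e | e | e | e <;> rw [e]
    · exact .inl (by group)
    · exact .inr (.inl wz)
    · exact .inr (.inr (.inr wv))
    · exact .inr (.inr (.inl (by rw [← conj_mul, wv, wz, mul_assoc, zz_sq, mul_one])))
  obtain ⟨α, hα⟩ : ∃ α : X →* X, ∀ x, α (π x) = π (κ x) :=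
    ⟨π.liftOfSurjective q.surj ⟨π.comp κ, hk⟩, fun x =>
      MonoidHom.liftOfRightInverse_comp_apply _ _ _ _ x⟩
  have hf : ∀ x : CV θ i, Fx w x → α (π x) = π x := fun x hx => by
    rw [hα, show κ x = x from Subtype.ext ((hκ x).trans hx)]
  have ma : ∀ x : D8, at1 θ j x ∈ CV θ i := fun x =>
    mem_CV.2 ⟨fx_at1_at1 hj _ _, fx_at1_at1 hj _ _⟩
  have mc : ee θ j * zs θ I ∈ CV θ i :=
    mul_mem (ma _) (mem_CV.2 ⟨fx_map_zz _ i, fx_symm (fx_map_zs _ I)⟩)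
  have mρ : ρ ∈ CV θ i := mem_CV.2 ⟨hρ.fz i hj.symm, ρv⟩
  have mμ : μ ∈ CV θ i := mem_CV.2 ⟨hμ.fz i hj.symm, μv⟩
  have r3 : ∀ ν t c : CV θ i, R3 (ν : G) t c → R3 (π ν) (π t) (π c) := fun ν t c r =>
    ⟨by rw [← map_inv, ← map_mul, ← map_mul]; exact congrArg π (Subtype.ext r.r1),
      by rw [← map_inv, ← map_mul, ← map_mul, ← map_mul]; exact congrArg π (Subtype.ext r.r2)⟩
  refine b6_abs h (z := π ⟨_, ma z0⟩) (v := π ⟨_, ma v0⟩) (c := π ⟨_, mc⟩) (ρ := π ⟨_, mρ⟩)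
    (a := π ⟨_, mμ⟩) α ?_ (fun e => ?_) (r3 _ _ _ hρ.toR3) (r3 _ _ _ hμ.toR3) ?_ (hf _ (wf _))
    (hf _ (wf _)) (hf _ ((wf _).mul wI)) (hf _ (fx_symm ρw)) ?_
  · rw [← map_mul, ← map_one π]; exact congrArg π (Subtype.ext (zz_sq j))
  · rcases (q.ker _).1 e with e | e | e | e
    · exact at1_ne hθ j z0_ne e
    · exact hj (at1_inj hθ z0_ne e).1
    · exact hj (at1_inj hθ z0_ne e).1
    · exact hj (at1_inj hθ z0_ne (e.trans (at1_mul i v0 z0).symm)).1
  · rw [← map_inv, ← map_mul, ← map_mul, ← map_mul]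
    refine congrArg π (Subtype.ext ?_)
    show vv θ j * (ee θ j * zs θ I) * (vv θ j)⁻¹ = ee θ j * zs θ I * zz θ j
    have h1 : vv θ j * zs θ I * (vv θ j)⁻¹ = zs θ I := fx_map_zs _ I
    have h2 : zs θ I * zz θ j = zz θ j * zs θ I := fx_iff.1 (fx_map_zz _ j)
    rw [← conj_mul, vv_conj_ee, h1, mul_assoc, mul_assoc, h2]
  · rw [hα, ← map_inv, ← map_mul, ← map_mul]
    refine congrArg π (Subtype.ext ((hκ _).trans ?_))
    show w * μ * w⁻¹ = zz θ j * μ * (zz θ j)⁻¹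
    have h1 : w * zz θ j * μ * (w * zz θ j)⁻¹ = μ := fx_symm μw
    have h2 : (zz θ j)⁻¹ = zz θ j := inv_eq_of_mul_eq_one_right (zz_sq j)
    rw [fx_iff.1 (wf z0)] at h1
    calc w * μ * w⁻¹ = (zz θ j)⁻¹ * (zz θ j * w * μ * (zz θ j * w)⁻¹) * (zz θ j)⁻¹⁻¹ := by group
      _ = zz θ j * μ * (zz θ j)⁻¹ := by rw [h1, h2, h2]

end Cfsg.Agent.H65.Alt
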