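import Cfsg.Agent.H65.FsReal1

set_option autoImplicit false

namespace Cfsg.Agent.H65
open Module Polynomial Submodule

universe u

section
variable {F V : Type u} [Field F] [AddCommGroup V] [Module F V] {Q : QuadraticForm F V}

/-- `x + x⁻¹` -/
def SS (x : V ≃ₗ[F] V) : End F V := (x : V →ₗ[F] V) + (x.symm : V →ₗ[F] V)

theorem SS_apply (x : V ≃ₗ[F] V) (v : V) : SS x v = x v + x.symm v := rfl

theorem zpow_rep (i : ℤ) : ∃ f g : F[X], ∀ (x : V ≃ₗ[F] V) (v : V),
    (x ^ i) v = aeval (SS x) f v + aeval (SS x) g (x v) := by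
  induction i using Int.induction_on with
  | zero => exact ⟨1, 0, by simp⟩
  | succ i ih =>
    obtain ⟨f, g, h⟩ := ih
    refine ⟨-g, f + g * X, fun x v => ?_⟩
    rw [zpow_add_one, LinearEquiv.mul_apply, h]
    simp [SS_apply]
    abel
  | pred i ih =>
    obtain ⟨f, g, h⟩ := ih
    refine ⟨f * X + g, -f, fun x v => ?_⟩
    rw [zpow_sub_one, LinearEquiv.mul_apply, h, show x⁻¹ = x.symm from rfl]
    simp [SS_apply]
    abel

theorem pow_red {T : End F V} {k : ℕ} (h : T ^ (k + 1) = 0) (q : F[X]) (v : V) :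
    aeval T (X ^ k * q) v = q.coeff 0 • (T ^ k) v := by
  conv_lhs => rw [← X_mul_divX_add q, mul_add, ← mul_assoc, ← pow_succ, mul_comm _ (C _)]
  simp [h, Algebra.algebraMap_eq_smul_one]

variable {x : V ≃ₗ[F] V}

theorem x_SS (f : F[X]) (v : V) : x (aeval (SS x) f v) = aeval (SS x) f (x v) :=
  semi_aeval (y := (x : V →ₗ[F] V)) (by ext v; simp [SS_apply]) f v

theorem pb_x (hx : ∀ v, Q (x v) = Q v) (a b : V) :
    Q.polarBilin (x a) b = Q.polarBilin a (x.symm b) := by
  rw [← pb_iso (map_add x) hx a, x.apply_symm_apply]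

theorem pb_SS (hx : ∀ v, Q (x v) = Q v) (f : F[X]) (a b : V) :
    Q.polarBilin (aeval (SS x) f a) b = Q.polarBilin a (aeval (SS x) f b) := by
  induction f using Polynomial.induction_on generalizing a b with
  | C c => simp only [aeval_C, algebraMap_end_apply, map_smul, LinearMap.smul_apply]
  | add f g h1 h2 => simp only [map_add, LinearMap.add_apply, h1, h2]
  | monomial n c h =>
    have : ∀ a b, Q.polarBilin (SS x a) b = Q.polarBilin a (SS x b) := fun a b => by
      simp only [SS_apply, map_add, LinearMap.add_apply]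
      rw [pb_x hx a b, pb_comm (x.symm a), ← pb_x hx b a, pb_comm (x b), add_comm]
    rw [pow_succ, ← mul_assoc, map_mul, aeval_X, End.mul_apply, h, this, semi_aeval rfl,
      End.mul_apply]

theorem ql_add (hx : ∀ v, Q (x v) = Q v) (f : F[X]) (a b : V) :
    Q.polarBilin (aeval (SS x) f (x (a + b))) (a + b) = Q.polarBilin (aeval (SS x) f (x a)) a +
      Q.polarBilin (aeval (SS x) f (x b)) b + Q.polarBilin (aeval (SS x) f (SS x a)) b := by
  simp only [SS_apply, map_add, LinearMap.add_apply]
  rw [← x_SS f b, pb_x hx _ a, pb_SS hx f b, pb_comm b]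
  abel

variable [CharP F 2]

theorem pb_alt (hx : ∀ v, Q (x v) = Q v) (f : F[X]) (w : V) :
    Q.polarBilin (aeval (SS x) f w) w = 0 := by
  have : ∀ n w, Q.polarBilin (aeval (SS x) (X ^ n : F[X]) w) w = 0 := fun n => by
    induction n using Nat.twoStepInduction with
    | zero => simp [CharTwo.two_eq_zero]
    | one =>
      intro w
      rw [pow_one, aeval_X, SS_apply, map_add, LinearMap.add_apply, pb_x hx, pb_comm w,
        CharTwo.add_self_eq_zero]
    | more n h _ =>
      intro w
      rw [pow_succ, pow_succ', map_mul, map_mul, End.mul_apply, End.mul_apply, pb_SS hx, h]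
  induction f using Polynomial.induction_on' with
  | add f g h1 h2 => simp only [map_add, LinearMap.add_apply, h1, h2, add_zero]
  | monomial n c => rw [← smul_X_eq_monomial, map_smul, LinearMap.smul_apply, map_smul,
      LinearMap.smul_apply, this, smul_zero]

variable [FiniteDimensional F V] (hQ : ∀ a, (∀ b, Q.polarBilin a b = 0) → a = 0)
  (hx : ∀ v, Q (x v) = Q v) (ih : GoodIH Q)
include hQ hx ih

theorem good_cyc {π : F[X]} (hπ : Prime π) {k : ℕ} {w : V} (z : aeval (SS x) (π ^ (k + 1)) w = 0)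
    (n : Q.polarBilin (aeval (SS x) (π ^ k) (x w)) w ≠ 0) : GoodInv Q x := by
  refine good_step hQ hx ih (T := SS x) (p := X) (w := w) (w' := x w) (fun y hy => ?_)
    (fun U h v hv => U.add_mem (h 1 v hv) (by simpa using h (-1) v hv)) (hx w).symm (fun i => ?_) hπ z
    (by rw [← x_SS, z, map_zero]) (fun _ => pb_alt hx _ _) (fun _ => pb_alt hx _ _)
    (by rwa [pb_SS hx, pb_comm]) n (fun i => ?_) fun i => ?_
  · ext v
    have := hy (x.symm v)
    rw [x.apply_symm_apply] at this
    simp only [aeval_X, End.mul_apply, SS_apply, map_add]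
    rw [← this, ← hy v, x.symm_apply_apply, hy, add_comm]
  · rw [← pb_iso (map_add x) hx]
    exact congrArg (Q.polarBilin · _) (((zpow_zpow_apply 1 i w).trans (by rw [add_comm])).trans
      (zpow_zpow_apply i 1 w).symm)
  · exact (zpow_rep (V := V) i).imp fun f => .imp fun g h => h x w
  · exact (zpow_rep (V := V) (i + 1)).imp fun f => .imp fun g h =>
      (zpow_zpow_apply i 1 w).trans (h x w)

theorem good_bi {N : End F V} (hN : ∀ v, N v = x v + v) {K : ℕ} (z : N ^ (K + 1) = 0)
    (d : ∀ w, Q.polarBilin ((N ^ K) w) w = 0) {w : V} {t : F} (ht : t ≠ 0)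
    (hk : ∀ (a : F) (g : F[X]) (c : F), a • w + (aeval (SS x) g (SS x w) + c • (N ^ K) w) = 0 →
      a * Q w + (Q.polarBilin (aeval (SS x) g (x w)) w + c * t) = 0) : GoodInv Q x := by
  let A : V → F[X] →ₗ[F] V := fun a => LinearMap.applyₗ a ∘ₗ (aeval (SS x)).toLinearMap
  obtain ⟨u, hu⟩ := exists_rep hQ ((LinearMap.toSpanSingleton F V w).coprod
    ((A (SS x w)).coprod (LinearMap.toSpanSingleton F V ((N ^ K) w))))
    ((LinearMap.toSpanSingleton F F (Q w)).coprod
    ((Q.polarBilin.flip w ∘ₗ A (x w)).coprod (LinearMap.toSpanSingleton F F t)))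
    fun m => hk m.1 m.2.1 m.2.2
  have e1 : Q.polarBilin w u = Q w := by simpa using hu (1, 0, 0)
  have e2 : ∀ g, Q.polarBilin (aeval (SS x) g (SS x w)) u =
      Q.polarBilin (aeval (SS x) g (x w)) w := fun g => by simpa [A] using hu (0, g, 0)
  have e3 : Q.polarBilin ((N ^ K) w) u = t := by simpa using hu (0, 0, 1)
  have hxN : ∀ v, x v = N v - v := fun v => by rw [hN, add_sub_cancel_right]
  obtain ⟨r, hr⟩ : ∃ r : F[X], ∀ v, aeval N r (x v) = v :=
    ⟨-∑ i ∈ Finset.range (K + 1), X ^ i, fun v => by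
      have := LinearMap.congr_fun (geom_sum_mul N (K + 1)) v
      simp only [z, End.mul_apply, LinearMap.sub_apply, End.one_apply, ← hxN] at this
      simp [this]⟩
  have hs : ∀ i : ℤ, ∃ f : F[X], ∀ v, (x ^ i) v = aeval N f v := fun i => by
    induction i using Int.induction_on with
    | zero => exact ⟨1, by simp⟩
    | succ i ih =>
      obtain ⟨f, h⟩ := ih
      exact ⟨f * (X - 1), fun v => by rw [zpow_add_one, LinearEquiv.mul_apply, h, hxN]; simp⟩
    | pred i ih =>
      obtain ⟨f, h⟩ := ih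
      exact ⟨f * r, fun v => by
        rw [zpow_sub_one, LinearEquiv.mul_apply, h, map_mul, End.mul_apply, ← hr (x⁻¹ v)]
        exact congrArg (fun a => aeval N f (aeval N r a)) (x.apply_symm_apply v)⟩
  have n : Q.polarBilin ((N ^ K) (w + u)) u ≠ 0 := by
    rwa [map_add, map_add, LinearMap.add_apply, d, add_zero, e3]
  refine good_step hQ hx ih (T := N) (p := r * X) (w := u) (w' := w + u) (fun y hy => ?_)
    (fun U h v hv => hN v ▸ U.add_mem (h 1 v hv) hv) ?_ (fun i => ?_) prime_X (k := K)
    (by simp [z]) (by simp [z]) (fun q => by rw [pow_red z, map_smul, LinearMap.smul_apply, d, smul_zero])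
    (fun q => by rw [pow_red z, map_smul, LinearMap.smul_apply, d, smul_zero]) ?_ (by simpa using n)
    (fun i => (hs i).imp fun f h => ⟨0, by simp [h]⟩)
    fun i => (hs i).elim fun f h => ⟨0, f, by simp [h]⟩
  · ext v
    simp only [map_mul, aeval_X, End.mul_apply, hN, map_add, hr]
    rw [← hy v, hr, hy, add_comm]
  · rw [QuadraticMap.map_add Q, ← QuadraticMap.polarBilin_apply_apply, e1]
    linear_combination (-Q w) * (CharTwo.two_eq_zero (R := F))
  · obtain ⟨f, g, h⟩ := zpow_rep (F := F) (V := V) i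
    have h1 : Q.polarBilin ((x ^ i) u) w = Q.polarBilin ((x.symm ^ i) w) u := by
      rw [pb_comm, show x.symm = x⁻¹ from rfl, inv_zpow', ← zero_sub, ← pb_zpow hx]; rfl
    have h2 := e2 g
    simp only [map_add, LinearMap.add_apply, h1, h _ w, SS_apply, pb_alt hx,
      show SS x.symm = SS x from add_comm _ _] at h2 ⊢
    linear_combination (-(Q.polarBilin (aeval (SS x) f w) u) -
      Q.polarBilin (aeval (SS x) g (x w)) w) * (CharTwo.two_eq_zero (R := F)) - h2
  · have := d (w + u)
    simp only [map_pow, aeval_X, map_add, LinearMap.add_apply, d] at this n ⊢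
    exact fun h => n (by linear_combination this - h)

theorem good_of_ih : GoodInv Q x := by
  by_contra hG
  have A : ∀ {π : F[X]}, Prime π → ∀ {k : ℕ} {w : V}, aeval (SS x) (π ^ (k + 1)) w = 0 →
      Q.polarBilin (aeval (SS x) (π ^ k) (x w)) w = 0 := fun hπ _ _ z =>
    by_contra fun n => hG (good_cyc hQ hx ih hπ z n)
  have μ0 := minpoly.ne_zero (Algebra.IsIntegral.isIntegral (R := F) (SS x))
  obtain ⟨m, ν, hν, hμ⟩ := WfDvdMonoid.max_power_factor μ0 irreducible_X
  have hu : IsUnit ν := by_contra fun hu => by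
    obtain ⟨π, hπ, h1⟩ := WfDvdMonoid.exists_irreducible_factor hu
      (right_ne_zero_of_mul (hμ ▸ μ0))
    obtain ⟨k, ν', h2, h3⟩ := WfDvdMonoid.max_power_factor μ0 hπ
    obtain rfl | k := k
    · exact h2 (by simpa [← hμ, h3] using h1.mul_left (X ^ m))
    have h4 : ∀ w, Q.polarBilin (aeval (SS x) (ν' * π ^ k * ν') (x w)) w = 0 := fun w => by
      have := A hπ.prime (k := k) (w := aeval (SS x) ν' w) (by
        rw [← End.mul_apply, ← map_mul, ← h3, minpoly.aeval, LinearMap.zero_apply])
      rwa [← pb_SS hx, x_SS, ← End.mul_apply, ← End.mul_apply, ← map_mul, ← map_mul] at this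
    have h5 := minpoly.dvd F (SS x) (p := ν' * π ^ k * ν' * X) (LinearMap.ext fun a => hQ _ fun b => by
      have := ql_add hx (ν' * π ^ k * ν') a b
      rw [h4, h4, h4, zero_add, zero_add] at this
      rw [map_mul _ _ X, aeval_X, End.mul_apply, ← this])
    rw [h3, show ν' * π ^ k * ν' * X = π ^ k * (ν' * ν' * X) by ring, pow_succ, mul_assoc,
      mul_dvd_mul_iff_left (pow_ne_zero _ hπ.ne_zero)] at h5
    rcases hπ.prime.dvd_or_dvd (dvd_of_mul_right_dvd h5) with h | h
    · exact h2 ((hπ.prime.dvd_or_dvd h).elim id id)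
    · exact hν ((hπ.associated_of_dvd irreducible_X h).symm.dvd.trans h1)
  obtain ⟨j, j1, j2⟩ := Nat.exists_not_and_succ_of_not_zero_of_exists
    (p := fun n => SS x ^ n = 0) (fun h => by
      have : ∀ v : V, v = 0 := LinearMap.congr_fun h
      exact hG ⟨1, fun _ => rfl, fun _ => rfl, fun v => (this _).trans (this _).symm,
        fun v _ => ⟨0, (this _).trans (this _).symm⟩⟩)
    ⟨m, by simpa [hμ, (hu.map (aeval (SS x))).mul_left_eq_zero] using minpoly.aeval F (SS x)⟩
  have B : ∀ w, Q.polarBilin ((SS x ^ j) (x w)) w = 0 := fun w => by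
    simpa using A prime_X (k := j) (w := w) (by simp [j2])
  have P : ∀ (f : F[X]) w, (SS x ^ j) w ≠ 0 → aeval (SS x) f w = 0 → X ^ (j + 1) ∣ f :=
    fun f w h1 h2 => by
      let L : F[X] →ₗ[F] V := LinearMap.applyₗ w ∘ₗ (aeval (SS x)).toLinearMap
      exact (nd_poly prime_X 0 L L 0 (by simp) (by simp) (by simp [L, j2]) (by simp [L, j2])
        (by simpa [L] using h1) (by simpa [L] using h1) (f := f) (g := f) (by simp [L, h2])
        (by simp [L, h2])).1
  have Z : ∀ (a : F) (g : F[X]) w, X ^ (j + 1) ∣ g * X + C a →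
      a * Q w + Q.polarBilin (aeval (SS x) g (x w)) w = 0 := fun a g w h => by
    have h0 : a = 0 := by simpa using X_pow_dvd_iff.1 h 0 j.succ_pos
    rw [h0, map_zero, add_zero, pow_succ, mul_dvd_mul_iff_right X_ne_zero] at h
    obtain ⟨q, rfl⟩ := h
    rw [h0, pow_red j2, map_smul, LinearMap.smul_apply, B]; simp
  let a : End F V := x
  let N : End F V := a + 1
  have hN : ∀ v, N v = x v + v := fun _ => rfl
  have c1 : Commute (SS x) a := by ext v; simp [a, SS_apply]
  have c2 : Commute (SS x) N := c1.add_right (.one_right _)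
  have c3 : Commute a N := (Commute.refl a).add_right (.one_right _)
  have N2 : ∀ n, N ^ (2 * n) = a ^ n * SS x ^ n := fun n => by
    rw [pow_mul, ← c1.symm.mul_pow]
    congr 1
    ext v
    simp only [sq, End.mul_apply, hN, SS_apply, a, LinearEquiv.coe_coe, map_add,
      x.apply_symm_apply]
    rw [add_assoc, ← add_assoc (x v), add_self_two F, zero_add]
  have fix : ∀ E : End F V, N * E = 0 → a ^ j * E = E := fun E h => by
    have : a * E = E := by
      ext v
      rw [← add_left_inj (E v), add_self_two F]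
      exact LinearMap.congr_fun h v
    generalize j = n
    induction n with
    | zero => simp
    | succ n ih => rw [pow_succ, mul_assoc, this, ih]
  by_cases D : SS x ^ j * N = 0
  · have E : N ^ (2 * j) = SS x ^ j := by rw [N2, fix _ ((c2.pow_left j).eq ▸ D)]
    obtain ⟨u, hu⟩ := not_forall.1 fun h => j1 (LinearMap.ext h)
    obtain ⟨v, hv⟩ := not_forall.1 fun h => hu (hQ _ h)
    let q : V → F := fun w =>
      (X ^ j : F[X]).coeff 0 * Q w + Q.polarBilin (aeval (SS x) (divX (X ^ j : F[X])) (x w)) w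
    have e : ∀ w, (SS x ^ j) w =
        (X ^ j : F[X]).coeff 0 • w + aeval (SS x) (divX (X ^ j : F[X])) (SS x w) := fun w => by
      conv_lhs => rw [← aeval_X_pow (R := F), ← divX_mul_X_add (X ^ j), add_comm]
      simp only [map_add, map_mul, aeval_X, aeval_C, LinearMap.add_apply, End.mul_apply,
        algebraMap_end_apply]
    have d : ∀ w, Q.polarBilin ((SS x ^ j) w) w = 0 := fun w => by simpa using pb_alt hx (X ^ j) w
    obtain ⟨w, w1, w2⟩ : ∃ w, (SS x ^ j) w ≠ 0 ∧ q w ≠ 0 := by
      by_contra! h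
      have h1 := h u hu
      have h2 := h v fun h => hv (by
        rw [← aeval_X_pow (R := F), pb_SS hx, aeval_X_pow, h, map_zero])
      have h3 := h (u + v) fun h => hv (by simpa [d] using congrArg (Q.polarBilin · v) h)
      simp only [q, ql_add hx, QuadraticMap.map_add Q] at h1 h2 h3
      refine hv ?_
      rw [e, map_add, map_smul]
      change _ * QuadraticMap.polar Q u v + _ = _
      linear_combination h3 - h1 - h2
    refine hG (good_bi hQ hx ih hN (K := 2 * j) (by rw [pow_succ, E, D]) (E ▸ d) w2 (w := w)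
      fun b g c h => ?_)
    have := Z (b + c * (X ^ j : F[X]).coeff 0) (g + c • divX (X ^ j)) w (P _ w w1 (by
      rw [← h, E, e]
      simp only [map_add, map_mul, aeval_X, aeval_C, LinearMap.add_apply, End.mul_apply, map_smul,
        algebraMap_end_apply, LinearMap.smul_apply]
      module))
    simp only [map_add, map_smul, LinearMap.add_apply, LinearMap.smul_apply, smul_eq_mul] at this
    simp only [q]
    linear_combination this
  · have D2 : N * (SS x ^ j * N) = 0 := by
      rw [← mul_assoc, ← (c2.pow_left j).eq, mul_assoc, ← sq, ← mul_one 2, N2, pow_one, pow_one,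
        ← c1.eq, ← mul_assoc, ← pow_succ, j2, zero_mul]
    have E : N ^ (2 * j + 1) = SS x ^ j * N := by rw [pow_succ, N2, mul_assoc, fix _ D2]
    obtain ⟨w, hw⟩ := not_forall.1 fun h => D (LinearMap.ext h)
    refine hG (good_bi hQ hx ih hN (K := 2 * j + 1) (by rw [pow_succ', E, D2]) (fun w => by
      simpa [E, hN, B] using pb_alt hx (X ^ j) w) one_ne_zero (w := w) fun b g c h => ?_)
    have e : ∀ w, aeval (SS x) (g * X + C b) w = b • w + aeval (SS x) g (SS x w) := fun w => by
      simp [algebraMap_end_apply, add_comm]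
    rw [← add_assoc, ← e, E] at h
    have h1 := P (g * X + C b) (N w) hw (by
      have := congrArg N h
      rwa [map_add, map_smul, ← End.mul_apply N (_ * _), D2, LinearMap.zero_apply, smul_zero,
        add_zero, map_zero, semi_aeval c2.symm.eq] at this)
    rw [← add_assoc, Z b g w h1]
    obtain ⟨r, hr⟩ := h1
    simpa [hr, j2, show (SS x ^ j) (N w) ≠ 0 from hw] using h

end

theorem good_all {F : Type u} [Field F] [CharP F 2] (n : ℕ) : ∀ {V : Type u} [AddCommGroup V]
    [Module F V] [FiniteDimensional F V] {Q : QuadraticForm F V}, finrank F V = n →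
    (∀ a, (∀ b, Q.polarBilin a b = 0) → a = 0) → ∀ x : V ≃ₗ[F] V, (∀ v, Q (x v) = Q v) →
    GoodInv Q x := by
  induction n using Nat.strong_induction_on with
  | _ n ih =>
    intro V _ _ _ Q hn hQ x hx
    exact good_of_ih hQ hx fun U hU h x' hx' => ih _ (hn ▸ finrank_lt hU) rfl h x' hx'

theorem exists_inverter {F V : Type u} [Field F] [Finite F] [CharP F 2] [AddCommGroup V] [Module F V]
    [FiniteDimensional F V] (Q : QuadraticForm F V) (hQ : ∀ a, (∀ b, QuadraticMap.polar Q a b = 0) → a = 0)
    (x : V ≃ₗ[F] V) (hx : ∀ v, Q (x v) = Q v) :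
    ∃ y : V ≃ₗ[F] V, (∀ v, Q (y v) = Q v) ∧ y * x * y⁻¹ = x⁻¹ ∧
      2 * finrank F (LinearMap.range ((y : V →ₗ[F] V) - 1)) = finrank F V := by
  obtain ⟨y, y1, y2, y3, y4⟩ := good_all _ rfl hQ x hx
  refine ⟨.ofInvolutive y y1, y2, LinearEquiv.ext fun v => x.injective
    (((y3 (y v)).trans (y1 v)).trans (x.apply_symm_apply v).symm), ?_⟩
  have s : ∀ a b : V, a - b = a + b := fun a b => by
    rw [sub_eq_iff_eq_add, add_assoc, add_self_two F, add_zero]
  have : LinearMap.range (y - 1) = LinearMap.ker (y - 1) := by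
    ext v
    simp only [LinearMap.mem_range, LinearMap.mem_ker, LinearMap.sub_apply, End.one_apply,
      sub_eq_zero]
    refine ⟨?_, fun h => (y4 v h).imp fun a h => by rw [h, s]⟩
    rintro ⟨a, rfl⟩
    rw [map_sub, y1, s, s, add_comm]
  rw [← (y - 1).finrank_range_add_finrank_ker, ← this, two_mul]
  rfl

end Cfsg.Agent.H65
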