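import Cfsg.Agent.H65.FsDef
import Cfsg.Agent.S4475
import Cfsg.Agent.H6.FrobSchur
import Cfsg.Agent.H6.Clifford
import Cfsg.Agent.H7.Rep
import Cfsg.Agent.H88.Deg2

set_option autoImplicit false

namespace Cfsg.Agent.H65
open Module

theorem fs_im_eq_zero {G : Type*} [Group G] [Finite G] {χ : G → ℂ} (h : IsCharacter G χ) {g : G}
    (hg : IsConj g g⁻¹) : (χ g).im = 0 := by
  rw [← Complex.conj_eq_iff_im, ← H5.isCharacter_apply_inv h]
  exact (H5.isClassFunction_iff_isConj.1 (H5.isClassFunction_of_isCharacter h) _ _ hg).symm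

theorem fs_of_pp {Γ G : Type*} [Group Γ] [Group G] [Finite G] {ε : Γ →* ℤˣ} {Y : Subgroup Γ} (hP : PP ε Y)
    (π : Γ → G) (hπ : ∀ x ∈ Y, ∀ y ∈ Y, π (x * y) = π x * π y) (hs : ∀ g, ∃ y ∈ EO ε Y, π y = g)
    (hreal : ∀ g : G, IsConj g g⁻¹) (χ : Cfsg.IrrCharacter G) :
    (Nat.card G : ℂ)⁻¹ * ∑ᶠ s : G, (χ : G → ℂ) (s * s) = 1 := by
  have := Fintype.ofFinite G
  have hr : ∀ g, ((χ : G → ℂ) g).im = 0 := fun g =>
    fs_im_eq_zero (H5.isCharacter_of_isIrr χ.2) (hreal g)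
  rw [finsum_eq_sum_of_fintype]
  refine (H6.fsIndicator_eq_one_or_neg_one_of_real χ.2 hr).resolve_right fun h => ?_
  obtain ⟨_, n, ρ, hρ, rfl⟩ := χ
  obtain ⟨M, hu, hM⟩ := H31.exists_invariant_form ρ hr
  have h1 := H31.transpose_eq_fsIndicator_smul ρ hr hM
  rw [← H6.fsIndicator_def, h] at h1
  have := H7.nontrivial_of_irreducible ρ
  have h2 : π 1 = 1 := by simpa using hπ 1 Y.one_mem 1 Y.one_mem
  have h3 : ∀ g v w, Matrix.toBilin' M (ρ g v) (ρ g w) = Matrix.toBilin' M v w := fun g v w => by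
    conv_rhs => rw [← hM g, ← Matrix.toBilin'_comp]
    simp [H31.repMat_apply]
  have h4 : ∀ v w, Matrix.toBilin' M w v = -Matrix.toBilin' M v w := fun v w => by
    rw [Matrix.toBilin'_apply', Matrix.toBilin'_apply', Matrix.dotProduct_mulVec,
      ← Matrix.mulVec_transpose, h1, dotProduct_comm]
    simp [Matrix.neg_mulVec]
  obtain ⟨v, hv, h5⟩ := hP (Fin n → ℂ) (fun γ => ρ (π γ))
    (fun γ => LinearMap.comp (Matrix.toBilin' M) (ρ (π γ))) ⟨by simp [h2], fun x hx y hy => by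
      rw [hπ x hx.1 y hy.1, map_mul], fun y hy x hx v w => by
      rw [hπ y hy.1 x hx.1, map_mul]; rfl, fun y hy v w => by
      change Matrix.toBilin' M (ρ (π y⁻¹) w) v = -Matrix.toBilin' M (ρ (π y) v) w
      rw [← h3 (π y), ← Module.End.mul_apply, ← map_mul, ← hπ y hy.1 _ (Y.inv_mem hy.1),
        mul_inv_cancel, h2, map_one, h4]; rfl⟩
  have h6 := (H7.eq_bot_or_eq_top_of_invariant ρ (Submodule.span ℂ (Set.range fun g => ρ g v))
    fun g w hw => by
      refine Submodule.mem_comap.1 (Submodule.span_le (p := Submodule.comap (ρ g) _).2 ?_ hw)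
      rintro _ ⟨k, rfl⟩
      exact Submodule.subset_span ⟨g * k, by simp⟩).resolve_left fun h =>
    hv (by simpa using h.le (Submodule.subset_span ⟨1, rfl⟩))
  have h7 : (Matrix.toBilin' M).flip v = 0 := LinearMap.ker_eq_top.1 (top_unique (h6 ▸
    Submodule.span_le.2 (by
      rintro _ ⟨g, rfl⟩
      obtain ⟨y, hy, rfl⟩ := hs g
      exact h5 y hy)))
  refine hv (Matrix.mulVec_injective_of_isUnit hu (funext fun i => ?_))
  simpa [Matrix.toBilin'_apply'] using LinearMap.congr_fun h7 (Pi.single i 1)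

theorem fs_index_two {G : Type*} [Group G] [Finite G] (K : Subgroup G) (hK : K.index = 2)
    (hG : ∀ χ : Cfsg.IrrCharacter G, (Nat.card G : ℂ)⁻¹ * ∑ᶠ s : G, (χ : G → ℂ) (s * s) = 1)
    (hreal : ∀ k : K, IsConj k k⁻¹) (χ : Cfsg.IrrCharacter K) :
    (Nat.card K : ℂ)⁻¹ * ∑ᶠ s : K, (χ : K → ℂ) (s * s) = 1 := by
  classical
  have := Fintype.ofFinite G
  have := Subgroup.normal_of_index_eq_two hK
  rw [finsum_eq_sum_of_fintype]
  refine (H6.fsIndicator_eq_one_or_neg_one_of_real χ.2 fun g =>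
    fs_im_eq_zero (H5.isCharacter_of_isIrr χ.2) (hreal g)).resolve_right fun h => ?_
  obtain ⟨ψ, hψ, h1⟩ := H88.exists_irr_over K χ.2
  have hc := H5.isCharacter_of_isIrr hψ
  have hK' := H5.isCharacter_restrict hc K
  have h2 : H6.fsIndicator ψ = 1 := by
    rw [H6.fsIndicator_def, ← finsum_eq_sum_of_fintype]; exact hG ⟨ψ, hψ⟩
  have hr : ∀ g, (starRingEnd ℂ) (ψ g) = ψ g := fun g => by_contra fun h => one_ne_zero
    (h2.symm.trans (H6.fsIndicator_eq_zero_of_not_real hψ ⟨g, mt Complex.conj_eq_iff_im.2 h⟩))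
  obtain ⟨a, b, ha, -, h3, -⟩ := H6.exists_nat_fsIndicator hc
  obtain ⟨a', b', ha', -, h4, h5⟩ := H6.exists_nat_fsIndicator hK'
  obtain ⟨m, hm⟩ := H5.exists_nat_classInner (H5.isCharacter_restrict
    (H5.isCharacter_sub_of_constituent (H6.isCharacter_symSq hc) H5.isIrrCharacter_one (by
      rw [ha]
      intro h0
      rw [h2, h0, zero_sub, eq_neg_iff_add_eq_zero, add_comm] at h3
      exact Nat.cast_add_one_ne_zero b h3)) K) (H5.isCharacter_of_isIrr H5.isIrrCharacter_one)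
  have h6 : a' = m + 1 := by
    have := (H5.classInner_sub_left _ (fun _ => 1) _).symm.trans hm
    rw [H5.classInner_irr_self H5.isIrrCharacter_one, sub_eq_iff_eq_add] at this
    exact_mod_cast ha'.symm.trans this
  have h7 : a' + b' ≤ 2 := by
    simp only [hr, H5.classInner_self_eq] at h5
    have h8 := H5.classInner_irr_self hψ
    rw [H5.classInner_self_eq, ← K.index_mul_card, hK] at h8
    have h9 : ∑ g : K, ‖ψ g‖ ^ 2 ≤ ∑ g, ‖ψ g‖ ^ 2 := by
      rw [← Finset.sum_subtype (Finset.univ.filter (· ∈ K)) (by simp) fun g => ‖ψ g‖ ^ 2]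
      exact Finset.sum_le_sum_of_subset_of_nonneg (Finset.subset_univ _) fun _ _ _ => sq_nonneg _
    have h10 : (Nat.card K : ℝ)⁻¹ * ∑ g : K, ‖ψ g‖ ^ 2 = a' + b' := by exact_mod_cast h5
    have h11 : ((2 * Nat.card K : ℕ) : ℝ)⁻¹ * ∑ g, ‖ψ g‖ ^ 2 = 1 := by exact_mod_cast h8
    have h12 : (0 : ℝ) < Nat.card K := by exact_mod_cast Nat.card_pos
    push_cast at h11
    field_simp at h10 h11
    have : ((a' + b' : ℕ) : ℝ) ≤ 2 := by push_cast; nlinarith
    exact_mod_cast this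
  obtain ⟨e, he⟩ := H5.exists_nat_classInner hK' (H5.isCharacter_of_isIrr χ.2)
  have h8 := congrArg H6.fsIndicator (H6.clifford_sum K hψ χ.2 h1)
  have h9 : ∀ x : G, (Nat.card K : ℂ)⁻¹ * ∑ s : K, H6.conjChar K x χ (s * s) = -1 := fun x => by
    rw [← h, H6.fsIndicator_def, ← (MulAut.conjNormal x).toEquiv.sum_comp fun s : K => χ.1 (s * s)]
    simp [H6.conjChar_eq_comp]
  have h10 : (Nat.card (H6.inertia K χ) : ℂ) * (a' - b') = -(e * Fintype.card G) := by
    rw [← h4]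
    simp only [H6.fsIndicator_def, Pi.smul_apply, smul_eq_mul, ← Finset.mul_sum, Finset.sum_apply,
      he] at h8 ⊢
    rw [Finset.sum_comm, mul_left_comm, mul_left_comm _ (e : ℂ), Finset.mul_sum _ _ (Nat.card K : ℂ)⁻¹,
      Finset.mul_sum _ _ (Nat.card K : ℂ)⁻¹] at h8
    simp only [h9] at h8
    rw [Finset.mul_sum _ _ (Nat.card K : ℂ)⁻¹, h8]
    simp
  have h11 : (Nat.card (H6.inertia K χ) : ℤ) * (a' - b') = -(e * Fintype.card G) := by
    exact_mod_cast h10
  have h12 : 0 < e := Nat.pos_of_ne_zero fun h => h1 (by rw [he, h, Nat.cast_zero])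
  have h13 : (0 : ℤ) < e * Fintype.card G := by have := Fintype.card_pos (α := G); positivity
  have h14 : (0 : ℤ) ≤ a' - b' := by omega
  linarith [mul_nonneg (Nat.cast_nonneg (α := ℤ) (Nat.card (H6.inertia K χ))) h14]

end Cfsg.Agent.H65
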