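import Cfsg.Agent.H65.AlSd
import Cfsg.Agent.S3280
import Cfsg.Agent.S1005
import Cfsg.Agent.H46.Standard
import Cfsg.Agent.H9.SLBasic

/-! KON: the base case `A₇`. -/

set_option autoImplicit false
set_option linter.unusedSectionVars false

namespace Cfsg.Agent.H65.Alt

open Subgroup Equiv Cfsg.Agent.H49 Cfsg.Agent.ALT
open Cfsg.Agent.SAN (An Four KK NN cA)

variable {G : Type*} [Group G] [Finite G] {ι : Type*} [Fintype ι] [DecidableEq ι]
  {θ : (ι → D8) →* G} {s : Finset ι} {m : ℕ} {i : ι}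

/-- the configuration of the centraliser of an involution in `A₇` -/
structure B7 (t v e x ρ : G) : Prop extends Four t v where
  ee : e * e = 1
  et : Fx e t
  ev : e * v * e⁻¹ = v * t
  x3 : x * x * x = 1
  x1 : x ≠ 1
  xt : Fx x t
  xv : Fx x v
  ex : ¬ Fx e x
  cv : ∀ g, Fx g t → Fx g v → ∃ u y, In4 t v u ∧ y ∈ zpowers x ∧ g = u * y
  nv : ∀ g, Fx g t → Fx g v ∨ g * v * g⁻¹ = v * t
  rho : R3 ρ t v
  nu : ∃ ν, R3 ν t e
  two : ∃ J : Subgroup G, IsPGroup 2 J ∧ t ∈ J ∧ v ∈ J ∧ e ∈ J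

namespace B7

variable {t v e x ρ : G} (h : B7 t v e x ρ)
include h

theorem xi : x⁻¹ = x * x := inv_eq_of_mul_eq_one_left h.x3

theorem zp {y : G} (hy : y ∈ zpowers x) : y = 1 ∨ y = x ∨ y = x⁻¹ := by
  classical
  have o : orderOf x = 3 := orderOf_eq_prime (by rw [pow_succ, pow_two, h.x3]) h.x1
  rw [mem_zpowers_iff_mem_range_orderOf, o] at hy
  obtain ⟨k, hk, rfl⟩ := Finset.mem_image.1 hy
  rw [Finset.mem_range] at hk
  interval_cases k
  exacts [.inl (pow_zero x), .inr (.inl (pow_one x)), .inr (.inr (by rw [h.xi, pow_two]))]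

theorem fvt : Fx v t := fx_iff.2 h.uv.symm

theorem sq {g : G} (gt : Fx g t) (gv : Fx g v) : ∃ u y, In4 t v u ∧ y ∈ zpowers x ∧ g = u * y ∧
    g * g = y * y := by
  obtain ⟨u, y, hu, hy, rfl⟩ := h.cv g gt gv
  have h1 : Fx y u := hu.fx (fx_iff_mem.2 (zpowers_le.2 (fx_iff_mem.1 h.xt) hy))
    (fx_iff_mem.2 (zpowers_le.2 (fx_iff_mem.1 h.xv) hy))
  refine ⟨u, y, hu, hy, rfl, ?_⟩
  rw [mul_assoc, ← mul_assoc y, fx_iff.1 h1, ← mul_assoc, ← mul_assoc, hu.sq h.toFour, one_mul]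

theorem odd {g : G} (gt : Fx g t) (ho : ¬ 2 ∣ orderOf g) : g ∈ zpowers x := by
  have h1 : Fx (g * g) v := by
    rcases h.nv g gt with e | e
    · exact fx_mul e e
    · show g * g * v * (g * g)⁻¹ = v
      rw [← conj_conj', e, ← conj_mul, e, gt, mul_assoc, h.uu, mul_one]
  obtain ⟨u, y, -, hy, -, e⟩ := h.sq (fx_mul gt gt) h1
  have h2 : g ∈ zpowers (g ^ 2 ^ 2) := mem_zpowers_pow_iff.2
    (((Nat.Prime.coprime_iff_not_dvd (by norm_num)).2 ho).pow_left 2)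
  refine zpowers_le.2 ?_ h2
  rw [show g ^ 2 ^ 2 = g * g * (g * g) by rw [show 2 ^ 2 = 2 * 2 from rfl, pow_mul, pow_two, pow_two], e]
  exact mul_mem hy hy

theorem nx {g : G} (hg : Fx x (g⁻¹ * t * g⁻¹⁻¹)) : g * x * g⁻¹ ∈ zpowers x := by
  refine h.odd ?_ ?_
  · have := fx_conj (g := g).2 hg
    rwa [show g * (g⁻¹ * t * g⁻¹⁻¹) * g⁻¹ = t by group] at this
  · have : orderOf (g * x * g⁻¹) = 3 := orderOf_eq_prime
      (by rw [conj_pow, pow_succ, pow_two, h.x3]; group) (by simpa using h.x1)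
    rw [this]; norm_num

theorem nx' {g y : G} (hg : Fx x (g⁻¹ * t * g⁻¹⁻¹)) (hy : y ∈ zpowers x) :
    g * y * g⁻¹ ∈ zpowers x := by
  obtain ⟨k, rfl⟩ := mem_zpowers_iff.1 hy
  rw [← conj_zpow]
  exact zpow_mem (h.nx hg) k

theorem exe : e * x * e⁻¹ = x⁻¹ := by
  rcases h.zp (h.nx (g := e) (by rw [fx_inv h.et]; exact h.xt)) with e | e | e
  exacts [absurd (by simpa using e) h.x1, absurd e h.ex, e]

theorem xxi : x ≠ x⁻¹ := fun e => h.ex (h.exe.trans e.symm)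

theorem cen {z : G} (zt : Fx z t) (zv : Fx z v) (ze : Fx z e) : z = 1 ∨ z = t := by
  obtain ⟨u, y, hu, hy, e1, e2⟩ := h.sq zt zv
  have h1 : Fx e (y * y) := e2 ▸ (fx_symm ze).mul (fx_symm ze)
  have h2 : y = 1 := by
    rcases h.zp hy with e | e | e
    · exact e
    · rw [e, ← h.xi] at h1
      exact absurd (by simpa using fx_inv' h1) h.ex
    · rw [e, ← mul_inv_rev, ← h.xi, inv_inv] at h1
      exact absurd h1 h.ex
  rw [h2, mul_one] at e1
  have h3 : ¬ Fx e v := fun e => h.u1 (mul_left_cancel (a := v) (by rw [← h.ev, mul_one]; exact e))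
  rw [← e1] at hu
  rcases hu with e | e | e | e
  exacts [.inl e, .inr e, absurd (e ▸ fx_symm ze) h3, absurd (fx_cancel' (e ▸ fx_symm ze) h.et) h3]

theorem odd_case (h2 : No2 G) {N : Subgroup G} [hN : N.Normal] (ho : ¬ 2 ∣ Nat.card N) : N = ⊥ := by
  by_contra hb
  have o : ∀ g ∈ N, Fx g t → g ∈ zpowers x := fun g hg gt =>
    h.odd gt fun e => ho (e.trans (N.orderOf_dvd_natCard hg))
  have c : ∀ g : G, Fx x (g⁻¹ * t * g⁻¹⁻¹) → N ⊓ 𝒞[g * t * g⁻¹] ≤ zpowers x := fun g hg n hn => by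
    have h1 := fx_conj (g := g⁻¹).2 (fx_iff_mem.2 hn.2)
    rw [show g⁻¹ * (g * t * g⁻¹) * g⁻¹⁻¹ = t by group] at h1
    simpa [mul_assoc] using h.nx' hg (o _ (hN.conj_mem n hn.1 g⁻¹) h1)
  have r3 := conj_inv_of (h.rho.r3 h.uu)
  have o2 : ∀ g : G, g * g = 1 → g ≠ 1 → orderOf g = 2 := fun g h1 h2 =>
    orderOf_eq_prime (by rw [pow_two, h1]) h2
  have le : N ≤ zpowers x := by
    refine H46.le_of_four (o2 t h.uu h.u1) (o2 v h.vv h.v1) h.ne h.uv ho
      (by rw [normalizer_eq_top]; trivial) (by rw [normalizer_eq_top]; trivial)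
      (fun n hn => o n hn.1 (fx_iff_mem.2 hn.2)) ?_ ?_
    · rw [← h.rho.r1]; exact c ρ (by rw [r3]; exact h.xv.mul h.xt)
    · rw [h.uv, ← r3]; exact c ρ⁻¹ (by simp only [inv_inv]; rw [h.rho.r1]; exact h.xv)
  obtain ⟨⟨n, hn⟩, n1⟩ := ne_bot_iff_exists_ne_one.1 hb
  have xN : x ∈ N := by
    rcases h.zp (le hn) with e | e | e
    exacts [absurd (Subtype.ext e) n1, e ▸ hn, inv_mem_iff.1 (e ▸ hn)]
  refine h2 𝒞[x] (index_eq_two_iff_exists_notMem_and'.2 ⟨e, fun e => h.ex (fx_iff_mem.2 e),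
    fun b => ?_⟩)
  rcases h.zp (le (hN.conj_mem x xN b)) with e1 | e1 | e1
  · exact absurd (by simpa using e1) h.x1
  · exact .inr (fx_iff_mem.1 e1)
  · refine .inl (fx_iff_mem.1 ?_)
    show e * b * x * (e * b)⁻¹ = x
    rw [← conj_conj', e1, ← conj_inv, h.exe, inv_inv]

theorem even_case {N : Subgroup G} [hN : N.Normal] (ho : 2 ∣ Nat.card N) : N = ⊤ := by
  obtain ⟨J, hJ, tJ, vJ, eJ⟩ := h.two
  have cP : ∀ P : Subgroup G, J ≤ P → ∀ z ∈ 𝒞(P), z = 1 ∨ z = t := fun P hP z hz =>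
    h.cen (fx_iff.2 (hz t (hP tJ)).symm) (fx_iff.2 (hz v (hP vJ)).symm) (fx_iff.2 (hz e (hP eJ)).symm)
  have tN : t ∈ N := by
    obtain ⟨j, hj⟩ := exists_prime_orderOf_dvd_card' 2 ho
    rw [← orderOf_coe] at hj
    obtain ⟨P, pP, JP, -, c, -, hc⟩ := exists_conj_le (M := ⊤) (X := J) (Y := zpowers (j : G)) le_top
      le_top hJ (IsPGroup.of_card (n := 1) (by rw [Nat.card_zpowers, hj]; rfl))
    have h1 : N ⊓ P ≠ ⊥ := fun e => by
      have : c * j * c⁻¹ ∈ N ⊓ P := ⟨hN.conj_mem _ j.2 c, hc (conj_mem_cj.2 (mem_zpowers _))⟩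
      rw [e, mem_bot, conj_eq_one_iff] at this
      rw [this, orderOf_one] at hj
      exact absurd hj (by norm_num)
    obtain ⟨⟨z, hz⟩, z1⟩ := ne_bot_iff_exists_ne_one.1 (inf_center_ne_bot_of_nilpotent
      pP.isNilpotent inf_le_right (le_norm_iff.2 fun a ha y hy =>
        ⟨hN.conj_mem y hy.1 a, P.mul_mem (P.mul_mem ha hy.2) (P.inv_mem ha)⟩) h1)
    exact (cP P JP z hz.2).resolve_left (fun e => z1 (Subtype.ext e)) ▸ hz.1.1
  obtain ⟨ν, hν⟩ := h.nu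
  have vN : v ∈ N := h.rho.r1 ▸ hN.conj_mem t tN ρ
  have eN : e ∈ N := hν.r1 ▸ hN.conj_mem t tN ν
  have xN : x ∈ N := by
    have := mul_mem (hN.conj_mem e eN x) (inv_mem eN)
    rwa [show x * e * x⁻¹ * e⁻¹ = x * (e * x * e⁻¹)⁻¹ by group, h.exe, inv_inv, ← h.xi,
      inv_mem_iff] at this
  have c1 : ∀ g, Fx g t → Fx g v → g ∈ N := fun g gt gv => by
    obtain ⟨u, y, hu, hy, rfl⟩ := h.cv g gt gv
    refine mul_mem ?_ (zpowers_le.2 xN hy)
    rcases hu with e | e | e | e <;> rw [e]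
    exacts [one_mem N, tN, vN, mul_mem vN tN]
  have c2 : ∀ g, Fx g t → g ∈ N := fun g gt => by
    rcases h.nv g gt with e1 | e1
    · exact c1 g gt e1
    · refine (mul_mem_cancel_right eN).1 (c1 _ (fx_mul gt h.et) ?_)
      show g * e * v * (g * e)⁻¹ = v
      rw [← conj_conj', h.ev, ← conj_mul, e1, gt, mul_assoc, h.uu, mul_one]
  obtain ⟨S, hS⟩ := hJ.exists_le_sylow
  obtain ⟨⟨z, hz⟩, z1⟩ := ne_bot_iff_exists_ne_one.1 (center_ne_bot_of_nilpotent
    S.isPGroup'.isNilpotent fun e => h.u1 (by have := hS tJ; rwa [e] at this))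
  have zt : z = t := (cP S hS z hz.2).resolve_left fun e => z1 (Subtype.ext e)
  have St : ∀ g ∈ (S : Subgroup G), Fx g t := fun g hg => fx_iff.2 (zt ▸ hz.2 g hg)
  rw [← S.normalizer_sup_eq_top' (N := N) fun g hg => c2 g (St g hg), eq_comm, sup_eq_right]
  intro g hg
  refine c2 g ((cP S hS _ fun y hy => ?_).resolve_left (by simpa using h.u1))
  have := fx_conj (g := g).2 (St _ ((mem_normalizer_iff''.1 hg y).1 hy))
  rw [show g * (g⁻¹ * y * g) * g⁻¹ = y by group] at this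
  exact fx_iff.1 this

theorem cw : Nat.card 𝒞[v * e] ≤ 4 := by
  have w2 : v * e * (v * e) = t := by
    rw [show v * e * (v * e) = v * (e * v * e⁻¹) * (e * e) by group, h.ev, h.ee, mul_one,
      ← mul_assoc, h.vv, one_mul]
  have c : ∀ g, Fx g (v * e) → Fx g v → g ∈ zpowers (v * e) := fun g h1 h2 => by
    rcases h.cen (w2 ▸ h1.mul h1) h2 (fx_cancel h1 h2) with e | e <;> rw [e]
    exacts [one_mem _, w2 ▸ mul_mem (mem_zpowers _) (mem_zpowers _)]
  have le : 𝒞[v * e] ≤ zpowers (v * e) := fun g hg => by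
    have h1 := fx_iff_mem.2 hg
    have gt : Fx g t := w2 ▸ h1.mul h1
    rcases h.nv g gt with e1 | e1
    · exact c g h1 e1
    · refine (mul_mem_cancel_right (mem_zpowers _)).1 (c _ (fx_mul h1 (fx_self _)) ?_)
      show g * (v * e) * v * (g * (v * e))⁻¹ = v
      rw [← conj_conj', ← conj_conj', h.ev, (fx_self v).mul h.fvt, ← conj_mul, e1, gt, mul_assoc,
        h.uu, mul_one]
  refine (card_le_of_le le).trans ?_
  rw [Nat.card_zpowers]
  exact orderOf_le_of_pow_eq_one (by norm_num) (by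
    rw [show 4 = 2 * 2 from rfl, pow_mul, pow_two, pow_two, w2, h.uu])

omit h in
theorem no6 {n : ℕ} (hn : ∀ g : Perm (Fin n), Perm.sign g = 1 → g ^ 6 = 1 → g ^ 2 = 1 ∨ g ^ 3 = 1)
    (f : G ≃* An n) (g : G) (hg : g ^ 6 = 1) : g ^ 2 = 1 ∨ g ^ 3 = 1 := by
  have c : ∀ k : ℕ, (f g).1 ^ k = 1 ↔ g ^ k = 1 := fun k => by
    rw [← coe_pow, ← map_pow, OneMemClass.coe_eq_one, f.map_eq_one_iff]
  rw [← c, ← c]
  exact hn _ (SAN.sign_coe _) ((c 6).2 hg)

theorem main (h2 : No2 G) : Nonempty (G ≃* An 7) := by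
  have : Nontrivial G := ⟨_, _, h.x1⟩
  have : IsSimpleGroup G := ⟨fun N _ => (em (2 ∣ Nat.card N)).symm.imp (h.odd_case h2) h.even_case⟩
  have c : Commute t x := (fx_iff.1 h.xt).symm
  have t2 : t ^ 2 = 1 := by rw [pow_two, h.uu]
  have x3 : x ^ 3 = 1 := by rw [pow_succ, pow_two, h.x3]
  have g6 : (t * x) ^ 6 = 1 := by
    rw [c.mul_pow, show t ^ 6 = (t ^ 2) ^ 3 by group, show x ^ 6 = (x ^ 3) ^ 2 by group, t2, x3]
    simp
  have g2 : ¬ ((t * x) ^ 2 = 1 ∨ (t * x) ^ 3 = 1) := by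
    rw [c.mul_pow, c.mul_pow, t2, x3, pow_succ t, t2, one_mul, one_mul, mul_one, pow_two, ← h.xi,
      inv_eq_one]
    exact fun e => e.elim h.x1 h.u1
  rcases S3280.result (fun hc => h.ex (fx_iff.2 (hc.isMulCommutative.is_comm.comm e x))) _ h.cw with
    ⟨⟨f⟩⟩ | ⟨⟨f⟩⟩ | h7 | ⟨F, _, _, hF, ⟨f⟩⟩
  · exact absurd (no6 (by decide +kernel) f _ g6) g2
  · exact absurd (no6 (by decide +kernel) f _ g6) g2
  · exact h7
  · have h1 := H9.gcd_mul_card_psl_two (F := F)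
    rw [hF, ← Nat.card_congr f.toEquiv] at h1
    have h3 := orderOf_dvd_of_pow_eq_one g6
    refine absurd ?_ g2
    rcases (S1005.result (G := G) (by norm_num at h1; omega)).1 (t * x) with e | e | e | e | e
    · exact .inl (orderOf_dvd_iff_pow_eq_one.1 (by rw [e]; norm_num))
    · exact .inl (e ▸ pow_orderOf_eq_one _)
    · exact .inr (e ▸ pow_orderOf_eq_one _)
    · rw [e] at h3; norm_num at h3
    · rw [e] at h3; norm_num at h3

end B7

theorem base7 (h : KG 7 θ s) (h2 : No2 G) (hi : i ∈ s) (p : PF θ i)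
    (hE : ∃ ν I, Rot θ i ν (ee θ i * zs θ I)) : Nonempty (G ≃* An 7) := by
  have c1 : Fintype.card ι = 1 := by have := h.card; omega
  have : Subsingleton ι := Fintype.card_le_one_iff_subsingleton.1 c1.le
  have hs : ∀ I : Finset ι, i ∈ I → I = {i} := fun I hI => by
    ext j; simp [Subsingleton.elim j i, hI]
  have sz : zs θ s = zz θ i := by rw [hs s hi, zs_singleton]
  obtain ⟨α, ψ, -, a0, inj, -, hv⟩ := h.quo i hi
  obtain rfl : α = 1 := Subtype.ext (Perm.card_support_eq_zero.1 (by rw [a0, hs s hi]; simp))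
  have c3 : Nat.card 𝒞[(1 : An (7 - 4))] = 3 := by
    have : Nontrivial (Fin (7 - 4)) := Fin.nontrivial_iff_two_le.2 (by norm_num)
    rw [show 𝒞[(1 : An (7 - 4))] = ⊤ from eq_top_iff.2 fun g _ => mem_cent1.2 (by simp), card_top,
      nat_card_alternatingGroup]
    simp [Nat.factorial]
  have : Nontrivial 𝒞[(1 : An (7 - 4))] := Finite.one_lt_card_iff_nontrivial.1 (by omega)
  obtain ⟨a, a1⟩ := exists_ne (1 : 𝒞[(1 : An (7 - 4))])
  have : Fact (Nat.Prime 3) := ⟨by norm_num⟩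
  have x3 : ψ a * ψ a * ψ a = 1 := by
    have := pow_card_eq_one' (x := a)
    rw [c3, pow_succ, pow_two] at this
    rw [← map_mul, ← map_mul, this, map_one]
  have x1 : ψ a ≠ 1 := fun e => a1 (inj (e.trans (map_one ψ).symm))
  obtain ⟨-, xt, xv⟩ := (hv (ψ a)).2 ⟨1, a, .inl rfl, (one_mul _).symm⟩
  obtain ⟨ρ, hρ⟩ := p.rho
  refine B7.main (x := ψ a) (e := ee θ i) ⟨four_zv h.js.1 i, ee_sq i, fx_map_zz _ i, ee_conj_vv i,
    x3, x1, xt, xv, fun e => ?_, fun g gt gv => ?_, fun g gt => h.nv i g (sz ▸ gt) gt, hρ.toR3, ?_,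
    θ.range, two_range, ⟨_, rfl⟩, ⟨_, rfl⟩, ⟨_, rfl⟩⟩ h2
  · obtain ⟨I, hI⟩ := h.cJ (ψ a) fun d => by
      have f1 : Fx (ψ a) (at1 θ i 1) := by rw [at1, Pi.mulSingle_one, map_one]; exact Fx.one _
      obtain ⟨b, hb, c, hc, e1⟩ := d8_split (d i)
      rw [show θ d = at1 θ i (d i) from congrArg θ (funext fun j => by
        rw [Subsingleton.elim j i, Pi.mulSingle_eq_same]), e1, at1_mul]
      refine Fx.mul ?_ ?_
      · rcases hb with rfl | rfl | rfl | rfl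
        exacts [f1, xt, xv, at1_mul (θ := θ) i _ _ ▸ xv.mul xt]
      · rcases hc with rfl | rfl | rfl | rfl
        exacts [f1, xt, fx_symm e, at1_mul (θ := θ) i _ _ ▸ (fx_symm e).mul xt]
    rw [hI, zs_sq, one_mul] at x3
    exact x1 (hI.trans x3)
  · obtain ⟨u, y, hu, rfl⟩ := (hv g).1 ⟨sz ▸ gt, gt, gv⟩
    obtain ⟨k, rfl⟩ := mem_zpowers_iff.1 (zpowers_eq_top_of_prime_card c3 a1 ▸ mem_top y)
    exact ⟨u, _, hu, map_zpow ψ a k ▸ zpow_mem (mem_zpowers _) k, rfl⟩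
  · obtain ⟨ν, I, hν⟩ := hE
    by_cases hI : i ∈ I
    · have := hν.toR3.inv (zz_sq i)
      rw [hs I hI, zs_singleton, mul_assoc, zz_sq, mul_one] at this
      exact ⟨_, this⟩
    · have := hν.toR3
      rw [show I = ∅ from Finset.eq_empty_of_forall_notMem fun j => Subsingleton.elim i j ▸ hI,
        zs_empty, mul_one] at this
      exact ⟨_, this⟩

end Cfsg.Agent.H65.Alt
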