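import Cfsg.Agent.ALT.KIso
import Cfsg.Agent.SAN.Defs

/-! Kondo's characterisation of `Aₘ` by the centraliser of an involution (notes/KON.md): definitions. -/

set_option autoImplicit false
set_option linter.unusedSectionVars false

namespace Cfsg.Agent.H65.Alt

open Subgroup Equiv Cfsg.Agent.H49 Cfsg.Agent.ALT
open Cfsg.Agent.SAN (An Four KK NN cA)

variable {G : Type*} [Group G] {ι : Type*} [Fintype ι] [DecidableEq ι]

/-- no subgroup of index two -/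
def No2 (G : Type*) [Group G] : Prop := ∀ H : Subgroup G, H.index ≠ 2

abbrev zz (θ : (ι → D8) →* G) (i : ι) : G := at1 θ i z0
abbrev vv (θ : (ι → D8) →* G) (i : ι) : G := at1 θ i v0
abbrev ee (θ : (ι → D8) →* G) (i : ι) : G := at1 θ i e0

/-- membership in the four-group `⟨t, v⟩` -/
def In4 (t v u : G) : Prop := u = 1 ∨ u = t ∨ u = v ∨ u = v * t

/-- `ν` permutes `t → c → c t → t` -/
structure R3 (ν t c : G) : Prop where
  r1 : ν * t * ν⁻¹ = c
  r2 : ν * c * ν⁻¹ = c * t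

/-- `ν` rotates `⟨zᵢ, c⟩` and fixes the other factors up to `zᵢ` -/
structure Rot (θ : (ι → D8) →* G) (i : ι) (ν c : G) : Prop extends R3 ν (zz θ i) c where
  fz : ∀ l, l ≠ i → Fx ν (zz θ l)
  fx : ∀ d, d i = 1 → Fx ν (θ d) ∨ Fx ν (θ d * zz θ i)

/-- facts on `H = C(z_s)`, part A -/
structure KA (θ : (ι → D8) →* G) (s : Finset ι) : Prop where
  js : JS θ
  cJ : ∀ x, (∀ d, Fx x (θ d)) → ∃ I, x = zs θ I
  nv : ∀ i h, Fx h (zs θ s) → Fx h (zz θ i) → Fx h (vv θ i) ∨ h * vv θ i * h⁻¹ = vv θ i * zz θ i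
  perm : ∀ π : Perm ι, (∀ i, π i ∈ s ↔ i ∈ s) → ∃ h, ∀ d, h * θ d * h⁻¹ = θ (d ∘ π.symm)
  rho : ∀ j, j ∉ s → ∃ ρ, Rot θ j ρ (vv θ j) ∧ ∀ d, d j = 1 → Fx ρ (θ d)
  mu : ∀ j, j ∉ s → ∃ μ, Rot θ j μ (ee θ j) ∧
    ∀ l, l ≠ j → Fx μ (vv θ l) ∧ Fx μ (ee θ l * zz θ j)

/-- facts on `H = C(z_s)`, part B -/
structure KB (θ : (ι → D8) →* G) (s : Finset ι) : Prop where
  eV : ∃ K : Subgroup G, K ≤ 𝒞[zs θ s] ∧ K.relIndex 𝒞[zs θ s] = 2 ∧ ∀ i ∈ s, vv θ i ∉ K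
  eE : ∃ K : Subgroup G, K ≤ 𝒞[zs θ s] ∧ K.relIndex 𝒞[zs θ s] = 2 ∧ ∀ i ∈ s, ee θ i ∉ K
  supp : ∀ i ∈ s, ∀ h d, Fx h (zs θ s) → h * zz θ i * h⁻¹ = θ d → ∀ l ∈ s, d l ∈ E0
  pair : ∀ i ∈ s, ∀ j ∈ s, i ≠ j → ∃ h, Fx h (zs θ s) ∧ h * zz θ i * h⁻¹ = ee θ i * ee θ j

/-- `h ∈ H ∩ C(Vᵢ)` -/
def HV (θ : (ι → D8) →* G) (s : Finset ι) (i : ι) (h : G) : Prop :=
  Fx h (zs θ s) ∧ Fx h (zz θ i) ∧ Fx h (vv θ i)

/-- facts on `H = C(z_s)`, part C: the structure of `H ∩ C(Vᵢ)` -/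
structure KC (m : ℕ) (θ : (ι → D8) →* G) (s : Finset ι) : Prop where
  quo : ∀ i ∈ s, ∃ (α : An (m - 4)) (ψ : 𝒞[α] →* G), α * α = 1 ∧
    (α : Perm (Fin (m - 4))).support.card = 4 * (s.card - 1) ∧ Function.Injective ψ ∧
    (∀ x, In4 (zz θ i) (vv θ i) (ψ x) → x = 1) ∧
    ∀ h, HV θ s i h ↔ ∃ u x, In4 (zz θ i) (vv θ i) u ∧ h = u * ψ x
  gen : ∀ i ∈ s, 2 ≤ s.card → ∀ N : Subgroup G, (∀ h, HV θ s i h → h ∈ 𝒩(N)) → zz θ i ∈ N →
    vv θ i ∈ N → (∀ d, d i = 1 → θ d ∈ N) → ∀ h, HV θ s i h → h ∈ N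

/-- `C(z_s)` looks like the centraliser in `Aₘ` of an involution moving `4 |s|` points -/
structure KG (m : ℕ) (θ : (ι → D8) →* G) (s : Finset ι) : Prop
    extends KA θ s, KB θ s, KC m θ s where
  ne : s.Nonempty
  card : m = 4 * Fintype.card ι + 2 ∨ m = 4 * Fintype.card ι + 3

/-- the fusion data at the factor `i` -/
structure PF (θ : (ι → D8) →* G) (i : ι) : Prop where
  rho : ∃ ρ, Rot θ i ρ (vv θ i)
  res : ∀ j, j ≠ i → ∃ ρ μ I S, Rot θ j ρ (vv θ j) ∧ Rot θ j μ (ee θ j * zs θ I) ∧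
    Fx ρ (vv θ i) ∧ Fx μ (vv θ i) ∧ Fx ρ (ee θ i * zs θ S) ∧ Fx μ (ee θ i * zs θ S * zz θ j)

/-- `C(Vᵢ)` -/
abbrev CV (θ : (ι → D8) →* G) (i : ι) : Subgroup G := 𝒞[zz θ i] ⊓ 𝒞[vv θ i]

/-- `π` is the projection `C(Vᵢ) → C(Vᵢ)/Vᵢ` -/
structure QP (θ : (ι → D8) →* G) (i : ι) {X : Type*} [Group X] (π : CV θ i →* X) : Prop where
  surj : Function.Surjective π
  ker : ∀ x, π x = 1 ↔ In4 (zz θ i) (vv θ i) x

/-- `C(V) = V L` -/
def CVf {d : ℕ} (t v : G) (f : An d →* G) : Prop :=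
  ∀ g, (Fx g t ∧ Fx g v) ↔ ∃ u a, In4 t v u ∧ g = u * f a

/-- the data of the induction step: `C(V) = V × L`, `L ≅ A_d` -/
structure SD {d : ℕ} (t v : G) (f : An d →* G) : Prop extends Four t v where
  d6 : 6 ≤ d
  inj : Function.Injective f
  cv : CVf t v f
  rho : ∃ ρ, R3 ρ t v
  ex : ∃ e, Fx e t ∧ e * v * e⁻¹ = v * t
  ni : ∀ k ∈ KK f, Fx k t → k * v * k⁻¹ ≠ v * t

/-! ### calculus -/

section Calc
variable [Finite G]

theorem fx_iff {x v : G} : Fx x v ↔ x * v = v * x := mul_inv_eq_iff_eq_mul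

theorem fx_iff_mem {x v : G} : Fx x v ↔ x ∈ 𝒞[v] := fx_iff.trans mem_cent1.symm

theorem fx_symm {x v : G} (h : Fx x v) : Fx v x := fx_iff.2 (fx_iff.1 h).symm

theorem fx_self (x : G) : Fx x x := fx_iff.2 rfl

theorem fx_inv {x v : G} (h : Fx x v) : Fx x⁻¹ v := fx_iff_mem.2 (inv_mem (fx_iff_mem.1 h))

theorem fx_mul {x y v : G} (h : Fx x v) (h' : Fx y v) : Fx (x * y) v :=
  fx_iff_mem.2 (mul_mem (fx_iff_mem.1 h) (fx_iff_mem.1 h'))

theorem fx_pow {x v : G} (h : Fx x v) (k : ℕ) : Fx (x ^ k) v :=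
  fx_iff_mem.2 (pow_mem (fx_iff_mem.1 h) k)

theorem fx_inv' {x v : G} (h : Fx x v) : Fx x v⁻¹ := fx_symm (fx_inv (fx_symm h))

theorem fx_cancel {x u v : G} (h : Fx x (u * v)) (h' : Fx x u) : Fx x v := by
  simpa using (fx_inv' h').mul h

theorem fx_cancel' {x u v : G} (h : Fx x (u * v)) (h' : Fx x v) : Fx x u := by
  simpa using h.mul (fx_inv' h')

theorem mem_CV {θ : (ι → D8) →* G} {i : ι} {g : G} :
    g ∈ CV θ i ↔ Fx g (zz θ i) ∧ Fx g (vv θ i) := by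
  rw [mem_inf, fx_iff_mem, fx_iff_mem]

theorem conj_inv_of {g a b : G} (h : g * a * g⁻¹ = b) : g⁻¹ * b * g⁻¹⁻¹ = a := by rw [← h]; group

theorem R3.sq {ν t c : G} (h : R3 ν t c) (tt : t * t = 1) : c * c = 1 := by
  rw [← h.r1, conj_mul, tt]; group

theorem R3.comm {ν t c : G} (h : R3 ν t c) (tt : t * t = 1) : c * t = t * c := by
  have h1 := h.sq tt
  have h2 : c * t * (c * t) = 1 := by rw [← h.r2, conj_mul, h1]; group
  calc c * t = (c * t)⁻¹ := (inv_eq_of_mul_eq_one_right h2).symm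
    _ = t * c := by rw [mul_inv_rev, inv_eq_of_mul_eq_one_right tt, inv_eq_of_mul_eq_one_right h1]

theorem R3.r3 {ν t c : G} (h : R3 ν t c) (tt : t * t = 1) : ν * (c * t) * ν⁻¹ = t := by
  rw [← conj_mul, h.r1, h.r2, h.comm tt, mul_assoc, h.sq tt, mul_one]

theorem R3.inv {ν t c : G} (h : R3 ν t c) (tt : t * t = 1) : R3 ν⁻¹ t (c * t) :=
  ⟨conj_inv_of (h.r3 tt), by rw [mul_assoc c, tt, mul_one]; exact conj_inv_of h.r2⟩

theorem R3.conj {ν t c : G} (h : R3 ν t c) (g : G) :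
    R3 (g * ν * g⁻¹) (g * t * g⁻¹) (g * c * g⁻¹) :=
  ⟨by rw [← h.r1]; group, by
    rw [show g * c * g⁻¹ * (g * t * g⁻¹) = g * (c * t) * g⁻¹ by group, ← h.r2]; group⟩

theorem R3.not_fx {ν t c : G} (h : R3 ν t c) (tt : t * t = 1) (t1 : t ≠ 1) : ¬ Fx ν t := fun e => by
  have e1 : c = t := h.r1.symm.trans e
  have := h.r2
  rw [e1, tt, e] at this
  exact t1 this

variable {θ : (ι → D8) →* G}

theorem zz_sq (i : ι) : zz θ i * zz θ i = 1 := VV_sq _ (z_mem i)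
theorem vv_sq (i : ι) : vv θ i * vv θ i = 1 := VV_sq _ (at1_mem (by decide))
theorem ee_sq (i : ι) : ee θ i * ee θ i = 1 := by
  rw [← at1_mul, show e0 * e0 = 1 by decide, at1]; simp
theorem zs_sq (I : Finset ι) : zs θ I * zs θ I = 1 := VV_sq _ (zs_mem_VV I)

theorem fx_map_zs (d : ι → D8) (I : Finset ι) : Fx (θ d) (zs θ I) :=
  fx_iff.2 (zs_comm I _ ⟨d, rfl⟩).symm

theorem fx_map_zz (d : ι → D8) (i : ι) : Fx (θ d) (zz θ i) := by
  rw [zz, ← zs_singleton]; exact fx_map_zs d {i}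

theorem fx_at1 {d : ι → D8} {i : ι} (h : d i = 1) (x : D8) : Fx (θ d) (at1 θ i x) := by
  rw [fx_iff, at1, ← map_mul, ← map_mul]
  congr 1
  funext j
  by_cases e : j = i
  · subst e; simp [h]
  · simp [e]

theorem fx_at1_at1 {i j : ι} (h : i ≠ j) (x y : D8) : Fx (at1 θ i x) (at1 θ j y) :=
  fx_at1 (by simp [h.symm]) y

theorem ee_conj_vv (i : ι) : ee θ i * vv θ i * (ee θ i)⁻¹ = vv θ i * zz θ i := by
  rw [mul_inv_eq_iff_eq_mul, ← at1_mul, ← at1_mul, ← at1_mul]; congr 1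

theorem vv_conj_ee (i : ι) : vv θ i * ee θ i * (vv θ i)⁻¹ = ee θ i * zz θ i := by
  rw [mul_inv_eq_iff_eq_mul, ← at1_mul, ← at1_mul, ← at1_mul]; congr 1

theorem fx_zs_of {x : G} {I : Finset ι} (h : ∀ i ∈ I, Fx x (zz θ i)) : Fx x (zs θ I) := by
  induction I using Finset.induction_on with
  | empty => rw [zs_empty]; exact Fx.one x
  | insert i I hi ih =>
    rw [zs_insert hi]
    exact (h i (by simp)).mul (ih fun j hj => h j (by simp [hj]))

theorem zs_erase {I : Finset ι} {i : ι} (h : i ∈ I) : zs θ I = zz θ i * zs θ (I.erase i) := by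
  rw [← zs_insert (I.notMem_erase i), Finset.insert_erase h]

theorem four_zv (hθ : Function.Injective θ) (i : ι) : Four (zz θ i) (vv θ i) :=
  ⟨zz_sq i, vv_sq i, (fx_iff.1 (fx_map_zz _ i)).symm, at1_ne hθ i z0_ne, at1_ne hθ i (by decide),
    fun e => absurd (at1_inj hθ z0_ne e).2 (by decide)⟩

theorem Rot.inv {i : ι} {ν c : G} (h : Rot θ i ν c) : Rot θ i ν⁻¹ (c * zz θ i) :=
  ⟨h.toR3.inv (zz_sq i), fun l hl => fx_inv (h.fz l hl), fun d hd => (h.fx d hd).imp fx_inv fx_inv⟩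

theorem Rot.fzs {i : ι} {ν c : G} (h : Rot θ i ν c) {I : Finset ι} (hI : i ∉ I) : Fx ν (zs θ I) :=
  fx_zs_of fun l hl => h.fz l (ne_of_mem_of_not_mem hl hI)

/-- a rotation at `i` fixes `z_I` only if `i ∉ I` -/
theorem Rot.notMem (hθ : Function.Injective θ) {i : ι} {ν c : G} (h : Rot θ i ν c) {I : Finset ι}
    (hI : Fx ν (zs θ I)) : i ∉ I := fun hi => by
  rw [zs_erase hi] at hI
  exact h.toR3.not_fx (zz_sq i) (at1_ne hθ i z0_ne) (fx_cancel' hI (h.fzs (I.notMem_erase i)))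

/-- `zᵢ` is not conjugate to `zᵢ z_I` for `i ∉ I ≠ ∅` -/
theorem not_conj (h : JS θ) {i j : ι} {I : Finset ι} (hi : i ∉ I) (hI : I.Nonempty) :
    ¬ IsConj (zz θ j) (zz θ i * zs θ I) := fun c => by
  rw [← zs_insert hi, zz, ← zs_singleton] at c
  have := h.card_eq c
  rw [Finset.card_insert_of_notMem hi, Finset.card_singleton] at this
  have := hI.card_pos
  omega

theorem not_conj2 (h : JS θ) {i j l : ι} (hij : i ≠ j) :
    ¬ IsConj (zz θ l) (zz θ i * zz θ j) := by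
  rw [zz, zz, zz, ← zs_singleton j]
  exact not_conj h (by simpa using hij) (by simp)

end Calc

/-! ### the model -/

/-- the points -/
abbrev Pt (ι : Type*) (q : ℕ) := (ι × ZMod 4) ⊕ Fin (q + 2)

theorem ta_sq (q : ℕ) : (swap 0 1 : Perm (Fin (q + 2))) * swap 0 1 = 1 := swap_mul_self _ _

theorem sign_ta (q : ℕ) : Perm.sign (swap 0 1 : Perm (Fin (q + 2))) = -1 :=
  Perm.sign_swap Fin.zero_ne_one

/-- the product of dihedral groups in the symmetric group -/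
def thP (ι : Type*) [Fintype ι] [DecidableEq ι] (q : ℕ) : (ι → D8) →* Perm (Pt ι q) :=
  (Perm.sumCongrHom _ _).comp (blk.prod ((sg (ta_sq q)).comp (Perm.sign.comp blk)))

variable {q : ℕ}

theorem thP_eq (d : ι → D8) :
    thP ι q d = Perm.sumCongr (blk d) (sg (ta_sq q) (Perm.sign (blk d))) := rfl

theorem thP_inl (d : ι → D8) (i : ι) (x : ZMod 4) :
    thP ι q d (Sum.inl (i, x)) = Sum.inl (i, act (d i) x) := rfl

theorem thP_inr (d : ι → D8) (y : Fin (q + 2)) :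
    thP ι q d (Sum.inr y) = Sum.inr (if Perm.sign (blk d) = 1 then y else swap 0 1 y) := by
  rw [thP_eq]
  show Sum.inr (sg (ta_sq q) (Perm.sign (blk d)) y) = _
  by_cases h : Perm.sign (blk d) = 1 <;> simp [sg, h]

theorem sign_thP (d : ι → D8) : Perm.sign (thP ι q d) = 1 := by
  rw [thP_eq, Perm.sign_sumCongr, sign_sg _ (sign_ta q), Int.units_mul_self]

/-- the product of dihedral groups in the alternating group -/
def thA (ι : Type*) [Fintype ι] [DecidableEq ι] (q : ℕ) : (ι → D8) →* alternatingGroup (Pt ι q) :=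
  (thP ι q).codRestrict _ fun d => Perm.mem_alternatingGroup.2 (sign_thP d)

theorem coe_thA (d : ι → D8) : (thA ι q d).1 = thP ι q d := rfl

theorem thA_inj : Function.Injective (thA ι q) := fun a b e => funext fun i => act_inj _ _ fun x => by
  have := congrArg (fun g : alternatingGroup (Pt ι q) => (g : Perm (Pt ι q)) (Sum.inl (i, x))) e
  simpa [coe_thA, thP_inl] using this

theorem thP_V {d : ι → D8} (h : ∀ i, d i ∈ V0) (y : Fin (q + 2)) : thP ι q d (Sum.inr y) = Sum.inr y := by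
  rw [thP_inr, if_pos (sign_blk_V h)]

theorem zs_inl (s : Finset ι) (i : ι) (x : ZMod 4) : (zs (thA ι q) s).1 (Sum.inl (i, x)) =
    Sum.inl (i, if i ∈ s then x + 2 else x) := by
  rw [zs, coe_thA, thP_inl]
  split_ifs <;> simp [act_z0, act_one]

theorem zs_inr (s : Finset ι) (y : Fin (q + 2)) :
    (zs (thA ι q) s).1 (Sum.inr y) = Sum.inr y :=
  thP_V (fun i => by split_ifs <;> decide) y

theorem fx_coe {X : Type*} [Fintype X] [DecidableEq X] {h g : alternatingGroup X} :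
    Fx h g ↔ ∀ p, h.1 (g.1 p) = g.1 (h.1 p) := by
  rw [fx_iff, Subtype.ext_iff, Equiv.ext_iff]; rfl

/-- a permutation commuting with `zᵢ` acts on the `i`-th block as an element of `D8` -/
theorem exists_act {w : Perm (Pt ι q)} {i : ι}
    (h : ∀ p, w ((zz (thA ι q) i).1 p) = (zz (thA ι q) i).1 (w p)) :
    ∃ u : D8, ∀ x, w (Sum.inl (i, x)) = Sum.inl (i, act u x) := by
  rw [zz, ← zs_singleton] at h
  have h1 : ∀ x, ∃ y, w (Sum.inl (i, x)) = Sum.inl (i, y) ∧ w (Sum.inl (i, x + 2)) = Sum.inl (i, y + 2) := by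
    intro x
    have h2 := h (Sum.inl (i, x))
    rw [zs_inl, if_pos (Finset.mem_singleton_self i)] at h2
    have h3 : w (Sum.inl (i, x + 2)) ≠ w (Sum.inl (i, x)) := fun e => by
      have : x + 2 = x := by simpa using w.injective e
      revert this; generalize x = x; revert x; decide
    rcases e : w (Sum.inl (i, x)) with ⟨j, y⟩ | y
    · rw [e, zs_inl] at h2
      by_cases hj : j = i
      · subst hj; exact ⟨y, rfl, by simpa using h2⟩
      · rw [e, h2] at h3; simp [hj] at h3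
    · rw [e, zs_inr] at h2; rw [e, h2] at h3; exact absurd rfl h3
  choose f h1 h2 using h1
  obtain ⟨u, hu⟩ := act_surj f (fun x y e => by
    have := w.injective ((h1 x).trans (e ▸ (h1 y).symm))
    simpa using this) fun x => by simpa using (h1 (x + 2)).symm.trans (h2 x)
  exact ⟨u, fun x => by rw [h1, hu]⟩

end Cfsg.Agent.H65.Alt
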