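import Cfsg.Agent.H32.IBr3
import Cfsg.Agent.H32.Roots
import Cfsg.Agent.H53.Virtual

/-!
# Brauer lifting: the sum of the lifted eigenvalues of a modular representation is a
generalized character
-/

set_option autoImplicit false

open Polynomial Module

namespace Cfsg.Agent.H65.Cu

open H32

section
variable {A : Type*} [Ring A] [Algebra ℂ A]

/-- the idempotent of the `z`-eigenspace of an element of order dividing `m` -/
noncomputable def eid (m : ℕ) (u : A) (z : ℂ) : A :=
  (m : ℂ)⁻¹ • ∑ t ∈ Finset.range m, (z⁻¹ • u) ^ t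

theorem mul_eid {m : ℕ} (hm : m ≠ 0) {u : A} {z : ℂ} (hu : u ^ m = 1) (hz : z ^ m = 1) :
    u * eid m u z = z • eid m u z := by
  have h0 : z ≠ 0 := by rintro rfl; simp [hm] at hz
  have h1 : (z⁻¹ • u) * ∑ t ∈ Finset.range m, (z⁻¹ • u) ^ t =
      ∑ t ∈ Finset.range m, (z⁻¹ • u) ^ t := by
    have := mul_geom_sum (z⁻¹ • u) m
    rwa [_root_.smul_pow, hu, inv_pow, hz, inv_one, one_smul, sub_self, sub_mul, one_mul,
      sub_eq_zero] at this
  rw [eid, mul_smul_comm, smul_comm z]
  congr 1
  conv_rhs => rw [← h1, smul_mul_assoc, smul_smul, mul_inv_cancel₀ h0, one_smul]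

theorem idem_eid {m : ℕ} (hm : m ≠ 0) {u : A} {z : ℂ} (hu : u ^ m = 1) (hz : z ^ m = 1) :
    IsIdempotentElem (eid m u z) := by
  have h0 : z ≠ 0 := by rintro rfl; simp [hm] at hz
  have h1 : ∀ t, (z⁻¹ • u) ^ t * eid m u z = eid m u z := fun t => by
    induction t with
    | zero => simp
    | succ t ih =>
      rw [pow_succ, mul_assoc, smul_mul_assoc, mul_eid hm hu hz, smul_smul, inv_mul_cancel₀ h0,
        one_smul, ih]
  change eid m u z * eid m u z = _
  conv_lhs => arg 1; rw [eid]
  rw [smul_mul_assoc, Finset.sum_mul, Finset.sum_congr rfl fun t _ => h1 t, Finset.sum_const,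
    Finset.card_range, ← Nat.cast_smul_eq_nsmul ℂ, smul_smul,
    inv_mul_cancel₀ (Nat.cast_ne_zero.2 hm), one_smul]

theorem sum_eid {m : ℕ} (hm : m ≠ 0) (u : A) {ζ : ℂ} (hζ : IsPrimitiveRoot ζ m) :
    ∑ j ∈ Finset.range m, eid m u (ζ ^ j) = 1 := by
  simp only [eid, _root_.smul_pow, ← Finset.smul_sum]
  rw [Finset.sum_comm, Finset.sum_eq_single_of_mem 0 (Finset.mem_range.2 (Nat.pos_of_ne_zero hm))]
  · simp [← Nat.cast_smul_eq_nsmul ℂ, smul_smul, hm]
  · intro t ht h0
    rw [← Finset.sum_smul]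
    have h1 : (ζ ^ t)⁻¹ ≠ 1 := by
      rw [Ne, inv_eq_one]
      exact hζ.pow_ne_one_of_pos_of_lt h0 (Finset.mem_range.1 ht)
    have h2 := mul_geom_sum (ζ ^ t)⁻¹ m
    rw [inv_pow, ← pow_mul, mul_comm t, pow_mul, hζ.pow_eq_one, one_pow, inv_one, sub_self,
      mul_eq_zero, or_iff_right (sub_ne_zero.2 h1)] at h2
    rw [Finset.sum_congr rfl fun j _ => show (ζ ^ j)⁻¹ ^ t = (ζ ^ t)⁻¹ ^ j by
      rw [inv_pow, inv_pow, ← pow_mul, ← pow_mul, mul_comm], h2, zero_smul]

end

theorem rank_sum_orth {k n ι : Type*} [Field k] [Fintype n] [DecidableEq n] {e : ι → Matrix n n k}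
    (he : OrthogonalIdempotents e) (s : Finset ι) : (∑ j ∈ s, e j).rank = ∑ j ∈ s, (e j).rank := by
  classical
  induction s using Finset.induction_on with
  | empty => simp
  | insert a s ha ih =>
    rw [Finset.sum_insert ha, Finset.sum_insert ha, ← ih]
    refine rank_add_of_orth (he.idem a) (he.isIdempotentElem_sum) ?_ ?_
    · rw [he.mul_sum_of_notMem ha]
    · rw [Finset.sum_mul]
      exact Finset.sum_eq_zero fun j hj => he.ortho fun h => ha (h ▸ hj)

theorem rank_idem {k S n : Type*} [Field k] [Ring S] (W : Wedd k S) {K : Type*} [Field K]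
    [Fintype n] [DecidableEq n] (A : S →+* Matrix n n K) {x : S} (hx : IsIdempotentElem x) :
    (A x).rank = ∑ i, W.mult x i * (A (W.prim i)).rank := by
  obtain ⟨y, h1, h2, h3⟩ := W.exists_decomp hx
  have h0 : (A x).rank = ∑ s, (A (y s)).rank := by
    conv_lhs => rw [← h2, map_sum]
    exact rank_sum_orth (h1.map A) _
  rw [h0, Fintype.sum_sigma]
  refine Finset.sum_congr rfl fun i _ => ?_
  rw [Finset.sum_congr rfl fun j _ => show (A (y ⟨i, j⟩)).rank = (A (W.prim i)).rank from ?_]
  · simp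
  · obtain ⟨a, b, h4, h5⟩ := h3 ⟨i, j⟩
    exact le_antisymm
      (rank_le_of_assoc ⟨A a, A b, by rw [← map_mul, h4], by rw [← map_mul, h5]⟩
        ((h1.idem _).map A))
      (rank_le_of_assoc ⟨A b, A a, by rw [← map_mul, h5], by rw [← map_mul, h4]⟩
        ((W.idem_prim i).map A))

theorem rank_sum_le {k n ι : Type*} [Field k] [Fintype n] (e : ι → Matrix n n k)
    (s : Finset ι) : (∑ j ∈ s, e j).rank ≤ ∑ j ∈ s, (e j).rank := by
  classical
  induction s using Finset.induction_on with
  | empty => simp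
  | insert a s ha ih =>
    rw [Finset.sum_insert ha, Finset.sum_insert ha]
    refine le_trans ?_ (Nat.add_le_add_left ih _)
    unfold Matrix.rank
    refine le_trans (Submodule.finrank_mono ?_) (Submodule.finrank_add_le_finrank_add_finrank _ _)
    rw [Matrix.mulVecLin_add]
    exact LinearMap.range_add_le _ _

theorem rank_le_count {k n : Type*} [Field k] [DecidableEq k] [Fintype n] [DecidableEq n] {p : ℕ}
    [Fact p.Prime] [CharP k p] {g g' E : Matrix n n k} {a : ℕ} (h : g ^ p ^ a = g' ^ p ^ a) {μ : k}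
    (hE : g' * E = μ • E) : E.rank ≤ g.charpoly.roots.count μ := by
  rw [count_roots, ← Matrix.charpoly_toLin', ← LinearMap.finrank_maxGenEigenspace_eq]
  refine Submodule.finrank_mono ?_
  rintro _ ⟨v, rfl⟩
  rw [Module.End.mem_maxGenEigenspace]
  refine ⟨p ^ a, ?_⟩
  have h1 : ∀ t, g' ^ t * E = μ ^ t • E := fun t => by
    induction t with
    | zero => simp
    | succ t ih => rw [pow_succ, mul_assoc, hE, mul_smul_comm, ih, smul_smul, pow_succ']
  have h2 := congrArg (aeval (Matrix.toLin' g)) (sub_pow_char_pow (X : k[X]) (C μ) (p := p) a)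
  simp only [map_sub, map_pow, aeval_X, aeval_C, Algebra.algebraMap_eq_smul_one] at h2
  rw [h2, LinearMap.sub_apply, ← Matrix.toLin'_pow, h, Matrix.toLin'_apply, Matrix.mulVecLin_apply,
    Matrix.mulVec_mulVec, h1, _root_.smul_pow, one_pow, Matrix.smul_mulVec]
  simp

variable {M : Ideal AlgInt} [hMm : M.IsMaximal] {p : ℕ}

variable (p) in
open Classical in
/-- the lift of a residue to a root of unity of order prime to `p` -/
noncomputable def teich (a : Res M) : ℂ :=
  if h : ∃ (ε : ℂ) (m : ℕ), ¬ p ∣ m ∧ ε ^ m = 1 ∧ redC M ε = a then h.choose else 0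

theorem teich_redC (hM : IsPModular p M) {z : ℂ} {m : ℕ} (hm : ¬ p ∣ m) (hz : z ^ m = 1) :
    teich p (redC M z) = z := by
  have h : ∃ (ε : ℂ) (m : ℕ), ¬ p ∣ m ∧ ε ^ m = 1 ∧ redC M ε = redC M z := ⟨z, m, hm, hz, rfl⟩
  rw [teich, dif_pos h]
  obtain ⟨m', h1, h2, h3⟩ := h.choose_spec
  refine eq_of_sub_mem_of_pow_eq_one hM h1 hm h2 hz ((redC_eq_iff ?_ ?_).1 h3)
  · exact mem_locRing_of_pow_eq_one (by rintro rfl; exact h1 (dvd_zero p)) h2
  · exact mem_locRing_of_pow_eq_one (by rintro rfl; exact hm (dvd_zero p)) hz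

theorem brauer_lift (hM : IsPModular p M) {G n : Type*} [Group G] [Finite G] [Fintype n]
    [DecidableEq n] (ρ : G →* Matrix n n (Res M)) :
    IsGeneralizedCharacter G fun g => ((ρ g).charpoly.roots.map (teich p)).sum := by
  classical
  have := Fact.mk hM.1
  have := res_charP hM
  let A := MonoidAlgebra.lift (Res M) (Matrix n n (Res M)) G ρ
  have key := H53.virt_sum Finset.univ _ fun (i : IBr M G) _ =>
    H53.virt_nsmul (A ((weddK M G).prim i)).rank (virt_hat_phi hM i)
  convert key using 1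
  funext g
  set m := orderOf (rp p g)
  have hm : ¬ p ∣ m := rp_regular hM.1 g
  have hm0 : m ≠ 0 := (orderOf_pos _).ne'
  have hζ := Complex.isPrimitiveRoot_exp m hm0
  set ζ := Complex.exp (2 * Real.pi * Complex.I / m)
  have hz : ∀ j, (ζ ^ j) ^ m = 1 := fun j => by rw [← pow_mul, mul_comm, pow_mul, hζ.pow_eq_one, one_pow]
  have hzR : ∀ j, ζ ^ j ∈ locRing M := fun j => mem_locRing_of_pow_eq_one hm0 (hz j)
  let u : MonoidAlgebra ℂ G := MonoidAlgebra.single (rp p g) 1
  have hu : u ^ m = 1 := by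
    rw [MonoidAlgebra.single_pow, pow_orderOf_eq_one, one_pow]; rfl
  have huR : u ∈ RG M G := single_one_mem_RG _
  have heR : ∀ j, eid m u (ζ ^ j) ∈ RG M G := fun j =>
    smul_mem_RG (inv_natCast_mem_locRing hM hm) (sum_mem fun t _ => pow_mem (smul_mem_RG
      (mem_locRing_of_pow_eq_one hm0 (by rw [inv_pow, hz, inv_one])) huR) _)
  let E : ℕ → Matrix n n (Res M) := fun j => A (redG M (eid m u (ζ ^ j)))
  have h1 : ∀ j, ρ (rp p g) * E j = redC M (ζ ^ j) • E j := fun j => by
    have := congrArg (fun a => A (redG M a)) (mul_eid hm0 hu (hz j))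
    simp only [redG_mul huR (heR j), redG_smul (hzR j) (heR j), map_mul, map_smul] at this
    rw [← this, redG_single, redC_one, MonoidAlgebra.lift_single, one_smul]
  have h2 : ∑ j ∈ Finset.range m, E j = 1 := by
    rw [← map_sum, ← redG_sum _ _ fun j _ => heR j, sum_eid hm0 u hζ, redG_one, map_one]
  have h3 : (ρ g).charpoly.roots = ∑ j ∈ Finset.range m, (E j).rank • {redC M (ζ ^ j)} := by
    symm
    obtain ⟨a, ha⟩ := pElt_mul_rp_inv hM.1 g
    have h4 : ρ g ^ p ^ a = ρ (rp p g) ^ p ^ a := by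
      have := pow_orderOf_eq_one (g * (rp p g)⁻¹)
      rw [ha, (commute_rp g).inv_right.mul_pow, inv_pow, mul_inv_eq_one] at this
      rw [← map_pow, ← map_pow, this]
    refine Multiset.eq_of_le_of_card_le (Multiset.le_iff_count.2 fun x => ?_) ?_
    · rw [Multiset.count_sum']
      by_cases hx : ∃ j ∈ Finset.range m, redC M (ζ ^ j) = x
      · obtain ⟨j, hj, rfl⟩ := hx
        rw [Finset.sum_eq_single_of_mem j hj fun i hi hij => ?_]
        · simpa using rank_le_count h4 (h1 j)
        · rw [Multiset.count_nsmul, Multiset.count_singleton, if_neg fun e => hij ?_, mul_zero]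
          have := congrArg (teich p) e
          rw [teich_redC hM hm (hz _), teich_redC hM hm (hz _)] at this
          exact (hζ.pow_inj (Finset.mem_range.1 hj) (Finset.mem_range.1 hi) this).symm
      · rw [Finset.sum_eq_zero fun j hj => ?_]
        · exact Nat.zero_le _
        · rw [Multiset.count_nsmul, Multiset.count_singleton, if_neg fun e => hx ⟨j, hj, e.symm⟩,
            mul_zero]
    · have := rank_sum_le E (Finset.range m)
      rw [h2, Matrix.rank_one] at this
      refine (card_roots' _).trans ?_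
      rw [Matrix.charpoly_natDegree_eq_dim, Multiset.card_sum]
      simpa using this
  have h5 : ∀ i : IBr M G, phi i (rp p g) =
      ∑ j ∈ Finset.range m, ζ ^ j * imult (eid m u (ζ ^ j)) i := fun i => by
    have : u = ∑ j ∈ Finset.range m, ζ ^ j • eid m u (ζ ^ j) := by
      rw [← Finset.sum_congr rfl fun j _ => mul_eid hm0 hu (hz j), ← Finset.mul_sum,
        sum_eid hm0 u hζ, mul_one]
    have h6 := congrArg (ev (phi i)) this
    rw [ev_single, one_mul, map_sum] at h6
    rw [h6]
    exact Finset.sum_congr rfl fun j _ => by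
      rw [map_smul, ev_phi_idem (heR j) (idem_eid hm0 hu (hz j)), smul_eq_mul]
  simp only [Finset.sum_apply, Pi.smul_apply, hat_apply, h5]
  simp only [nsmul_eq_mul, Finset.mul_sum]
  rw [h3, Finset.sum_comm, ← Multiset.coe_mapAddMonoidHom, map_sum, Multiset.sum_sum,
    Multiset.coe_mapAddMonoidHom]
  refine Finset.sum_congr rfl fun j _ => ?_
  rw [Multiset.map_nsmul, Multiset.sum_nsmul, Multiset.map_singleton, Multiset.sum_singleton,
    teich_redC hM hm (hz j), show (E j).rank = _ from rank_idem (weddK M G) A.toRingHom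
      (idem_redG (heR j) (idem_eid hm0 hu (hz j))), nsmul_eq_mul, Nat.cast_sum, Finset.sum_mul]
  refine Finset.sum_congr rfl fun i _ => ?_
  rw [Nat.cast_mul, imult]
  change _ * ((A _).rank : ℂ) * _ = _
  ring

end Cfsg.Agent.H65.Cu
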