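import Cfsg.Agent.H65.CzDefs

/-! Affine blocks of a transitive solvable permutation group. -/

namespace Cfsg.Agent.H65.Cz
universe u
open MulAction Cfsg.Agent.H33 Pointwise

theorem blk_sec {S Ω : Type u} [Group S] [Finite S] [MulAction S Ω] {N K : Subgroup S} [hN : N.Normal] [hK : K.Normal]
    (h1 : ∀ X : Subgroup S, X.Normal → X < N → X = ⊥) (h2 : ∀ x ∈ N, ∀ y ∈ N, x * y = y * x) (ω : Ω)
    (h3 : ∀ k ∈ K, k • ω ∈ orbit N ω) :
    ∃ hs : Sec K (N ⊓ stabilizer S ω) N, CR K hs.M ∧ Nat.card hs.M = (orbit N ω).ncard ∧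
      ∀ k : K, k.1 • ω = ω → ∀ z : N, k • hs.p z = hs.p z ↔ k.1 • z.1 • ω = z.1 • ω := by
  have hs : Sec K (N ⊓ stabilizer S ω) N := ⟨inf_le_left, fun k hk x hx => ⟨hN.conj_mem x hx.1 k, by
    obtain ⟨u, hu⟩ := h3 _ (inv_mem hk)
    have hu : u.1 • ω = k⁻¹ • ω := hu
    change (k * x * k⁻¹) • ω = ω
    rw [mul_smul, mul_smul, ← hu, ← mul_smul x, h2 x hx.1 u u.2, mul_smul,
      show x • ω = ω from hx.2, hu, smul_inv_smul]⟩, fun k _ x hx => hN.conj_mem x hx k,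
    fun x hx y hy => by simp [h2 x hx y hy]⟩
  refine ⟨hs, hs.cr fun Z hZ _ hZN => ?_, ?_, fun k e1 z => ?_⟩
  · obtain ⟨Y, ⟨hY1, hY2, hY3⟩, hY4⟩ := (Set.toFinite {Y : Subgroup S | Y ≤ N ∧ Nz K Y ∧ Y ≠ ⊥}).exists_minimal
      ⟨N, le_rfl, hs.nN, ne_bot_of_gt hZN⟩
    have h6 : ∀ (s : S) X, Nz K X → Nz K (X.map (MulAut.conj s).toMonoidHom) := by
      rintro s X hX k hk _ ⟨x, hx, rfl⟩
      exact ⟨_, hX _ (hK.conj_mem k hk s⁻¹) x hx, by simp [mul_assoc]⟩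
    obtain ⟨s, hs⟩ : ∃ s : S, ¬ Y.map (MulAut.conj s).toMonoidHom ≤ Z := by
      by_contra! h
      exact hY3 (eq_bot_iff.2 fun y hy => h1 _ inferInstance (Z.normalCore_le.trans_lt hZN) ▸
        fun s => h s ⟨y, hy, rfl⟩)
    refine ⟨_, ?_, h6 s Y hY2, hs, fun X hX hX' _ => or_iff_not_imp_left.2 fun h => le_antisymm hX ?_⟩
    · rintro _ ⟨y, hy, rfl⟩; exact hN.conj_mem y (hY1 hy) s
    have h7 : X.map (MulAut.conj s⁻¹).toMonoidHom ≤ Y := by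
      rintro _ ⟨x, hx, rfl⟩
      obtain ⟨y, hy, rfl⟩ := hX hx
      simpa [mul_assoc] using hy
    rintro _ ⟨y, hy, rfl⟩
    obtain ⟨x, hx, rfl⟩ := hY4 (y := X.map (MulAut.conj s⁻¹).toMonoidHom) ⟨h7.trans hY1, h6 _ X hX', fun e =>
      h (by rw [(Subgroup.map_eq_bot_iff_of_injective _ (MulAut.conj s⁻¹).injective).1 e]; exact bot_le)⟩ h7 hy
    simpa [mul_assoc] using hx
  · rw [hs.card, Subgroup.inf_relIndex_left, Subgroup.relIndex,
      show (stabilizer S ω).subgroupOf N = stabilizer N ω from rfl, index_stabilizer]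
  · have e1 : k.1⁻¹ • ω = ω := inv_smul_eq_iff.2 e1.symm
    rw [hs.smul_p_eq, Subgroup.mem_inf, and_iff_right (mul_mem (hN.conj_mem _ z.2 _) (inv_mem z.2)),
      h2 _ (hN.conj_mem _ z.2 _) _ (inv_mem z.2), mem_stabilizer_iff, mul_smul, inv_smul_eq_iff, mul_smul, mul_smul, e1]

theorem blk_faithful (S Ω : Type u) [Group S] [Finite S] [Finite Ω] [MulAction S Ω] [IsPretransitive S Ω]
    [Nontrivial Ω] [FaithfulSMul S Ω] (hS : Group.IsSolvable S) :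
    ∃ (B : Type u) (_ : Finite B) (_ : MulAction S B) (b : Ω → B) (s : ℕ), Blk S b s := by
  obtain ⟨ω0, ω1, h0⟩ := exists_pair_ne Ω
  obtain ⟨g0, hg0⟩ := exists_smul_eq S ω0 ω1
  have : Nontrivial S := ⟨g0, 1, fun e => h0 (by rw [← hg0, e, one_smul])⟩
  obtain ⟨N, ⟨hN, hN'⟩, h1⟩ := (Set.toFinite {N : Subgroup S | N.Normal ∧ N ≠ ⊥}).exists_minimal
    ⟨⊤, inferInstance, by simp⟩
  have h1 : ∀ X : Subgroup S, X.Normal → X < N → X = ⊥ := fun X hX h => by_contra fun h' => h.2 (h1 ⟨hX, h'⟩ h.le)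
  have h2 : ∀ x ∈ N, ∀ y ∈ N, x * y = y * x := fun x hx y hy => commutatorElement_eq_one_iff_mul_comm.1
    (Subgroup.mem_bot.1 (h1 _ inferInstance (Group.IsSolvable.commutator_lt_of_ne_bot hN') ▸
      Subgroup.commutator_mem_commutator hx hy))
  let B : SubMulAction S (Set Ω) := ⟨Set.range (orbit N), by
    rintro s _ ⟨ω, rfl⟩; exact ⟨_, (smul_orbit_eq_orbit_smul N ω s).symm⟩⟩
  let b : Ω → B := fun ω => ⟨_, ω, rfl⟩
  have b1 : ∀ (s : S) ω, b (s • ω) = s • b ω := fun s ω => Subtype.ext (smul_orbit_eq_orbit_smul N ω s).symm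
  have b2 : b.Surjective := by rintro ⟨_, ω, rfl⟩; exact ⟨ω, rfl⟩
  have b3 : ∀ ω ω', ω ∈ orbit N ω' ↔ b ω = b ω' := fun ω ω' =>
    orbit_eq_iff.symm.trans (Subtype.ext_iff (a1 := b ω) (a2 := b ω')).symm
  have b4 : ∀ ω, (orbit N ω).ncard = (orbit N ω0).ncard := fun ω => by
    obtain ⟨g, rfl⟩ := exists_smul_eq S ω0 ω
    rw [← smul_orbit_eq_orbit_smul, Set.ncard_smul_set]
  have hK : (Stab S b).Normal := ⟨fun g hg s ω => by rw [mul_smul, mul_smul, b1, hg, ← b1, smul_inv_smul]⟩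
  have hNK : N ≤ Stab S b := fun x hx ω => (b3 _ _).1 ⟨⟨x, hx⟩, rfl⟩
  have h3 : ∀ ω, ∀ k ∈ Stab S b, k • ω ∈ orbit N ω := fun ω k hk => (b3 _ _).2 (hk ω)
  have h4 := fun ω => blk_sec (K := Stab S b) h1 h2 ω (h3 ω)
  refine ⟨B, inferInstance, inferInstance, b, (orbit N ω0).ncard, ?_, b1, fun O => ?_, fun O => ?_, fun d hd => ?_⟩
  · by_contra h
    refine hN' (eq_bot_iff.2 fun x hx => eq_of_smul_eq_smul (α := Ω) fun ω => ?_)
    rw [one_smul]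
    exact (Set.ncard_le_one_iff (s := orbit N ω)).1 (by rw [b4]; omega) ⟨⟨x, hx⟩, rfl⟩ (mem_orbit_self ω)
  · obtain ⟨ω, rfl⟩ := b2 O
    rw [← b4 ω]
    exact congrArg _ (Set.ext fun x => (b3 x ω).symm)
  · obtain ⟨ω, rfl⟩ := b2 O
    obtain ⟨hs, a1, -, a3⟩ := h4 ω
    obtain ⟨t, ht⟩ := base_three H11.heisBase3 _ (Stab S b) hs.M (Nat.lt_succ_self _) inferInstance False.elim a1
    choose z hz using fun i => hs.p_surj (t i)
    refine ⟨Fin.cons ω fun i => (z i).1 • ω, fun i => ?_, fun g hg h x hx => ?_⟩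
    · refine Fin.cases rfl (fun j => ?_) i
      exact hNK (z j).2 ω
    · obtain ⟨y, rfl⟩ := (b3 x ω).2 hx
      exact (a3 ⟨g, hg⟩ (h 0) y).1 (ht ⟨g, hg⟩ (funext fun i => by
        rw [Pi.smul_apply, ← hz]
        exact (a3 ⟨g, hg⟩ (h 0) _).2 (h i.succ)) _)
  have h5 : ∀ ω : Ω, ∀ a ∈ der (Stab S b) d, ∀ n ∈ N, a • ω = n • ω → ∀ x ∈ orbit N ω, a • x = n • x := by
    rintro ω a ha n hn e _ ⟨z, rfl⟩
    obtain ⟨hs, a1, a2, a3⟩ := h4 ω
    have a4 := hd (Stab S b) hs.M inferInstance a1 (a2.trans (b4 ω)) _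
      (der_hom (MonoidHom.id _) (fun _ => Subgroup.mem_top _) d ⟨a, der_le _ _ ha⟩ ha) (hs.p z)
    have a5 := (a3 (⟨n, hNK hn⟩⁻¹ * ⟨a, der_le _ _ ha⟩) (by
      change (n⁻¹ * a) • ω = ω
      rw [mul_smul, e, inv_smul_smul]) z).1 (by
      rw [mul_smul, inv_smul_eq_iff]
      refine a4.trans (hs.smul_p_eq.2 ?_).symm
      simp [h2 n hn z z.2])
    exact inv_smul_eq_iff.1 ((mul_smul _ _ _).symm.trans a5)
  refine ⟨fun g hg ω => (Subgroup.commutator_le.2 fun a ha c hc => ?_ : _ ≤ stabilizer S ω) hg, fun ω g hg x hx => ?_⟩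
  · obtain ⟨n, hn⟩ := h3 ω a (der_le _ _ ha)
    obtain ⟨m, hm⟩ := h3 ω c (der_le _ _ hc)
    have a1 := h5 ω a ha n n.2 hn.symm
    have a2 := h5 ω c hc m m.2 hm.symm
    have a3 : ∀ k ∈ Stab S b, ∀ x ∈ orbit N ω, k • x ∈ orbit N ω := fun k hk x hx =>
      (b3 _ _).2 ((hk x).trans ((b3 _ _).1 hx))
    have a4 : ∀ x ∈ orbit N ω, a • c • x = c • a • x := fun x hx => by
      rw [a1 _ (a3 c (der_le _ _ hc) x hx), a2 _ (a3 a (der_le _ _ ha) x hx), a1 x hx, a2 x hx, ← mul_smul,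
        h2 _ n.2 _ m.2, mul_smul]
    rw [mem_stabilizer_iff, commutatorElement_def, mul_smul, mul_smul, mul_smul,
      a4 _ (a3 _ (inv_mem (der_le _ _ ha)) _ (a3 _ (inv_mem (der_le _ _ hc)) _ (mem_orbit_self ω))),
      smul_inv_smul, smul_inv_smul]
  · exact (h5 ω g (der_mono inf_le_left d hg) 1 (one_mem _) ((der_le _ _ hg).2.trans (one_smul S ω).symm) x
      ((b3 _ _).2 hx)).trans (one_smul S x)

theorem exists_blk (S Ω : Type u) [Group S] [Finite S] [Finite Ω] [MulAction S Ω] [IsPretransitive S Ω] [Nontrivial Ω]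
    (hS : Group.IsSolvable S) :
    ∃ (B : Type u) (_ : Finite B) (_ : MulAction S B) (b : Ω → B) (s : ℕ), Blk S b s := by
  let f := (toPermHom S Ω).rangeRestrict
  have : IsPretransitive (toPermHom S Ω).range Ω := ⟨fun x y => by
    obtain ⟨g, hg⟩ := exists_smul_eq S x y
    exact ⟨f g, hg⟩⟩
  obtain ⟨B, _, _, b, s, hb⟩ := blk_faithful (toPermHom S Ω).range Ω
    (Group.isSolvable_of_surjective (toPermHom S Ω).rangeRestrict_surjective)
  letI := MulAction.compHom B f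
  refine ⟨B, inferInstance, inferInstance, b, s, hb.two, fun g => hb.eqv (f g), hb.card, fun O => ?_, fun d hd =>
    ⟨(hb.lin d hd).1.comap f (fun _ _ => rfl) fun g hg => hg, fun ω g hg => (hb.lin d hd).2 ω (f g) ?_⟩⟩
  · obtain ⟨p, h1, h2⟩ := hb.base O
    exact ⟨p, h1, fun g => h2 (f g)⟩
  · exact der_mono (S := (Stab S b ⊓ stabilizer S ω).map f) (by rintro _ ⟨z, hz, rfl⟩; exact hz) d
      (der_map f _ d ▸ ⟨g, hg, rfl⟩)

end Cfsg.Agent.H65.Cz
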