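import Cfsg.Agent.H65.CzCol3

/-! Two-colourings of solvable permutation groups. -/

namespace Cfsg.Agent.H65.Cz
universe u
open MulAction Cfsg.Agent.H33

section
variable {S Ω B : Type u} [Group S] [Finite S] [Finite Ω] [MulAction S Ω] {b : Ω → B}

omit [Finite Ω] in
theorem good_of_lg [Finite B] [MulAction S B] (hS : Group.IsSolvable S) {C : Type} (k : C → ℕ)
    (hb : ∀ (g : S) ω, b (g • ω) = g • b ω) (τ : Fin 5 → C → ℕ) (h1 : Function.Injective τ)
    (h2 : ∀ O i, ∃ κ : Ω → C, (∀ c, {ω | b ω = O ∧ κ ω = c}.ncard = τ i c) ∧ LG S b k O κ) :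
    ∃ κ : Ω → C, Good S κ k := by
  obtain ⟨γ, hγ⟩ := col5 S B hS
  obtain ⟨κ, h3, h4⟩ := col_frame hb (C' := Fin 5) γ τ h1 (LG S b k) fun O => h2 O _
  have h5 : Stab S κ ≤ Stab S b := fun g hg ω => by rw [hb, hγ _ g (h3 hg)]
  refine ⟨κ, fun ω g hg => ?_⟩
  obtain ⟨κ', h6, h7⟩ := h4 (b ω)
  refine h6 _ h5 (fun a ha x hx => ?_) ω rfl g (h7 ω rfl ▸ hg)
  rw [← h7 x hx, ← h7 _ ((h5 ha x).trans hx), ha x]

omit [Group S] [Finite S] [MulAction S Ω] in
/-- the colouring given by a subset of the block -/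
theorem exists_one (O : B) (D : Set Ω) (h1 : ∀ ω ∈ D, b ω = O) {s : ℕ} (hs : {ω | b ω = O}.ncard = s) :
    ∃ κ : Ω → Bool, {ω | b ω = O ∧ κ ω = true} = D ∧
      ∀ c, {ω | b ω = O ∧ κ ω = c}.ncard = if c then D.ncard else s - D.ncard := by
  classical
  have h2 : {ω | b ω = O ∧ decide (ω ∈ D) = true} = D := Set.ext fun ω => by
    by_cases a1 : ω ∈ D <;> simp_all
  refine ⟨fun ω => decide (ω ∈ D), h2, fun c => ?_⟩
  cases c
  · have h3 : {ω | b ω = O ∧ decide (ω ∈ D) = false} = {ω | b ω = O} \ D := Set.ext fun ω => by simp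
    rw [h3, Set.ncard_diff (t := {ω | b ω = O}) h1, hs]
    simp
  · rw [h2]
    simp

omit [Group S] [Finite S] [MulAction S Ω] in
theorem exists_one' (O : B) {s n : ℕ} (hs : {ω | b ω = O}.ncard = s) (hn : n ≤ s) :
    ∃ κ : Ω → Bool, ∀ c, {ω | b ω = O ∧ κ ω = c}.ncard = if c then n else s - n := by
  obtain ⟨D, h1, rfl⟩ := Set.exists_subset_card_eq (s := {ω | b ω = O}) (n := n) (by omega)
  obtain ⟨κ, -, h⟩ := exists_one O D h1 hs
  exact ⟨κ, h⟩
end

theorem col2 : Col.{u} (fun _ : Bool => 4) := by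
  intro S Ω _ _ _ _ hS
  refine good_of_orbits _ fun ω0 => ?_
  obtain h0 | h0 := subsingleton_or_nontrivial (orbit S ω0)
  · exact ⟨default, fun _ _ _ => Subsingleton.elim _ _⟩
  obtain ⟨B, _, _, b, s, hb⟩ := exists_blk S (orbit S ω0) hS
  have h2 := hb.two
  obtain hs | hs | hs : s ≤ 3 ∨ (4 ≤ s ∧ s ≤ 8) ∨ 8 ≤ s := by omega
  · obtain ⟨γ, hγ⟩ := col3 S B hS
    obtain ⟨κ, h3, -⟩ := col_frame hb.eqv γ (fun i (c : Bool) => if c then i.val else s - i.val)
      (fun i j h => Fin.ext (congrFun h true)) (fun _ _ => True) fun O => by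
        obtain ⟨κ, hκ⟩ := exists_one' O (hb.card O) (n := (γ O).val) (by omega)
        exact ⟨κ, hκ, trivial⟩
    have h4 : der (Stab S κ) 2 ≤ Stab S b := fun g hg ω => by
      rw [hb.eqv, hγ _ g (der_mono h3 _ (der_anti _ (by generalize γ (b ω) = i; revert i; decide) hg))]
    refine ⟨κ, fun ω g hg => ?_⟩
    change g ∈ der _ (2 + 2) at hg
    rw [der_add] at hg
    exact (ft_tab s (by omega)).fix hS _ _ (hb.card (b ω)) (fun a ha x hx => (h4 ha x).trans hx) g
      (der_anti _ (Ft_mono hs) hg) ω rfl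
  · refine good_of_lg hS _ hb.eqv (fun i (c : Bool) => if c then i.val else s - i.val)
      (fun i j h => Fin.ext (congrFun h true)) fun O i => ?_
    obtain ⟨κ, hκ⟩ := exists_one' O (hb.card O) (n := i.val) (by omega)
    refine ⟨κ, hκ, fun T h1 h2 ω e g hg => ?_⟩
    have h3 : (if κ ω then i.val else s - i.val) ≤ 8 := by split_ifs <;> omega
    exact class_fix hS h1 h2 _ (hκ _) (by omega) (Ft_mono h3) g hg ω e rfl
  · refine good_of_lg hS _ hb.eqv (fun i (c : Bool) => if c then 4 + i.val else s - (4 + i.val))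
      (fun i j h => Fin.ext (Nat.add_left_cancel (congrFun h true))) fun O i => ?_
    obtain ⟨p, hp, hp'⟩ := hb.base O
    obtain ⟨D, a1, a2, a3⟩ := Set.exists_subsuperset_card_eq (s := Set.range p) (t := {ω | b ω = O}) (n := 4 + i.val)
      (by rintro _ ⟨i, rfl⟩; exact hp i) (by
        rw [← Set.image_univ]
        exact (Set.ncard_image_le Set.finite_univ).trans (by simp)) (by rw [hb.card]; omega)
    obtain ⟨κ, b1, hκ⟩ := exists_one O D a2 (hb.card O)
    rw [a3] at hκ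
    refine ⟨κ, hκ, fun T h1 h2 ω e g hg => hp' g (h1 (der_le _ _ hg)) (fun j => ?_) ω e⟩
    exact class_fix hS h1 h2 true (hκ _) (by simp; omega) (Ft_mono (m := 8) (by simp; omega)) g hg _ (hp j)
      ((Set.ext_iff.1 b1 _).2 (a1 ⟨j, rfl⟩)).2

end Cfsg.Agent.H65.Cz
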