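import Cfsg.Agent.H65.CzTab

/-! Three-colourings of solvable permutation groups. -/

namespace Cfsg.Agent.H65.Cz
universe u
open MulAction Cfsg.Agent.H33

/-- colourings of the blocks with prescribed counts are put together -/
theorem col_frame {S Ω B C C' : Type*} [Group S] [MulAction S Ω] [MulAction S B] {b : Ω → B}
    (hb : ∀ (g : S) ω, b (g • ω) = g • b ω) (γ : B → C') (τ : C' → C → ℕ) (hτ : Function.Injective τ)
    (P : B → (Ω → C) → Prop)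
    (h : ∀ O, ∃ κ : Ω → C, (∀ c, {ω | b ω = O ∧ κ ω = c}.ncard = τ (γ O) c) ∧ P O κ) :
    ∃ κ : Ω → C, Stab S κ ≤ Stab S γ ∧ ∀ O, ∃ κ', P O κ' ∧ ∀ ω, b ω = O → κ ω = κ' ω := by
  choose κ h1 h2 using h
  have h3 : ∀ O c, {ω | b ω = O ∧ κ (b ω) ω = c} = {ω | b ω = O ∧ κ O ω = c} := fun O c =>
    Set.ext fun ω => and_congr_right fun e => by rw [e]
  refine ⟨fun ω => κ (b ω) ω, stab_le_of_count hb _ γ fun O O' e => hτ (funext fun c => ?_),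
    fun O => ⟨κ O, h2 O, fun ω e => congrArg (κ · ω) e⟩⟩
  rw [← h1, ← h1, ← h3, ← h3, e]

/-- the colouring is good on the block `O` -/
def LG (S : Type*) {Ω B C : Type*} [Group S] [MulAction S Ω] (b : Ω → B) (k : C → ℕ) (O : B) (κ : Ω → C) : Prop :=
  ∀ T : Subgroup S, T ≤ Stab S b → (∀ g ∈ T, ∀ ω, b ω = O → κ (g • ω) = κ ω) →
    ∀ ω, b ω = O → ∀ g ∈ der T (k (κ ω)), g • ω = ω

theorem col_of_lg {C : Type} [Inhabited C] (k : C → ℕ)
    (h : ∀ (S Ω B : Type u) [Group S] [Finite S] [Finite Ω] [MulAction S Ω] [MulAction S B] (b : Ω → B) (s : ℕ),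
      Group.IsSolvable S → Blk S b s → ∃ τ : Fin 5 → C → ℕ, Function.Injective τ ∧
        ∀ O i, ∃ κ : Ω → C, (∀ c, {ω | b ω = O ∧ κ ω = c}.ncard = τ i c) ∧ LG S b k O κ) : Col.{u} k := by
  intro S Ω _ _ _ _ hS
  refine good_of_orbits k fun ω0 => ?_
  obtain h0 | h0 := subsingleton_or_nontrivial (orbit S ω0)
  · exact ⟨default, fun _ _ _ => Subsingleton.elim _ _⟩
  obtain ⟨B, _, _, b, s, hb⟩ := exists_blk S (orbit S ω0) hS
  obtain ⟨γ, hγ⟩ := col5 S B hS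
  obtain ⟨τ, h1, h2⟩ := h S _ B b s hS hb
  obtain ⟨κ, h3, h4⟩ := col_frame hb.eqv (C' := Fin 5) γ τ h1 (LG S b k) fun O => h2 O _
  have h5 : Stab S κ ≤ Stab S b := fun g hg ω => by rw [hb.eqv, hγ _ g (h3 hg)]
  refine ⟨κ, fun ω g hg => ?_⟩
  obtain ⟨κ', h6, h7⟩ := h4 (b ω)
  refine h6 _ h5 (fun a ha x hx => ?_) ω rfl g (h7 ω rfl ▸ hg)
  rw [← h7 x hx, ← h7 _ ((h5 ha x).trans hx), ha x]

section
variable {S Ω B : Type u} [Group S] [Finite S] [Finite Ω] [MulAction S Ω] {b : Ω → B}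

/-- a colour class in a block is fixed by a suitable derived subgroup -/
theorem class_fix (hS : Group.IsSolvable S) {C : Type*} {κ : Ω → C} {O : B} {T : Subgroup S} (h1 : T ≤ Stab S b)
    (h2 : ∀ g ∈ T, ∀ ω, b ω = O → κ (g • ω) = κ ω) (c : C) {m d : ℕ} (hm : {ω | b ω = O ∧ κ ω = c}.ncard = m)
    (h3 : m < 16) (h4 : Ft m ≤ d) : ∀ g ∈ der T d, ∀ ω, b ω = O → κ ω = c → g • ω = ω := fun g hg ω e1 e2 =>
  (ft_tab m h3).fix hS T _ hm (fun a ha x hx => ⟨(h1 ha x).trans hx.1, (h2 a ha x hx.1).trans hx.2⟩) g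
    (der_anti _ h4 hg) ω ⟨e1, e2⟩

omit [Group S] [Finite S] [MulAction S Ω] in
/-- a colouring with two prescribed classes -/
theorem exists_two (O : B) (D D' : Set Ω) (h1 : ∀ ω ∈ D, b ω = O) (h2 : ∀ ω ∈ D', b ω = O) (h3 : Disjoint D D')
    (σ : Equiv.Perm (Fin 3)) : ∃ κ : Ω → Fin 3, {ω | b ω = O ∧ κ ω = σ 0} = D ∧ {ω | b ω = O ∧ κ ω = σ 1} = D' ∧
      {ω | b ω = O ∧ κ ω = σ 2}.ncard + (D.ncard + D'.ncard) = {ω | b ω = O}.ncard := by
  classical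
  have h4 := Set.disjoint_left.1 h3
  refine ⟨fun ω => σ (if ω ∈ D then 0 else if ω ∈ D' then 1 else 2), Set.ext fun ω => ?_, Set.ext fun ω => ?_, ?_⟩
  · by_cases a1 : ω ∈ D <;> by_cases a2 : ω ∈ D' <;> simp_all
  · by_cases a1 : ω ∈ D <;> by_cases a2 : ω ∈ D' <;> simp_all
  · rw [← Set.ncard_union_eq h3, ← Set.ncard_diff_add_ncard_of_subset (s := D ∪ D') (t := {ω | b ω = O})
      (Set.union_subset h1 h2)]
    congr 2
    ext ω
    by_cases a1 : ω ∈ D <;> by_cases a2 : ω ∈ D' <;> simp_all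

omit [Group S] [Finite S] [MulAction S Ω] in
theorem exists_count (O : B) (n : Fin 3 → ℕ) (h : {ω | b ω = O}.ncard = n 0 + n 1 + n 2) :
    ∃ κ : Ω → Fin 3, ∀ c, {ω | b ω = O ∧ κ ω = c}.ncard = n c := by
  obtain ⟨D, h1, h2⟩ := Set.exists_subset_card_eq (s := {ω | b ω = O}) (n := n 0) (by omega)
  obtain ⟨D', h3, h4⟩ := Set.exists_subset_card_eq (s := {ω | b ω = O} \ D) (n := n 1) (by
    have := Set.ncard_diff_add_ncard_of_subset h1
    omega)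
  obtain ⟨κ, a1, a2, a3⟩ := exists_two O D D' h1 (fun ω hω => (h3 hω).1)
    (Set.disjoint_right.2 fun ω hω => (h3 hω).2) 1
  refine ⟨κ, fun c => ?_⟩
  fin_cases c
  · exact (congrArg Set.ncard a1).trans h2
  · exact (congrArg Set.ncard a2).trans h4
  · have : {ω | b ω = O ∧ κ ω = 2}.ncard + (D.ncard + D'.ncard) = {ω | b ω = O}.ncard := a3
    show {ω | b ω = O ∧ κ ω = 2}.ncard = n 2
    omega

theorem lg_small (hS : Group.IsSolvable S) (O : B) (n k : Fin 3 → ℕ) (h : {ω | b ω = O}.ncard = n 0 + n 1 + n 2)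
    (hn : ∀ c, n c < 16 ∧ Ft (n c) ≤ k c) :
    ∃ κ : Ω → Fin 3, (∀ c, {ω | b ω = O ∧ κ ω = c}.ncard = n c) ∧ LG S b k O κ := by
  obtain ⟨κ, hκ⟩ := exists_count O n h
  exact ⟨κ, hκ, fun T h1 h2 ω e g hg => class_fix hS h1 h2 _ (hκ _) (hn _).1 (hn _).2 g hg ω e rfl⟩

variable [MulAction S B]

theorem lg_seven (hS : Group.IsSolvable S) (hb : Blk S b 7) (O : B) (n k : Fin 3 → ℕ) (h : n 0 + n 1 + n 2 = 7)
    (h0 : n 0 = 1) (hk : ∀ c, 1 ≤ k c) :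
    ∃ κ : Ω → Fin 3, (∀ c, {ω | b ω = O ∧ κ ω = c}.ncard = n c) ∧ LG S b k O κ := by
  obtain ⟨κ, hκ⟩ := exists_count O n ((hb.card O).trans h.symm)
  refine ⟨κ, hκ, fun T h1 h2 ω e g hg => ?_⟩
  obtain ⟨x, hx⟩ := Set.ncard_eq_one.1 ((hκ 0).trans h0)
  have h3 : b x = O ∧ κ x = 0 := (Set.ext_iff.1 hx x).2 rfl
  have h4 : T ≤ Stab S b ⊓ stabilizer S x := le_inf h1 fun a ha =>
    class_fix hS h1 h2 0 (d := 0) ((hκ 0).trans h0) (by norm_num) (by decide) a ha x h3.1 h3.2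
  exact (hb.lin 1 (dt_prime (by norm_num))).2 x g (der_mono h4 1 (der_anti _ (hk _) hg)) ω (e.trans h3.1.symm)

theorem lg_big (hS : Group.IsSolvable S) {s : ℕ} (hb : Blk S b s) (hs : 4 ≤ s) (O : B) (n k : Fin 3 → ℕ)
    (σ : Equiv.Perm (Fin 3)) (h1 : n (σ 0) + n (σ 1) = 4) (h2 : n (σ 2) = s - 4) (h3 : Ft (n (σ 0)) ≤ k (σ 0))
    (h4 : Ft (n (σ 1)) ≤ k (σ 1)) (h5 : Ft (n (σ 0)) ≤ k (σ 2)) (h6 : Ft (n (σ 1)) ≤ k (σ 2)) :
    ∃ κ : Ω → Fin 3, (∀ c, {ω | b ω = O ∧ κ ω = c}.ncard = n c) ∧ LG S b k O κ := by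
  obtain ⟨p, hp, hp'⟩ := hb.base O
  obtain ⟨P, a1, a2, a3⟩ := Set.exists_subsuperset_card_eq (s := Set.range p) (t := {ω | b ω = O}) (n := 4)
    (by rintro _ ⟨i, rfl⟩; exact hp i) (by
      rw [← Set.image_univ]
      exact (Set.ncard_image_le Set.finite_univ).trans (by simp)) (by rw [hb.card]; exact hs)
  obtain ⟨D, a4, a5⟩ := Set.exists_subset_card_eq (s := P) (n := n (σ 0)) (by omega)
  have a6 : (P \ D).ncard = n (σ 1) := by
    have := Set.ncard_diff_add_ncard_of_subset a4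
    omega
  obtain ⟨κ, b1, b2, b3⟩ := exists_two O D (P \ D) (fun ω hω => a2 (a4 hω)) (fun ω hω => a2 hω.1)
    Set.disjoint_sdiff_right σ
  have c1 := (congrArg Set.ncard b1).trans a5
  have c2 := (congrArg Set.ncard b2).trans a6
  have c0 : ∀ c, c = σ 0 ∨ c = σ 1 ∨ c = σ 2 := fun c => by
    obtain ⟨i, rfl⟩ := σ.surjective c
    fin_cases i <;> simp
  refine ⟨κ, fun c => ?_, fun T d1 d2 ω e g hg => ?_⟩
  · obtain rfl | rfl | rfl := c0 c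
    · exact c1
    · exact c2
    · rw [hb.card] at b3
      omega
  · obtain e1 | e1 | e1 := c0 (κ ω)
    · exact class_fix hS d1 d2 _ c1 (by omega) (e1 ▸ h3) g hg ω e e1
    · exact class_fix hS d1 d2 _ c2 (by omega) (e1 ▸ h4) g hg ω e e1
    refine hp' g (d1 (der_le _ _ hg)) (fun i => ?_) ω e
    by_cases hi : p i ∈ D
    · exact class_fix hS d1 d2 _ c1 (by omega) (e1 ▸ h5) g hg _ (hp i) ((Set.ext_iff.1 b1 _).2 hi).2
    · exact class_fix hS d1 d2 _ c2 (by omega) (e1 ▸ h6) g hg _ (hp i) ((Set.ext_iff.1 b2 _).2 ⟨a1 ⟨i, rfl⟩, hi⟩).2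
end

/-- count vectors for small blocks -/
def tau3 (s : ℕ) : Fin 5 → Fin 3 → ℕ :=
  if s = 2 then ![![2, 0, 0], ![0, 2, 0], ![0, 0, 2], ![1, 1, 0], ![1, 0, 1]] else
  if s = 3 then ![![0, 3, 0], ![0, 0, 3], ![1, 1, 1], ![2, 1, 0], ![2, 0, 1]] else
  if s = 4 then ![![2, 2, 0], ![2, 0, 2], ![0, 2, 2], ![1, 3, 0], ![1, 0, 3]] else
  if s = 5 then ![![2, 2, 1], ![2, 1, 2], ![1, 2, 2], ![1, 3, 1], ![1, 1, 3]] else
  if s = 6 then ![![0, 3, 3], ![1, 2, 3], ![1, 3, 2], ![2, 2, 2], ![2, 1, 3]] else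
  ![![1, 0, 6], ![1, 1, 5], ![1, 2, 4], ![1, 3, 3], ![1, 4, 2]]

theorem tau3_inj : ∀ s < 8, Function.Injective (tau3 s) := by decide

theorem tau3_ok : ∀ s < 7, 2 ≤ s → ∀ i, s = tau3 s i 0 + tau3 s i 1 + tau3 s i 2 ∧
    ∀ c, tau3 s i c < 16 ∧ Ft (tau3 s i c) ≤ (![1, 2, 2] : Fin 3 → ℕ) c := by decide

theorem col3 : Col.{u} (![1, 2, 2] : Fin 3 → ℕ) := by
  refine col_of_lg _ fun S Ω B _ _ _ _ _ b s hS hb => ?_
  obtain hs | rfl | hs : s < 7 ∨ s = 7 ∨ 8 ≤ s := by omega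
  · exact ⟨tau3 s, tau3_inj s (by omega), fun O i => lg_small hS O _ _
      ((hb.card O).trans (tau3_ok s hs hb.two i).1) (tau3_ok s hs hb.two i).2⟩
  · exact ⟨tau3 7, tau3_inj 7 (by norm_num), fun O i => lg_seven hS hb O _ _ (by revert i; decide) (by revert i; decide)
      (by decide)⟩
  refine ⟨![![2, 2, s - 4], ![2, s - 4, 2], ![s - 4, 2, 2], ![1, 3, s - 4], ![1, s - 4, 3]], fun i j h => ?_,
    fun O i => ?_⟩
  · have h0 := congrFun h 0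
    have h1 := congrFun h 1
    fin_cases i <;> fin_cases j <;> simp at h0 h1 ⊢ <;> omega
  · fin_cases i
    · exact lg_big hS hb (by omega) O _ _ 1 rfl rfl (le_refl 1) one_le_two one_le_two one_le_two
    · exact lg_big hS hb (by omega) O _ _ (Equiv.swap 1 2) rfl rfl (le_refl 1) one_le_two one_le_two one_le_two
    · exact lg_big hS hb (by omega) O _ _ (Equiv.swap 0 2) rfl rfl one_le_two one_le_two (le_refl 1) (le_refl 1)
    · exact lg_big hS hb (by omega) O _ _ 1 rfl rfl zero_le_one (le_refl 2) zero_le_two (le_refl 2)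
    · exact lg_big hS hb (by omega) O _ _ (Equiv.swap 1 2) rfl rfl zero_le_one (le_refl 2) zero_le_two (le_refl 2)

end Cfsg.Agent.H65.Cz
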