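import Cfsg.Agent.H33.OutD
import Cfsg.Agent.H11.BaseHeis4

/-! Vectors with small centralizers for solvable linear groups (S4070): definitions. -/

namespace Cfsg.Agent.H65.Cz
universe u
open MulAction Cfsg.Agent.H33 commutatorElement

section der
variable {G : Type*} [Group G]

/-- the derived series of a subgroup, inside the ambient group -/
def der (S : Subgroup G) : ℕ → Subgroup G
  | 0 => S
  | n + 1 => ⁅der S n, der S n⁆

@[simp] theorem der_zero (S : Subgroup G) : der S 0 = S := rfl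
theorem der_succ (S : Subgroup G) (n : ℕ) : der S (n + 1) = ⁅der S n, der S n⁆ := rfl
theorem der_one (S : Subgroup G) : der S 1 = ⁅S, S⁆ := rfl

theorem comm_self_le (S : Subgroup G) : ⁅S, S⁆ ≤ S := Subgroup.commutator_le.2 fun _ ha _ hb =>
  mul_mem (mul_mem (mul_mem ha hb) (inv_mem ha)) (inv_mem hb)

theorem der_mono {S T : Subgroup G} (h : S ≤ T) : ∀ n, der S n ≤ der T n
  | 0 => h
  | n + 1 => Subgroup.commutator_mono (der_mono h n) (der_mono h n)

theorem der_anti (S : Subgroup G) {m n : ℕ} (h : m ≤ n) : der S n ≤ der S m :=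
  antitone_nat_of_succ_le (f := der S) (fun _ => comm_self_le _) h

theorem der_le (S : Subgroup G) (n : ℕ) : der S n ≤ S := der_anti S (Nat.zero_le n)

theorem der_add (S : Subgroup G) (m : ℕ) : ∀ n, der S (m + n) = der (der S m) n
  | 0 => rfl
  | n + 1 => by rw [← add_assoc, der_succ, der_succ, der_add S m n]

theorem der_map {H : Type*} [Group H] (f : G →* H) (S : Subgroup G) : ∀ n, (der S n).map f = der (S.map f) n
  | 0 => rfl
  | n + 1 => by rw [der_succ, der_succ, Subgroup.map_commutator, der_map f S n]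

theorem der_top (n : ℕ) : der (⊤ : Subgroup G) n = derivedSeries G n := by
  induction n with
  | zero => rfl
  | succ n ih => rw [der_succ, ih]; rfl

instance der_normal (S : Subgroup G) [h : S.Normal] : ∀ n, (der S n).Normal
  | 0 => h
  | n + 1 => letI := der_normal S n; Subgroup.commutator_normal _ _

theorem der_eq (S : Subgroup G) (n : ℕ) : der S n = (derivedSeries S n).map S.subtype := by
  rw [← der_top, der_map, ← MonoidHom.range_eq_map, Subgroup.range_subtype]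

/-- a homomorphism defined on a subgroup -/
theorem der_hom {H : Type*} [Group H] {S : Subgroup G} (f : S →* H) {T : Subgroup H} (h : ∀ x, f x ∈ T) (n : ℕ)
    (x : S) (hx : x.1 ∈ der S n) : f x ∈ der T n := by
  rw [der_eq, ← der_top] at hx
  obtain ⟨y, hy, e⟩ := hx
  obtain rfl : y = x := Subtype.ext e
  exact der_mono (S := (⊤ : Subgroup S).map f) (by rintro _ ⟨z, -, rfl⟩; exact h z) n (der_map f ⊤ n ▸ ⟨y, hy, rfl⟩)

/-- the `n`-th derived subgroup of `S` acts trivially on `X` -/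
def DL (S : Subgroup G) (n : ℕ) (X : Type*) [MulAction G X] : Prop := ∀ g ∈ der S n, ∀ x : X, g • x = x

theorem DL.mono {S T : Subgroup G} {m n : ℕ} {X : Type*} [MulAction G X] (h : DL T m X) (h1 : S ≤ T) (h2 : m ≤ n) :
    DL S n X := fun g hg => h g (der_mono h1 m (der_anti S h2 hg))

theorem DL.bot {S : Subgroup G} {n : ℕ} {X : Type*} [MulAction G X] [FaithfulSMul G X] (h : DL S n X) :
    derivedSeries S n = ⊥ := eq_bot_iff.2 fun g hg => Subtype.ext (eq_of_smul_eq_smul (α := X) fun x =>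
  (h g (der_eq S n ▸ ⟨g, hg, rfl⟩) x).trans (one_smul G x).symm)

/-- transport along a homomorphism compatible with the actions -/
theorem DL.comap {H : Type*} [Group H] (f : G →* H) {X : Type*} [MulAction G X] [MulAction H X]
    (hf : ∀ (g : G) (x : X), f g • x = g • x) {S : Subgroup G} {T : Subgroup H} (hT : ∀ g ∈ S, f g ∈ T) {n : ℕ}
    (h : DL T n X) : DL S n X := fun g hg x => (hf g x).symm.trans (h _ (der_mono (S := S.map f)
      (by rintro _ ⟨z, hz, rfl⟩; exact hT z hz) n (der_map f S n ▸ ⟨g, hg, rfl⟩)) x)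

variable (G) in
/-- stabilizer of a colouring -/
def Stab {Ω C : Type*} [MulAction G Ω] (κ : Ω → C) : Subgroup G where
  carrier := {g | ∀ ω, κ (g • ω) = κ ω}
  mul_mem' {a b} ha hb ω := by rw [mul_smul, ha, hb]
  one_mem' ω := by rw [one_smul]
  inv_mem' {a} ha ω := by rw [← ha, smul_inv_smul]

theorem mem_Stab {Ω C : Type*} [MulAction G Ω] {κ : Ω → C} {g : G} : g ∈ Stab G κ ↔ ∀ ω, κ (g • ω) = κ ω := Iff.rfl

variable (G) in
/-- the `k c`-th derived subgroup of the stabilizer of the colouring fixes the points of colour `c` -/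
def Good {Ω C : Type*} [MulAction G Ω] (κ : Ω → C) (k : C → ℕ) : Prop :=
  ∀ ω, ∀ g ∈ der (Stab G κ) (k (κ ω)), g • ω = ω

/-- colourings of the orbits can be put together -/
theorem good_of_orbits {Ω C : Type*} [MulAction G Ω] (k : C → ℕ)
    (h : ∀ ω : Ω, ∃ κ : orbit G ω → C, Good G κ k) : ∃ κ : Ω → C, Good G κ k := by
  choose κ hκ using h
  let o : Ω → Ω := fun ω => (Quotient.mk'' ω : orbitRel.Quotient G Ω).out
  have h1 : ∀ ω, ω ∈ orbit G (o ω) := fun ω => (orbitRel G Ω).symm (Quotient.mk_out' (s₁ := orbitRel G Ω) ω)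
  have h2 : ∀ (g : G) ω, o (g • ω) = o ω := fun g ω => congrArg Quotient.out (Quotient.sound' ⟨g, rfl⟩)
  have h3 : ∀ ω ω' (h : ω ∈ orbit G (o ω')), o ω = o ω' := by
    rintro _ ω' ⟨g, rfl⟩
    exact (h2 g _).trans (congrArg Quotient.out (Quotient.out_eq' _))
  have h4 : ∀ ω ω' (h : ω ∈ orbit G (o ω')), κ (o ω) ⟨ω, h1 ω⟩ = κ (o ω') ⟨ω, h⟩ := fun ω ω' h => by
    have : ∀ x y (e : x = y) (hx : ω ∈ orbit G x) (hy : ω ∈ orbit G y), κ x ⟨ω, hx⟩ = κ y ⟨ω, hy⟩ := by
      rintro x _ rfl _ _; rfl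
    exact this _ _ (h3 ω ω' h) _ _
  refine ⟨fun ω => κ (o ω) ⟨ω, h1 ω⟩, fun ω g hg => congrArg Subtype.val (hκ (o ω) ⟨ω, h1 ω⟩ g (der_mono ?_ _ hg))⟩
  intro a ha x
  exact (h4 _ ω (a • x).2).symm.trans ((ha x.1).trans (h4 _ ω x.2))

/-- if the colour counts on the blocks determine `γ`, the stabilizer of `κ` stabilizes `γ` -/
theorem stab_le_of_count {Ω B C C' : Type*} [MulAction G Ω] [MulAction G B] {b : Ω → B}
    (hb : ∀ (g : G) ω, b (g • ω) = g • b ω) (κ : Ω → C) (γ : B → C')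
    (h : ∀ O O', (∀ c, {ω | b ω = O ∧ κ ω = c}.ncard = {ω | b ω = O' ∧ κ ω = c}.ncard) → γ O = γ O') :
    Stab G κ ≤ Stab G γ := fun g hg O => h _ _ fun c => by
  rw [← Set.ncard_image_of_injective _ (MulAction.injective g⁻¹)]
  congr 1
  ext ω
  constructor
  · rintro ⟨x, ⟨h1, h2⟩, rfl⟩
    exact ⟨by rw [hb, h1, inv_smul_smul], ((Stab G κ).inv_mem hg x).trans h2⟩
  · rintro ⟨h1, h2⟩
    exact ⟨g • ω, ⟨by rw [hb, h1], (hg ω).trans h2⟩, inv_smul_smul g ω⟩
end der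

/-- all completely reducible modules of order `s` of solvable groups have derived length at most `d` -/
def DT (s d : ℕ) : Prop := ∀ (K M : Type u) [Group K] [Finite K] [AddCommGroup M] [Finite M] [DistribMulAction K M],
  Group.IsSolvable K → CR K M → Nat.card M = s → DL (⊤ : Subgroup K) d M

/-- all solvable permutation groups of degree `m` have derived length at most `d` -/
def FT (m d : ℕ) : Prop := ∀ (S Ω : Type u) [Group S] [Finite S] [Finite Ω] [MulAction S Ω],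
  Group.IsSolvable S → Nat.card Ω = m → DL (⊤ : Subgroup S) d Ω

/-- table for modules (valid below `65536`) -/
def Dt (x : ℕ) : ℕ := if x ≤ 2 then 0 else if x = 3 then 1 else if x ≤ 8 then 2 else if x = 16 then 3 else
  if x < 64 then 4 else if x < 4096 then 6 else 8

/-- table for permutation groups (valid below `16`) -/
def Ft (m : ℕ) : ℕ := if m ≤ 1 then 0 else if m = 2 then 1 else if m = 3 then 2 else if m ≤ 7 then 3 else
  if m = 8 then 4 else 5

/-- every solvable permutation group has a good colouring -/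
def Col {C : Type} (k : C → ℕ) : Prop := ∀ (S Ω : Type u) [Group S] [Finite S] [Finite Ω] [MulAction S Ω],
  Group.IsSolvable S → ∃ κ : Ω → C, Good S κ k

/-- a system of affine blocks of size `s` -/
structure Blk (S : Type u) {Ω B : Type u} [Group S] [MulAction S Ω] [MulAction S B] (b : Ω → B) (s : ℕ) : Prop where
  two : 2 ≤ s
  eqv : ∀ (g : S) ω, b (g • ω) = g • b ω
  card : ∀ O, {ω | b ω = O}.ncard = s
  base : ∀ O, ∃ p : Fin 4 → Ω, (∀ i, b (p i) = O) ∧
    ∀ g ∈ Stab S b, (∀ i, g • p i = p i) → ∀ ω, b ω = O → g • ω = ω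
  lin : ∀ d, DT.{u} s d → DL (Stab S b) (d + 1) Ω ∧
    ∀ ω, ∀ g ∈ der (Stab S b ⊓ stabilizer S ω) d, ∀ ω', b ω' = b ω → g • ω' = ω'

section
variable (A V L X Ω : Type u) [Group A] [AddCommGroup V] [DistribMulAction A V] [Group L] [AddCommGroup X]
  [DistribMulAction L X] [MulAction A Ω]

/-- `V` is induced from the `L`-module `X` along `Ω` -/
structure Ind where
  h : A → Ω → L
  Φ : (Ω → X) ≃+ V
  smul : ∀ a x, a • Φ x = Φ fun ω => h a ω • x (a⁻¹ • ω)

variable {A V L X Ω} (I : Ind A V L X Ω)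

theorem Ind.h_mul [FaithfulSMul L X] (a b : A) (ω : Ω) : I.h (a * b) ω = I.h a ω * I.h b (a⁻¹ • ω) :=
  eq_of_smul_eq_smul (α := X) fun x => by
    have := (I.smul (a * b) fun _ => x).symm.trans ((mul_smul _ _ _).trans ((congrArg _ (I.smul b _)).trans (I.smul a _)))
    simpa [mul_smul] using congrFun (I.Φ.injective this) ω

/-- the local homomorphism on a subgroup fixing `ω` -/
def Ind.loc [FaithfulSMul L X] (S : Subgroup A) (ω : Ω) (hS : ∀ a ∈ S, a • ω = ω) : S →* L :=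
  MonoidHom.mk' (fun a => I.h a ω) fun a b => by
    rw [Subgroup.coe_mul, I.h_mul, hS _ (inv_mem a.2)]

theorem Ind.transfer [FaithfulSMul L X] {C : Type*} (P : C → X) (hP : ∀ (a : L) c c', a • P c = P c' → c = c')
    (d k : C → ℕ) (hd : ∀ c, DL (stabilizer L (P c)) (d c) X) (κ : Ω → C) (hκ : Good A κ k) {n : ℕ}
    (hn : ∀ c, k c + d c ≤ n) : DL (stabilizer A (I.Φ fun ω => P (κ ω))) n V := by
  set T := stabilizer A (I.Φ fun ω => P (κ ω))
  have h1 : ∀ a ∈ T, ∀ ω, I.h a ω • P (κ (a⁻¹ • ω)) = P (κ ω) := fun a ha =>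
    congrFun (I.Φ.injective ((I.smul a _).symm.trans ha))
  have h2 : T ≤ Stab A κ := fun a ha => inv_mem_iff.1 fun ω => hP _ _ _ (h1 a ha ω)
  intro g hg v
  obtain ⟨x, rfl⟩ := I.Φ.surjective v
  rw [I.smul]
  refine congrArg I.Φ (funext fun ω => ?_)
  have h3 : ∀ a ∈ der T (k (κ ω)), a • ω = ω := fun a ha => hκ ω a (der_mono h2 _ ha)
  have h4 := der_anti T (hn (κ ω)) hg
  rw [der_add] at h4
  rw [h3 _ (inv_mem (der_le _ _ h4))]
  exact hd (κ ω) _ (der_hom (I.loc _ ω h3) (fun a => by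
    have := h1 a (der_le _ _ a.2) ω
    rwa [h3 _ (inv_mem a.2)] at this) _ ⟨g, der_le _ _ h4⟩ h4) _

include I in
theorem Ind.top [FaithfulSMul L X] {m d : ℕ} (h1 : DL (⊤ : Subgroup A) m Ω) (h2 : DL (⊤ : Subgroup L) d X) :
    DL (⊤ : Subgroup A) (m + d) V :=
  (I.transfer (fun _ : Unit => 0) (fun _ _ _ _ => rfl) (fun _ => d) (fun _ => m) (fun _ => h2.mono le_top le_rfl)
    (fun _ => ()) (fun ω g hg => h1 g (der_mono le_top _ hg) ω) fun _ => le_rfl).mono
    (fun a _ => (congrArg _ I.Φ.map_zero).trans ((smul_zero a).trans I.Φ.map_zero.symm)) le_rfl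

include I in
theorem Ind.card [Finite Ω] : Nat.card V = Nat.card X ^ Nat.card Ω := by
  rw [← Nat.card_congr I.Φ.toEquiv, Nat.card_fun]
end

/-- structure of a quasi-primitive solvable linear group -/
structure PD (A V M : Type u) [Group A] [AddCommGroup V] [DistribMulAction A V] [AddCommGroup M] [DistribMulAction A M]
    (U E : Subgroup A) (q n e : ℕ) : Prop where
  cr : CR A M
  cM : Nat.card M = e ^ 2
  cV : Nat.card V = q ^ n
  en : e ≤ n
  q2 : 2 ≤ q
  dvd : ∀ r : ℕ, r.Prime → r ∣ e → r ∣ Nat.card U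
  uq : Nat.card U ∣ q - 1
  pw : ∃ k, q = k ^ (Subgroup.centralizer (U : Set A)).index
  derC : der (⊤ : Subgroup A) 1 ≤ Subgroup.centralizer (U : Set A)
  ker : ∀ g ∈ Subgroup.centralizer (U : Set A), (∀ x : M, g • x = x) → g ∈ E
  UE : U ≤ E
  EE : der E 1 ≤ U
  UU : der U 1 = ⊥
  fpf : ∀ g ∈ U, ∀ v : V, g • v = v → g = 1 ∨ v = 0
  cE : Nat.card E = Nat.card U * e ^ 2
  cA : Nat.card A ≤ (Subgroup.centralizer (U : Set A)).index * Nat.card U * e ^ 2 * Nat.card (toPermHom A M).range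
  fx : ∀ g : A, g ≠ 1 → Nat.card (Fx V g) ^ 4 ≤ Nat.card V ^ 3
  fxo : Odd (Nat.card A) → ∀ g : A, g ≠ 1 → Nat.card (Fx V g) ^ 3 ≤ Nat.card V ^ 2
  fxE : Odd (Nat.card A) → ∀ g ∈ E, g ≠ 1 → Nat.card (Fx V g) ^ 3 ≤ Nat.card V
  sq : ∀ X : AddSubgroup M, Inv A X → IsSquare (Nat.card X)

section
variable {A V : Type u} [Group A] [AddCommGroup V] [DistribMulAction A V]

/-- the action on an invariant subgroup -/
@[reducible] def invAct {W : AddSubgroup V} (h : Inv A W) : DistribMulAction A W where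
  smul a v := ⟨a • v.1, h a v v.2⟩
  one_smul v := Subtype.ext (one_smul A v.1)
  mul_smul a b v := Subtype.ext (mul_smul a b v.1)
  smul_zero a := Subtype.ext (smul_zero a)
  smul_add a v w := Subtype.ext (smul_add a v.1 w.1)

theorem exists_irr [Finite V] {Y : AddSubgroup V} (hY : Inv A Y) (h : Y ≠ ⊥) :
    ∃ (W : AddSubgroup V) (hW : Inv A W), W ≤ Y ∧ W ≠ ⊥ ∧ (letI := invAct hW; Irr A W) := by
  obtain ⟨W, ⟨h1, h2, h3⟩, h4⟩ := (Set.toFinite {W : AddSubgroup V | Inv A W ∧ W ≤ Y ∧ W ≠ ⊥}).exists_minimal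
    ⟨Y, hY, le_rfl, h⟩
  refine ⟨W, h1, h2, h3, fun X hX => or_iff_not_imp_left.2 fun e => eq_top_iff.2 fun x _ => ?_⟩
  obtain ⟨y, hy, e⟩ := h4 (y := X.map W.subtype) ⟨by rintro a _ ⟨v, hv, rfl⟩; exact ⟨_, hX a v hv, rfl⟩,
    (AddSubgroup.map_subtype_le _).trans h2, fun e' => e ((AddSubgroup.map_eq_bot_iff_of_injective _
      W.subtype_injective).1 e')⟩ (AddSubgroup.map_subtype_le _) x.2
  exact (Subtype.ext e : y = x) ▸ hy

/-- reduction to irreducible constituents: a good vector -/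
theorem cr_vec [Finite V] (hcr : CR A V) (n : ℕ)
    (h : ∀ (W : AddSubgroup V) (hW : Inv A W), W ≠ ⊥ → (letI := invAct hW; Irr A W → ∃ w : W, DL (stabilizer A w) n W)) :
    ∃ v : V, DL (stabilizer A v) n V := by
  obtain ⟨Y, ⟨h1, v, hv, h2⟩, h3⟩ := (Set.toFinite {Y : AddSubgroup V | Inv A Y ∧ ∃ v ∈ Y,
    ∀ g ∈ der (stabilizer A v) n, ∀ x ∈ Y, g • x = x}).exists_maximal ⟨⊥, fun a v hv => by simp_all, 0, zero_mem _, by simp⟩
  obtain ⟨Z, h4, h5, h6⟩ := hcr Y h1
  by_cases h7 : Z = ⊥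
  · exact ⟨v, fun g hg x => h2 g hg x (by rw [← sup_bot_eq Y, ← h7, h6]; trivial)⟩
  obtain ⟨W, hW, h8, h9, h10⟩ := exists_irr h4 h7
  letI := invAct hW
  obtain ⟨w, hw⟩ := h W hW h9 h10
  have h11 : ∀ a : A, a • (v + w.1) = v + w.1 → a • v = v ∧ a • w.1 = w.1 := fun a e => by
    have e1 : a • v - v = w.1 - a • w.1 := by rw [sub_eq_sub_iff_add_eq_add, ← smul_add, e, add_comm]
    have e2 : a • v - v = 0 := AddSubgroup.mem_bot.1 (h5 ▸ ⟨Y.sub_mem (h1 a v hv) hv,
      e1 ▸ Z.sub_mem (h8 w.2) (h4 a _ (h8 w.2))⟩)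
    exact ⟨sub_eq_zero.1 e2, (sub_eq_zero.1 (e1 ▸ e2)).symm⟩
  refine (h9 (eq_bot_iff.2 (h5 ▸ le_inf (le_sup_right.trans (h3 (y := Y ⊔ W) ⟨h1.sup hW, v + w.1,
    add_mem (AddSubgroup.mem_sup_left hv) (AddSubgroup.mem_sup_right w.2), fun g hg x hx => ?_⟩ le_sup_left)) h8))).elim
  obtain ⟨y, hy, z, hz, rfl⟩ := AddSubgroup.mem_sup.1 hx
  rw [smul_add, h2 g (der_mono (fun a ha => (h11 a ha).1) n hg) y hy]
  exact congrArg _ (congrArg Subtype.val (hw g (der_mono (fun a ha => Subtype.ext (h11 a ha).2) n hg) ⟨z, hz⟩))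

/-- reduction to irreducible constituents: the derived length -/
theorem cr_top [Finite V] (hcr : CR A V) (n : ℕ)
    (h : ∀ (W : AddSubgroup V) (hW : Inv A W), W ≠ ⊥ → (letI := invAct hW; Irr A W → DL (⊤ : Subgroup A) n W)) :
    DL (⊤ : Subgroup A) n V := by
  let Y : AddSubgroup V := ⨅ g ∈ der (⊤ : Subgroup A) n, Fx V g
  have h0 : ∀ x, x ∈ Y ↔ ∀ g ∈ der (⊤ : Subgroup A) n, g • x = x := fun x => by simp [Y, AddSubgroup.mem_iInf, mem_Fx]
  obtain ⟨Z, h4, h5, h6⟩ := hcr Y fun a x hx => (h0 _).2 fun g hg => by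
    have := (h0 x).1 hx _ ((der_normal ⊤ n).conj_mem g hg a⁻¹)
    rwa [inv_inv, mul_smul, mul_smul, inv_smul_eq_iff] at this
  by_cases h7 : Z = ⊥
  · exact fun g hg x => (h0 x).1 (by rw [← sup_bot_eq Y, ← h7, h6]; trivial) g hg
  obtain ⟨W, hW, h8, h9, h10⟩ := exists_irr h4 h7
  exact (h9 (eq_bot_iff.2 (h5 ▸ le_inf (fun x hx => (h0 x).2 fun g hg =>
    congrArg Subtype.val (h W hW h9 h10 g hg ⟨x, hx⟩)) h8))).elim
end

/-- a subgroup stabilizing a set of size `m` -/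
theorem FT.fix {m d : ℕ} (h : FT.{u} m d) {S Ω : Type u} [Group S] [Finite S] [Finite Ω] [MulAction S Ω]
    (hS : Group.IsSolvable S) (T : Subgroup S) (D : Set Ω) (hD : D.ncard = m) (hT : ∀ g ∈ T, ∀ x ∈ D, g • x ∈ D) :
    ∀ g ∈ der T d, ∀ x ∈ D, g • x = x := fun g hg x hx =>
  congrArg Subtype.val (h T (⟨D, fun g _ hx => hT g g.2 _ hx⟩ : SubMulAction T Ω) inferInstance hD _
    (der_hom (MonoidHom.id T) (fun _ => Subgroup.mem_top _) d ⟨g, der_le _ _ hg⟩ hg) ⟨x, hx⟩)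

theorem dt_prime {p : ℕ} (hp : p.Prime) : DT.{u} p 1 := fun K M _ _ _ _ _ _ _ hM => by
  have := Fact.mk hp
  obtain ⟨x, hx⟩ := (isAddCyclic_of_prime_card hM).exists_generator
  have h1 : ∀ a : K, ∃ i : ℤ, ∀ y : M, a • y = i • y := fun a => by
    obtain ⟨i, hi⟩ := hx (a • x)
    refine ⟨i, fun y => ?_⟩
    obtain ⟨j, rfl⟩ := hx y
    rw [smul_comm a j, ← hi, smul_comm]
  refine fun g hg => Equiv.ext_iff.1 (Subgroup.commutator_le.2 (fun a _ b _ => ?_ : ∀ a ∈ ⊤, ∀ b ∈ ⊤,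
    ⁅a, b⁆ ∈ (toPermHom K M).ker) hg)
  rw [MonoidHom.mem_ker, map_commutatorElement, commutatorElement_eq_one_iff_mul_comm]
  obtain ⟨i, hi⟩ := h1 a
  obtain ⟨j, hj⟩ := h1 b
  exact Equiv.ext fun y => by simp [hi, hj, smul_comm i j]

theorem Blk.card_eq {S Ω B : Type u} [Group S] [MulAction S Ω] [MulAction S B] [Finite Ω] [Finite B] {b : Ω → B} {s : ℕ}
    (h : Blk S b s) : Nat.card Ω = s * Nat.card B := by
  have := Fintype.ofFinite B
  have h1 : ∀ O, Nat.card {ω // b ω = O} = s := h.card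
  rw [← Nat.card_congr (Equiv.sigmaFiberEquiv b), Nat.card_sigma, Finset.sum_congr rfl fun O _ => h1 O, Finset.sum_const, smul_eq_mul, mul_comm, Nat.card_eq_fintype_card,
    Finset.card_univ]

/-- the regular five-colouring -/
theorem col5 : Col.{u} (fun _ : ZMod 5 => 0) := fun S Ω _ _ _ _ hS => by
  have : Fact (Nat.Prime 5) := ⟨by norm_num⟩
  obtain ⟨κ, hκ⟩ := colour (mc_big le_rfl (base_three H11.heisBase3 (Nat.card Ω + 1)) 1) _ S Ω rfl (Nat.lt_succ_self _) hS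
    (Nat.coprime_one_right _)
  exact ⟨κ, fun ω g hg => hκ g hg ω⟩

end Cfsg.Agent.H65.Cz
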