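import Cfsg.Agent.H65.CzDefs

/-! Irreducible modules are induced from quasi-primitive modules. -/

namespace Cfsg.Agent.H65.Cz
universe u
open MulAction Cfsg.Agent.H33 Pointwise

section
variable {A V : Type u} [Group A] [AddCommGroup V] [DistribMulAction A V] [Finite V]

theorem impr_data [Finite A] [Nontrivial V] (hq : ¬ Quasi A V) :
    ∃ (W : AddSubgroup V) (_ : Fintype (orbit A W)), W ≠ ⊥ ∧ W ≠ ⊤ ∧
      ∀ f : orbit A W → V, (∀ ω, f ω ∈ ω.1) → ∑ ω, f ω = 0 → ∀ ω, f ω = 0 := by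
  classical
  simp only [Quasi, not_forall] at hq
  obtain ⟨R, hc, hR, r₀, hr₀, hq⟩ := hq
  obtain ⟨W, ⟨h1, T, h2, h3⟩, h4⟩ := (Set.toFinite {W : AddSubgroup V | W ≠ ⊥ ∧ ∃ T ⊆ R,
    ∀ v, v ∈ W ↔ ∀ r ∈ T, r v = 0}).exists_minimal ⟨⊤, by simp, ∅, by simp⟩
  have h5 : ∀ r ∈ R, (∀ v ∈ W, r v = 0) ∨ ∀ v ∈ W, r v = 0 → v = 0 := fun r hr => by
    refine or_iff_not_imp_right.2 fun h v hv => (h4 (y := W ⊓ r.toAddMonoidHom.ker) ⟨fun e => h fun v hv h' =>
      AddSubgroup.mem_bot.1 (e ▸ ⟨hv, h'⟩), insert r T, Set.insert_subset hr h2, fun v => ?_⟩ inf_le_left hv).2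
    simp [h3, and_comm]
  have hW : W ≠ ⊤ := by
    rintro rfl
    obtain ⟨h, v, h', h''⟩ := hq
    exact h'' ((h5 r₀ hr₀).resolve_left (fun h' => h (LinearMap.ext fun v => h' v trivial)) v trivial h')
  have := Fintype.ofFinite (orbit A W)
  have h6 : ∀ ω : orbit A W, ∃ T ⊆ R, ∀ v, v ∈ ω.1 ↔ ∀ r ∈ T, r v = 0 := by
    rintro ⟨_, a, rfl⟩
    refine ⟨{s ∈ R | ∃ r ∈ T, ∀ v, s v = a • r (a⁻¹ • v)}, Set.sep_subset _ _, fun v => ?_⟩
    rw [AddSubgroup.mem_pointwise_smul_iff_inv_smul_mem, h3]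
    refine ⟨fun h s ⟨_, r, hr, e⟩ => by rw [e, h r hr, smul_zero], fun h r hr => ?_⟩
    obtain ⟨s, hs, e⟩ := hR a r (h2 hr)
    exact (smul_eq_zero_iff_eq a).1 ((e v).symm.trans (h s ⟨hs, r, hr, e⟩))
  have h7 : ∀ ω : orbit A W, ∀ r ∈ R, (∀ v ∈ ω.1, r v = 0) ∨ ∀ v ∈ ω.1, r v = 0 → v = 0 := by
    rintro ⟨_, a, rfl⟩ r hr
    obtain ⟨s, hs, e⟩ := hR a⁻¹ r hr
    simp only [AddSubgroup.mem_pointwise_smul_iff_inv_smul_mem]
    exact (h5 s hs).imp (fun h v hv => by simpa [e, smul_eq_zero_iff_eq] using h _ hv) fun h v hv h' => by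
      simpa [e, h', smul_eq_zero_iff_eq] using h _ hv
  have h8 : ∀ ω : orbit A W, Nat.card ω.1 = Nat.card W := by
    rintro ⟨_, a, rfl⟩
    exact AddSubgroup.card_map_of_injective (MulAction.injective a)
  refine ⟨W, this, h1, hW, fun f hf e ω => ?_⟩
  suffices ∀ s : Finset (orbit A W), ω ∉ s → ∀ f : orbit A W → V, (∀ ω, f ω ∈ ω.1) → f ω + ∑ x ∈ s, f x = 0 → f ω = 0 from
    this (Finset.univ.erase ω) (by simp) f hf (by rwa [Finset.add_sum_erase _ _ (Finset.mem_univ _)])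
  intro s
  induction s using Finset.induction_on with
  | empty => simp
  | insert x s hx ih =>
    intro hω f hf e
    obtain ⟨T, h2, h3⟩ := h6 x
    obtain ⟨r, hr, h9⟩ : ∃ r ∈ T, ∀ v ∈ ω.1, r v = 0 → v = 0 := by
      by_contra! h
      refine hω (Finset.mem_insert.2 (.inl (Subtype.ext (AddSubgroup.eq_of_le_of_card_ge (fun v hv => (h3 v).2
        fun r hr => (h7 ω r (h2 hr)).resolve_right (by simpa using h r hr) v hv) (by rw [h8, h8])))))
    refine h9 _ (hf ω) (ih (fun h => hω (Finset.mem_insert_of_mem h)) (fun y => r (f y)) (fun y => ?_) ?_)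
    · obtain ⟨T', h2', h3'⟩ := h6 y
      exact (h3' _).2 fun s hs => by
        rw [← Module.End.mul_apply, hc s (h2' hs) r (h2 hr), Module.End.mul_apply, (h3' _).1 (hf y) s hs, map_zero]
    · simpa [Finset.sum_insert hx, (h3 _).1 (hf x) r hr] using congrArg r e

omit [Finite V] in
theorem ind_one (hirr : Irr A V) {W : AddSubgroup V} (hW : W ≠ ⊥) [Fintype (orbit A W)]
    (hind : ∀ f : orbit A W → V, (∀ ω, f ω ∈ ω.1) → ∑ ω, f ω = 0 → ∀ ω, f ω = 0) :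
    ∃ (_ : DistribMulAction (stabilizer A W) W) (I : Ind A V (stabilizer A W) W (orbit A W)), Irr (stabilizer A W) W ∧
      (∀ ω, I.h 1 ω = 1) ∧ ∀ a b ω, I.h (a * b) ω = I.h a ω * I.h b (a⁻¹ • ω) := by
  classical
  choose g hg using fun ω : orbit A W => ω.2
  have hg : ∀ ω, g ω • W = ω := hg
  let h : A → orbit A W → stabilizer A W := fun a ω => ⟨(g ω)⁻¹ * a * g (a⁻¹ • ω), by
    rw [mem_stabilizer_iff, mul_smul, mul_smul, hg, orbit.coe_smul, smul_inv_smul, ← hg, inv_smul_smul]⟩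
  let := subAct (stabilizer A W) W fun a ha v hv => (show a • W = W from ha) ▸ AddSubgroup.smul_mem_pointwise_smul v a W hv
  let Φ : (orbit A W → W) →+ V := ∑ ω, ((DistribSMul.toAddMonoidHom V (g ω)).comp W.subtype).comp (Pi.evalAddMonoidHom _ ω)
  have h3 : ∀ x, Φ x = ∑ ω, g ω • (x ω).1 := fun x => by simp [Φ]
  have h4 : ∀ a x, a • Φ x = Φ fun ω => h a ω • x (a⁻¹ • ω) := fun a x => by
    rw [h3, h3, Finset.smul_sum, ← Equiv.sum_comp (toPerm a⁻¹)]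
    exact Finset.sum_congr rfl fun ω _ => (by simp [mul_smul] : _ = g ω • ((g ω)⁻¹ * a * g (a⁻¹ • ω)) • (x (a⁻¹ • ω)).1)
  have h5 : Function.Injective Φ := (injective_iff_map_eq_zero Φ).2 fun x e => funext fun ω => Subtype.ext
    ((smul_eq_zero_iff_eq (g ω)).1 (hind (fun ω => g ω • (x ω).1)
      (fun ω => hg ω ▸ AddSubgroup.smul_mem_pointwise_smul _ _ _ (x ω).2) (h3 x ▸ e) ω))
  let ω₀ : orbit A W := ⟨W, mem_orbit_self W⟩
  have h7 : ∀ X : AddSubgroup W, X ≠ ⊥ → Inv (stabilizer A W) X → ∀ v, ∃ x, (∀ ω, x ω ∈ X) ∧ Φ x = v := by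
    intro X hX' hX'' v
    obtain ⟨u, hu, hu'⟩ := (AddSubgroup.bot_or_exists_ne_zero X).resolve_left hX'
    obtain ⟨x, hx, e⟩ := ((hirr ((AddSubgroup.pi Set.univ fun _ => X).map Φ) (by
      rintro a _ ⟨x, hx, rfl⟩
      exact ⟨_, fun ω _ => hX'' _ _ (hx _ trivial), (h4 a x).symm⟩)).resolve_left fun e => hu' (by
        have : Φ (Pi.single ω₀ u) = Φ 0 := by
          rw [map_zero, ← AddSubgroup.mem_bot, ← e]
          exact ⟨_, fun ω _ => by rw [Pi.single_apply]; split_ifs; exacts [hu, X.zero_mem], rfl⟩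
        simpa using congrFun (h5 this) ω₀)).ge (AddSubgroup.mem_top v)
    exact ⟨x, fun ω => hx ω trivial, e⟩
  have := (AddSubgroup.nontrivial_iff_ne_bot W).2 hW
  refine ⟨inferInstance, ⟨h, AddEquiv.ofBijective Φ ⟨h5, fun v => (h7 ⊤ top_ne_bot (fun _ _ _ => trivial) v).imp
    fun _ h => h.2⟩, h4⟩, fun X hX => or_iff_not_imp_left.2 fun e => eq_top_iff.2 fun v _ => ?_,
    fun ω => Subtype.ext (by simp [h]), fun a b ω => Subtype.ext (by simp [h, mul_smul, mul_assoc])⟩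
  obtain ⟨x, hx, e⟩ := h7 X e hX (Φ (Pi.single ω₀ v))
  simpa [h5 e] using hx ω₀

end

/-- A copy of the product without instances. -/
def Tw (Ω Ω' : Type u) : Type u := Ω × Ω'

theorem ind_comp {A V H W Ω L X Ω' : Type u} [Group A] [AddCommGroup V] [DistribMulAction A V] [Group H]
    [AddCommGroup W] [DistribMulAction H W] [MulAction A Ω] [Group L] [AddCommGroup X] [DistribMulAction L X]
    [MulAction H Ω'] (I : Ind A V H W Ω) (h1 : ∀ ω, I.h 1 ω = 1)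
    (h2 : ∀ a b ω, I.h (a * b) ω = I.h a ω * I.h b (a⁻¹ • ω)) (J : Ind H W L X Ω') :
    ∃ _ : MulAction A (Tw Ω Ω'), Nonempty (Ind A V L X (Tw Ω Ω')) := by
  let : MulAction A (Tw Ω Ω') :=
    { smul a ω := (a • ω.1, I.h a (a • ω.1) • ω.2)
      one_smul ω := Prod.ext (one_smul A ω.1) (by change I.h 1 _ • ω.2 = ω.2; rw [h1, one_smul])
      mul_smul a b ω := Prod.ext (mul_smul a b ω.1) (by
        change I.h (a * b) ((a * b) • ω.1) • ω.2 = I.h a (a • b • ω.1) • I.h b (b • ω.1) • ω.2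
        rw [h2, mul_smul, mul_smul, inv_smul_smul]) }
  have h3 (a : A) (ω) : I.h a⁻¹ (a⁻¹ • ω) = (I.h a ω)⁻¹ :=
    eq_inv_of_mul_eq_one_right (by rw [← h2, mul_inv_cancel, h1])
  let c : (Tw Ω Ω' → X) ≃+ (Ω → Ω' → X) := { Equiv.curry Ω Ω' X with map_add' := fun _ _ => rfl }
  refine ⟨inferInstance, ⟨⟨fun a ω => J.h (I.h a ω.1) ω.2,
    (c.trans (AddEquiv.piCongrRight fun _ => J.Φ)).trans I.Φ, fun a x => ?_⟩⟩⟩
  refine (I.smul a _).trans (congrArg I.Φ (funext fun ω => (J.smul _ _).trans (congrArg J.Φ (funext fun ω' => ?_))))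
  exact congrArg (fun t => J.h (I.h a ω) ω' • x (a⁻¹ • ω, t • ω')) (h3 a ω).symm

theorem exists_ind (A V : Type u) [Group A] [Finite A] [AddCommGroup V] [Finite V] [DistribMulAction A V] [Nontrivial V]
    (hA : Group.IsSolvable A) (h : Irr A V) :
    ∃ (L X Ω : Type u) (_ : Group L) (_ : Finite L) (_ : AddCommGroup X) (_ : Finite X) (_ : DistribMulAction L X)
      (_ : Finite Ω) (_ : MulAction A Ω), Nonempty (Ind A V L X Ω) ∧ Nontrivial X ∧ FaithfulSMul L X ∧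
      Group.IsSolvable L ∧ Irr L X ∧ Quasi L X ∧ Nat.card Ω * Nat.card L ∣ Nat.card A := by
  induction hn : Nat.card V using Nat.strong_induction_on generalizing A V with | _ n ih =>
  by_cases hq : Quasi A V
  · let ρ := DistribMulAction.toModuleAut ℤ V (S := A)
    have : Finite ρ.range := .of_surjective _ ρ.rangeRestrict_surjective
    let : MulAction A PUnit.{u + 1} := { smul _ x := x, one_smul _ := rfl, mul_smul _ _ _ := rfl }
    exact ⟨ρ.range, V, PUnit, _, ‹_›, _, ‹_›, inferInstance, inferInstance, inferInstance,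
      ⟨⟨fun a _ => ⟨ρ a, a, rfl⟩, AddEquiv.funUnique _ _, fun _ _ => rfl⟩⟩, ‹_›, inferInstance,
      Group.isSolvable_of_surjective ρ.rangeRestrict_surjective, fun U hU => h U fun a => hU ⟨_, a, rfl⟩,
      fun R h1 h2 => hq R h1 fun a r hr => (h2 ⟨_, a, rfl⟩ r hr).imp fun s hs => ⟨hs.1, fun v => by
        rw [hs.2, show (⟨ρ a, a, rfl⟩ : ρ.range)⁻¹ = ⟨ρ a⁻¹, a⁻¹, rfl⟩ from Subtype.ext (map_inv ρ a).symm]; rfl⟩,
      by simpa using Subgroup.card_range_dvd ρ⟩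
  obtain ⟨W, _, h1, h2, h3⟩ := impr_data hq
  obtain ⟨_, I, h4, h5, h6⟩ := ind_one h h1 h3
  have := (AddSubgroup.nontrivial_iff_ne_bot W).2 h1
  obtain ⟨L, X, Ω, _, _, _, _, _, _, _, ⟨J⟩, h7, h8, h9, h10, h11, h12⟩ := ih _ (hn ▸ lt_of_le_of_ne
    W.card_le_card_addGroup fun e => h2 (W.eq_top_of_card_eq e)) (stabilizer A W) W inferInstance h4 rfl
  obtain ⟨_, hJ⟩ := ind_comp I h5 h6 J
  refine ⟨L, X, Tw (orbit A W) Ω, _, ‹_›, _, ‹_›, _, inferInstanceAs (Finite (_ × _)), _, hJ, h7, h8, h9, h10, h11, ?_⟩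
  rw [show Nat.card (Tw (orbit A W) Ω) = _ from Nat.card_prod _ _, mul_assoc, ← (stabilizer A W).index_mul_card,
    index_stabilizer]
  exact Nat.mul_dvd_mul_left _ h12

end Cfsg.Agent.H65.Cz
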