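import Cfsg.Agent.H65.CzDefs

/-! The structure of quasi-primitive solvable linear groups. -/

namespace Cfsg.Agent.H65.Cz
universe u
open MulAction Cfsg.Agent.H33 Subgroup
open scoped commutatorElement

section
variable {A : Type*} {V : Type*} {K : Type*} [Group A] [AddCommGroup V] [DistribMulAction A V] [Field K] [Module K V]
  {U : Subgroup A} {ι : U →* K} (h : Prim V U ι) [Finite A]
include h

theorem prim_E (hA : Group.IsSolvable A) : ∃ E : Subgroup A, ∃ s : Sec ⊤ U E, E.Normal ∧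
    E ≤ centralizer U ∧ CR (⊤ : Subgroup A) s.M ∧ centralizer (U : Set A) ⊓ centralizer E ≤ U := by
  have := h.nU
  have hN : ∀ X : Subgroup A, Nz ⊤ X ↔ X.Normal := fun X =>
    ⟨fun h => ⟨fun x hx g => h g trivial x hx⟩, fun h g _ x hx => h.conj_mem x hx g⟩
  have hq : ∀ x y : A, x * y * x⁻¹ * y⁻¹ ∈ U ↔ Commute (x : A ⧸ U) y := fun x y => by
    rw [← QuotientGroup.eq_one_iff, ← commutatorElement_eq_one_iff_commute]; rfl
  obtain ⟨E, ⟨h1, h2, h3⟩, h4⟩ := (Set.toFinite {E : Subgroup A | Sec ⊤ U E ∧ E ≤ centralizer U ∧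
      ∀ Z, Nz ⊤ Z → U ≤ Z → Z < E → ∃ Y ≤ E, Nz ⊤ Y ∧ ¬ Y ≤ Z ∧
      ∀ X ≤ Y, Nz ⊤ X → U ⊓ Y ≤ X → X ≤ U ∨ X = Y}).exists_maximal ⟨U, ⟨le_rfl, (hN U).2 this, (hN U).2 this,
      fun x hx y hy => mul_mem (this.conj_mem y hy x) (inv_mem hy)⟩, h.comm, fun Z _ h h' => (h'.2 h).elim⟩
  have hE := (hN E).1 h1.nN
  refine ⟨E, h1, hE, h2, h1.cr h3, by_contra fun h5 => ?_⟩
  obtain ⟨Y, ⟨h6, h7, h8⟩, h9⟩ := (Set.toFinite {Y : Subgroup A | Y.Normal ∧ U < Y ∧
    Y ≤ centralizer (U : Set A) ⊓ centralizer E}).exists_minimal ⟨_, inferInstance,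
    lt_of_le_of_ne (le_inf h.comm (le_centralizer_iff.1 h2)) fun e => h5 e.ge, le_rfl⟩
  have h10 : ∀ X ≤ Y, X.Normal → U ≤ X → X ≤ U ∨ X = Y := fun X hX hX' hU => or_iff_not_imp_left.2 fun h =>
    le_antisymm hX (h9 ⟨hX', lt_of_le_of_ne hU fun e => h e.ge, hX.trans h8⟩ hX)
  have h11 : ∀ x ∈ Y, ∀ y ∈ Y, Commute (x : A ⧸ U) y := fun x hx y hy => (hq x y).1 (by
    have := Group.IsSolvable.commutator_lt_of_ne_bot (H := Y.map (QuotientGroup.mk' U)) (by
      simpa [Subgroup.map_eq_bot_iff] using h7.2)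
    refine (h10 (⁅Y, Y⁆ ⊔ U) (sup_le (commutator_le_left _ _) h7.le) inferInstance le_sup_right).resolve_right
      (fun e => this.ne ?_) (mem_sup_left (commutator_mem_commutator hx hy))
    rw [← map_commutator]
    conv_rhs => rw [← e, Subgroup.map_sup, QuotientGroup.map_mk'_self, sup_bot_eq])
  have h12 : ∀ x ∈ E, ∀ y ∈ Y, Commute (x : A ⧸ U) y := fun x hx y hy =>
    (show Commute x y from (h8 hy).2 x hx).map (QuotientGroup.mk' U)
  have h13 := le_sup_right.trans (h4 (y := E ⊔ Y) ⟨⟨h1.le.trans le_sup_left, h1.nL, (hN _).2 inferInstance, ?_⟩,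
    sup_le h2 (h8.trans inf_le_left), fun Z hZ hZ' hZ'' => ?_⟩ le_sup_left)
  · exact h7.2 (h.max Y h6 h7.le fun y hy x hx => (h8 hy).2 x (h13 hx))
  · intro x hx y hy
    obtain ⟨a, ha, b, hb, rfl⟩ := mem_sup_of_normal_right.1 hx
    obtain ⟨c, hc, d, hd, rfl⟩ := mem_sup_of_normal_right.1 hy
    exact (hq _ _).2 ((((hq a c).1 (h1.comm a ha c hc)).mul_right (h12 a ha d hd)).mul_left
      ((h12 c hc b hb).symm.mul_right (h11 b hb d hd)))
  by_cases hY : Y ≤ Z
  · obtain ⟨Y', h14, h15, h16, h17⟩ := h3 (Z ⊓ E) (fun k hk x hx => ⟨hZ k hk x hx.1, h1.nN k hk x hx.2⟩)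
      (le_inf hZ' h1.le) (lt_of_le_of_ne inf_le_right fun e => hZ''.2 (sup_le (e.ge.trans inf_le_left) hY))
    exact ⟨Y', h14.trans le_sup_left, h15, fun h => h16 (le_inf h h14), h17⟩
  · exact ⟨Y, le_sup_right, (hN Y).2 h6, hY, fun X hX hX' h => h10 X hX ((hN X).1 hX') ((le_inf le_rfl h7.le).trans h)⟩

theorem prim_sq [FaithfulSMul A V] {E : Subgroup A} [E.Normal] (hU : U ≤ E) (hE : E ≤ centralizer U)
    (hc : ∀ x ∈ E, ∀ y ∈ E, x * y * x⁻¹ * y⁻¹ ∈ U) : ∃ e, U.relIndex E = e ^ 2 := by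
  have hC : E ⊓ centralizer E ≤ U := h.max _ inferInstance (le_inf hU (le_centralizer_iff.1 hE))
    fun x hx y hy => hx.2 y hy.1
  obtain ⟨B, ⟨h1, h2, h3⟩, h4⟩ := (Set.toFinite {B : Subgroup A | U ≤ B ∧ B ≤ E ∧ B ≤ centralizer B}).exists_maximal
    ⟨U, le_rfl, hU, h.comm⟩
  have h5 : (centralizer (B : Set A)).relIndex E = B.relIndex E := by
    rw [← inf_relIndex_right, le_antisymm _ (le_inf h3 h2)]
    refine fun x hx => h4 (y := B ⊔ zpowers x) ⟨h1.trans le_sup_left, sup_le h2 (by simpa using hx.2), ?_⟩ le_sup_left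
      (mem_sup_right (mem_zpowers x))
    have : B ⊔ zpowers x ≤ centralizer B := sup_le h3 (by simpa using hx.1)
    refine sup_le (le_centralizer_iff.1 this) (zpowers_le.2 (le_centralizer_iff.1 (sup_le (le_centralizer_iff.1
      (le_sup_right.trans this)) (le_centralizer (zpowers x))) (mem_zpowers x)))
  have h6 := h.pairing hE (h2.trans hE) fun x hx y hy => hc x hx y (h2 hy)
  have h7 := h.pairing (h2.trans hE) hE fun x hx y hy => hc x (h2 hx) y hy
  have h8 : (centralizer (E : Set A)).relIndex B = U.relIndex B := by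
    rw [← inf_relIndex_right, ← inf_relIndex_right U, le_antisymm (le_inf (fun x hx => hC ⟨h2 hx.2, hx.1⟩) inf_le_right)
      (inf_le_inf_right B (le_centralizer_iff.1 hE))]
  rw [h5, h8] at h6 h7
  exact ⟨_, by rw [← relIndex_mul_relIndex U B E h1 h2, le_antisymm h6 h7, pow_two]⟩

end

attribute [local instance] Sec.act

theorem prim_pd {A V K : Type u} [Group A] [Finite A] [AddCommGroup V] [Finite V] [DistribMulAction A V] [Nontrivial V]
    [FaithfulSMul A V] [Field K] [Finite K] [Module K V] {U : Subgroup A} {ι : U →* K} (h : Prim V U ι)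
    (hA : Group.IsSolvable A) (hk : ∃ k, Nat.card K = k ^ (centralizer (U : Set A)).index) :
    ∃ (M : Type u) (_ : AddCommGroup M) (_ : Finite M) (_ : DistribMulAction A M) (U E : Subgroup A) (q n e : ℕ),
      PD A V M U E q n e := by
  obtain ⟨E, s, hEn, hE, hcr, hC⟩ := prim_E h hA
  have := h.nU
  obtain ⟨e, he⟩ := h.sq s hE hC
  have hd := h.le_finrank s hE hC
  rw [he, Nat.pow_le_pow_iff_left two_ne_zero] at hd
  let ψ := toPermHom A s.M
  have hD : ∀ g, g ∈ ψ.ker ↔ ∀ x ∈ E, g * x * g⁻¹ * x⁻¹ ∈ U := fun g =>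
    ⟨fun hg x hx => (s.act_eq (x := ⟨x, hx⟩)).1 (DFunLike.congr_fun hg (s.p ⟨x, hx⟩)), fun h => Equiv.ext fun v => by
      obtain ⟨x, rfl⟩ := s.p_surj v
      exact s.act_eq.2 (h x x.2)⟩
  have hED : E = centralizer (U : Set A) ⊓ ψ.ker := by
    have h1 : E ≤ centralizer (U : Set A) ⊓ ψ.ker := le_inf hE fun x hx => (hD x).2 (s.comm x hx)
    have h2 := h.pairing (X := centralizer (U : Set A) ⊓ ψ.ker) inf_le_left hE fun x hx => (hD x).1 hx.2
    rw [rel_cent hE hC inf_le_left] at h2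
    refine eq_of_le_of_card_ge h1 ?_
    rw [← relIndex_bot_left, ← relIndex_mul_relIndex ⊥ U _ bot_le (s.le.trans h1), ← relIndex_bot_left E,
      ← relIndex_mul_relIndex ⊥ U _ bot_le s.le]
    exact Nat.mul_le_mul_left _ (h2.trans (relIndex_le_of_le_left (le_centralizer_iff.1 inf_le_left)
      index_ne_zero_of_finite))
  have hcE : Nat.card E = Nat.card U * e ^ 2 := by
    rw [← relIndex_bot_left, ← relIndex_mul_relIndex ⊥ U _ bot_le s.le, relIndex_bot_left, he]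
  have c0 {g : A} (h3 : g ∈ U) (h2 : g ≠ 1) : Nat.card (Fx V g) = 1 := by simp [h.fpf h3 h2]
  have c1 {g : A} (hg : g ∈ E) (h3 : g ∉ U) : ∃ x ∈ E, g * x * g⁻¹ * x⁻¹ ≠ 1 := by
    by_contra! h4
    exact h3 (hC ⟨hE hg, fun x hx => (mul_inv_eq_iff_eq_mul.1 (mul_inv_eq_one.1 (h4 x hx))).symm⟩)
  have c2 {g : A} (hg : g ∈ centralizer (U : Set A)) (h3 : g ∉ E) : ∃ y ∈ E, y ≠ 1 ∧
      Nat.card (Fx V g) ^ 2 ≤ Nat.card (Fx V y) * Nat.card V := by
    obtain ⟨x, hx, h4⟩ : ∃ x ∈ E, g * x * g⁻¹ * x⁻¹ ∉ U := by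
      by_contra! h4
      exact h3 (hED.ge ⟨hg, (hD g).2 h4⟩)
    exact ⟨_, mul_mem (hEn.conj_mem x hx g) (inv_mem hx), fun e => h4 (e ▸ U.one_mem), card_Fx_sq x g⟩
  have hV : 1 ≤ Nat.card V := Nat.card_pos
  have a1 {g : A} (hg : g ∈ E) (h2 : g ≠ 1) : Nat.card (Fx V g) ^ 2 ≤ Nat.card V := by
    by_cases h3 : g ∈ U
    · simpa [c0 h3 h2] using hV
    obtain ⟨x, hx, h4⟩ := c1 hg h3
    simpa [c0 (s.comm g hg x hx) h4] using card_Fx_sq (V := V) x g
  have b1 (hA : Odd (Nat.card A)) (g) (hg : g ∈ E) (h2 : g ≠ 1) : Nat.card (Fx V g) ^ 3 ≤ Nat.card V := by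
    by_cases h3 : g ∈ U
    · simpa [c0 h3 h2] using hV
    obtain ⟨x, hx, h4⟩ := c1 hg h3
    exact h.third hA (hE hg) (hE hx) (s.comm g hg x hx) h4
  have a2 {f : ℕ} (h : f ^ 2 ≤ Nat.card V) : f ^ 4 ≤ Nat.card V ^ 3 ∧ f ^ 3 ≤ Nat.card V ^ 2 := by
    have h1 : f ^ 4 ≤ Nat.card V ^ 2 := by simpa [← pow_mul] using Nat.pow_le_pow_left h 2
    refine ⟨h1.trans (Nat.pow_le_pow_right hV (by omega)), ?_⟩
    obtain rfl | h0 := f.eq_zero_or_pos
    exacts [by simp, (Nat.pow_le_pow_right h0 (by omega)).trans h1]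
  refine ⟨s.M, _, inferInstance, _, U, E, Nat.card K, Module.finrank K V, e, s.cr_act hcr, s.card.trans he,
    Module.natCard_eq_pow_finrank, hd, Finite.one_lt_card, fun r h1 h2 =>
      h.dvd_u s hE hC h1 (he ▸ h2.trans (dvd_pow_self e two_ne_zero)), h.card_dvd, hk, ?_,
    fun g hg h1 => hED.ge ⟨hg, Equiv.ext h1⟩, s.le, commutator_le.2 s.comm,
    commutator_eq_bot_iff_le_centralizer.2 h.comm, fun g hg v hv => or_iff_not_imp_left.2 fun h1 =>
      AddSubgroup.mem_bot.1 (h.fpf hg h1 ▸ mem_Fx.2 hv), hcE, ?_, fun g h1 => ?_, fun hA g h1 => ?_, b1, fun X hX => ?_⟩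
  · have : IsCyclic U := isCyclic_of_injective_ringHom ι h.inj
    obtain ⟨u, hu⟩ := this.exists_generator
    have h1 (a : A) : ∃ i : ℤ, ∀ x : U, MulAut.conjNormal a x = x ^ i := by
      obtain ⟨i, hi⟩ := hu (MulAut.conjNormal a u)
      refine ⟨i, fun x => ?_⟩
      obtain ⟨j, rfl⟩ := hu x
      simp only [map_zpow, ← hi, ← zpow_mul, mul_comm]
    refine commutator_le.2 fun a _ b _ x hx => ?_
    obtain ⟨i, hi⟩ := h1 a
    obtain ⟨j, hj⟩ := h1 b
    have h2 : MulAut.conjNormal (H := U) ⁅a, b⁆ = 1 := by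
      rw [map_commutatorElement, commutatorElement_eq_one_iff_mul_comm]
      ext1 y
      simp only [MulAut.mul_apply, hi, hj, ← zpow_mul, mul_comm]
    exact (mul_inv_eq_iff_eq_mul.1 (congrArg Subtype.val (MulEquiv.congr_fun h2 ⟨x, hx⟩))).symm
  · rw [← (centralizer (U : Set A)).index_mul_card, mul_assoc, mul_assoc, ← mul_assoc (Nat.card U), ← hcE,
      ← relIndex_bot_left, ← relIndex_mul_relIndex ⊥ E _ bot_le hE, relIndex_bot_left]
    refine Nat.mul_le_mul_left _ (Nat.mul_le_mul_left _ ?_)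
    refine (congrArg (relIndex · _) hED).trans_le ?_
    rw [inf_relIndex_left, relIndex_ker]
    exact card_le_of_le (map_le_range _ _)
  · by_cases h2 : g ∈ centralizer (U : Set A)
    swap
    · exact (a2 (h.half h2)).1
    by_cases h3 : g ∈ E
    · exact (a2 (a1 h3 h1)).1
    obtain ⟨y, hy, h4, h5⟩ := c2 h2 h3
    calc _ = (Nat.card (Fx V g) ^ 2) ^ 2 := by ring
      _ ≤ (Nat.card (Fx V y) * Nat.card V) ^ 2 := Nat.pow_le_pow_left h5 2
      _ ≤ Nat.card V * Nat.card V ^ 2 := by rw [mul_pow]; exact Nat.mul_le_mul_right _ (a1 hy h4)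
      _ = _ := by ring
  · by_cases h2 : g ∈ centralizer (U : Set A)
    swap
    · exact (a2 (h.half h2)).2
    by_cases h3 : g ∈ E
    · exact (a2 (a1 h3 h1)).2
    obtain ⟨y, hy, h4, h5⟩ := c2 h2 h3
    rw [← Nat.pow_le_pow_iff_left two_ne_zero, ← pow_mul, mul_comm, pow_mul]
    exact (Nat.pow_le_pow_left h5 3).trans (by
      rw [mul_pow]; exact (Nat.mul_le_mul_right _ (b1 hA y hy h4)).trans_eq (by ring))
  · let X' := (AddSubgroup.toSubgroup X).comap s.π
    have h1 : U ≤ X'.map E.subtype := fun u hu => ⟨⟨u, s.le hu⟩, show s.p _ ∈ X by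
      rw [s.p_eq_zero.2 hu]; exact X.zero_mem, rfl⟩
    have : (X'.map E.subtype).Normal := ⟨by
      rintro _ ⟨x, hx, rfl⟩ g
      exact ⟨s.cj ⟨g, trivial⟩ x, show s.p _ ∈ X from s.smul_p _ x ▸ hX g _ hx, rfl⟩⟩
    obtain ⟨f, hf⟩ := prim_sq h h1 ((map_subtype_le _).trans hE)
      fun x hx y hy => s.comm x (map_subtype_le _ hx) y (map_subtype_le _ hy)
    refine ⟨f, ?_⟩
    have h2 : s.π.ker = U.subgroupOf E := Subgroup.ext fun x => s.p_eq_zero
    rw [← sq, ← hf, ← relIndex_subgroupOf (map_subtype_le X'), ← h2, relIndex_ker, subgroupOf,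
      comap_map_eq_self_of_injective E.subtype_injective, map_comap_eq_self_of_surjective (f := s.π) fun v => s.p_surj v.toAdd]
    rfl

theorem exists_pd (A V : Type u) [Group A] [Finite A] [AddCommGroup V] [Finite V] [DistribMulAction A V] [Nontrivial V]
    [FaithfulSMul A V] (hA : Group.IsSolvable A) (h : Quasi A V) :
    ∃ (M : Type u) (_ : AddCommGroup M) (_ : Finite M) (_ : DistribMulAction A M) (U E : Subgroup A) (q n e : ℕ),
      PD A V M U E q n e := by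
  obtain ⟨U, ⟨h1, h2⟩, h3⟩ := (Set.toFinite {U : Subgroup A | U.Normal ∧ U ≤ centralizer U}).exists_maximal
    ⟨⊥, inferInstance, bot_le⟩
  let ρ := DistribMulAction.toModuleEnd ℤ V (S := A)
  let R := Subring.closure (ρ '' U)
  have h4 : ∀ x, (∀ u ∈ U, ρ u * x = x * ρ u) → ∀ r ∈ R, r * x = x * r := fun x hx r hr =>
    ((Subring.closure_le (t := Subring.centralizer {x})).2 (by
      rintro _ ⟨u, hu, rfl⟩ _ rfl; exact (hx u hu).symm) hr x rfl).symm
  have h5 : ∀ c ∈ centralizer (U : Set A), ∀ r ∈ R, r * ρ c = ρ c * r := fun c hc =>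
    h4 _ fun u hu => by rw [← map_mul, hc u hu, map_mul]
  have h6 : ∀ r ∈ R, ∀ s ∈ R, r * s = s * r := fun r hr s hs => h4 s (fun u hu => (h5 u (h2 hu) s hs).symm) r hr
  let φ := ConjAct.toConjAct.toMonoidHom.comp ρ.toHomUnits
  have h7 : ∀ a u, φ a • ρ u = ρ (a * u * a⁻¹) := fun a u => by rw [map_mul, map_mul]; rfl
  have h8 : ∀ a, ∀ r ∈ R, φ a • r ∈ R := fun a => (Subring.closure_le (t := R.comap
    (MulSemiringAction.toRingHom _ _ (φ a)))).2 (by
      rintro _ ⟨u, hu, rfl⟩; exact Subring.subset_closure ⟨_, h1.conj_mem u hu a, (h7 a u).symm⟩)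
  have h9 := h R h6 fun a r hr => ⟨_, h8 a r hr, fun v => rfl⟩
  letI : CommRing R := { (inferInstance : Ring R) with mul_comm := fun r s => Subtype.ext (h6 r r.2 s s.2) }
  have : NoZeroDivisors R := ⟨fun {r s} e => or_iff_not_imp_left.2 fun h => Subtype.ext (LinearMap.ext fun v =>
    h9 r r.2 (fun e => h (Subtype.ext e)) _ (LinearMap.congr_fun (congrArg Subtype.val e) v))⟩
  have : IsDomain R := NoZeroDivisors.to_isDomain R
  have : Finite (Module.End ℤ V) := DFunLike.finite _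
  letI := (Finite.isField_of_domain R).toField
  letI : MulSemiringAction A R :=
    { smul a r := ⟨φ a • r.1, h8 a r r.2⟩
      one_smul r := Subtype.ext ((congrArg (· • r.1) φ.map_one).trans (one_smul _ _))
      mul_smul a b r := Subtype.ext ((congrArg (· • r.1) (φ.map_mul a b)).trans (mul_smul _ _ _))
      smul_zero a := Subtype.ext (smul_zero (φ a))
      smul_add a r s := Subtype.ext (smul_add (φ a) r.1 s.1)
      smul_one a := Subtype.ext (smul_one (φ a))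
      smul_mul a r s := Subtype.ext (smul_mul' (φ a) r.1 s.1) }
  let ψ := MulSemiringAction.toRingAut A R
  have : Finite ψ.range := .of_surjective _ ψ.rangeRestrict_surjective
  have := Fintype.ofFinite ψ.range
  have h10 : ψ.ker = centralizer (U : Set A) := le_antisymm (fun a ha u hu => by
    have := (h7 a u).symm.trans (congrArg Subtype.val (RingEquiv.congr_fun ha ⟨ρ u, Subring.subset_closure ⟨u, hu, rfl⟩⟩))
    exact (mul_inv_eq_iff_eq_mul.1 (eq_of_smul_eq_smul (α := V) (LinearMap.congr_fun this))).symm)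
    fun c hc => RingEquiv.ext fun r => Subtype.ext (LinearMap.ext fun v =>
      (LinearMap.congr_fun (h5 c hc r r.2) (c⁻¹ • v)).symm.trans (congrArg r.1 (smul_inv_smul c v)))
  have h11 : Nat.card R = Nat.card (FixedPoints.subfield ψ.range R) ^ (centralizer (U : Set A)).index := by
    rw [Module.natCard_eq_pow_finrank (K := FixedPoints.subfield ψ.range R), FixedPoints.finrank_eq_card,
      ← Nat.card_eq_fintype_card, ← index_ker, h10]
  exact prim_pd (K := R) (U := U) (ι := (ρ.comp U.subtype).codRestrict R fun u => Subring.subset_closure ⟨u, u.2, rfl⟩)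
    ⟨h1, h2, fun X h h' h'' => h3 ⟨h, h''⟩ h', fun _ _ => rfl, fun c hc k v => (LinearMap.congr_fun (h5 c hc k k.2) v).symm,
      h11 ▸ Nat.pow_le_pow_left Finite.one_lt_card _⟩ hA ⟨_, h11⟩

end Cfsg.Agent.H65.Cz
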