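import Cfsg.Agent.H65.CzInd
import Cfsg.Agent.H65.CzPrim
import Cfsg.Agent.S0205

namespace Cfsg.Agent.H65.Cz
universe u
open MulAction Cfsg.Agent.H33

section pd
variable {A V M : Type u} [Group A] [Finite A] [AddCommGroup V] [DistribMulAction A V] [AddCommGroup M] [Finite M]
  [DistribMulAction A M] {U E : Subgroup A} {q n e : ℕ} (h : PD A V M U E q n e)
include h

omit [Finite A] [Finite M] in
theorem PD.o_odd (hA : Odd (Nat.card A)) : Odd e :=
  hA.of_dvd_nat ((Dvd.intro_left _ (by rw [h.cE]; ring : (Nat.card U * e) * e = Nat.card E)).trans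
    E.card_subgroup_dvd_card)

omit [Finite A] [Finite M] in
theorem PD.o_sub (he : e = 1) : Subsingleton M :=
  (Nat.card_eq_one_iff_unique.1 (by rw [h.cM, he]; rfl)).1

theorem PD.o_cent (he : e = 1) : Subgroup.centralizer (U : Set A) ≤ U := by
  have h1 : U = E := Subgroup.eq_of_le_of_card_ge h.UE (by rw [h.cE, he]; simp)
  have := h.o_sub he
  exact fun g hg => h1 ▸ h.ker g hg fun x => Subsingleton.elim _ _

theorem PD.o_card (he : e = 1) : Nat.card A ≤ (Subgroup.centralizer (U : Set A)).index * Nat.card U := by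
  have h1 := h.cA
  have := h.o_sub he
  have h2 : Nat.card (toPermHom A M).range = 1 :=
    Nat.card_eq_one_iff_unique.2 ⟨⟨fun a b => Subtype.ext (Subsingleton.elim _ _)⟩, inferInstance⟩
  rw [h2, he] at h1
  simpa using h1

omit [Finite A] [Finite M] in
/-- numerical data when a power of the module order is a prime power -/
theorem PD.o_num {s j m : ℕ} (hs : s.Prime) (hj : j ≠ 0) (h1 : Nat.card V ^ m = s ^ j) :
    ∃ a, q = s ^ (a * (Subgroup.centralizer (U : Set A)).index) ∧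
      a * (Subgroup.centralizer (U : Set A)).index * n * m = j := by
  obtain ⟨k, hk⟩ := h.pw
  set f := (Subgroup.centralizer (U : Set A)).index
  rw [h.cV, hk, ← pow_mul, ← pow_mul] at h1
  have h2 : f * (n * m) ≠ 0 := fun e => by
    rw [e, pow_zero] at h1
    exact hj ((Nat.pow_eq_one.1 h1.symm).resolve_left hs.one_lt.ne')
  obtain ⟨a, -, rfl⟩ := (Nat.dvd_prime_pow hs).1 (h1 ▸ dvd_pow_self k h2)
  refine ⟨a, by rw [hk, pow_mul], Nat.pow_right_injective hs.two_le ?_⟩
  simp only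
  rw [← h1, ← pow_mul]; congr 1; ring
end pd

theorem o_four {f : ℕ} (hf : Odd f) (h : f ∣ 4) : f = 1 :=
  (Nat.Coprime.eq_one_of_dvd (Nat.Coprime.pow_right 2 (Nat.coprime_two_right.2 hf)) h)

theorem odd_small (K Y : Type u) [Group K] [Finite K] [AddCommGroup Y] [Finite Y] [DistribMulAction K Y]
    (hK : Odd (Nat.card K)) (h : Irr K Y) {r : ℕ} (hr : r.Prime) (hr2 : r ≠ 2)
    (hY : Nat.card Y = r ^ 2 ∨ Nat.card Y = 81 ∨ Nat.card Y = 625) : DL (⊤ : Subgroup K) 1 Y := by
  obtain ⟨s, j, hs, hsj, hj⟩ : ∃ s j : ℕ, s.Prime ∧ Nat.card Y = s ^ j ∧ (j = 2 ∨ (j = 4 ∧ (s = 3 ∨ s = 5))) := by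
    rcases hY with e | e | e
    exacts [⟨r, 2, hr, e, .inl rfl⟩, ⟨3, 4, by norm_num, e, .inr ⟨rfl, .inl rfl⟩⟩,
      ⟨5, 4, by norm_num, e, .inr ⟨rfl, .inr rfl⟩⟩]
  have hj0 : j ≠ 0 := by omega
  have hj4 : j ∣ 4 := by rcases hj with e | ⟨e, -⟩ <;> rw [e] <;> norm_num
  have : Nontrivial Y := Finite.one_lt_card_iff_nontrivial.1 (hsj ▸ Nat.one_lt_pow hj0 hs.one_lt)
  obtain ⟨L, X, Ω, _, _, _, _, _, _, _, ⟨I⟩, _, _, hL, -, hq, hd⟩ := exists_ind K Y (S0205.result hK) h
  obtain ⟨M, _, _, _, U, E, q, n, e, P⟩ := exists_pd L X hL hq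
  have oL : Odd (Nat.card L) := hK.of_dvd_nat ((Dvd.intro_left _ rfl).trans hd)
  have oΩ : Odd (Nat.card Ω) := hK.of_dvd_nat ((Dvd.intro _ rfl).trans hd)
  obtain ⟨a, hqa, ha⟩ := P.o_num hs hj0 (I.card.symm.trans hsj)
  have oF : Odd (Subgroup.centralizer (U : Set L)).index := oL.of_dvd_nat (Subgroup.index_dvd_card _)
  have hm : Nat.card Ω = 1 := o_four oΩ ((Dvd.intro_left _ ha).trans hj4)
  have hf : (Subgroup.centralizer (U : Set L)).index = 1 :=
    o_four oF ((Dvd.intro (a * n * Nat.card Ω) (by rw [← ha]; ring)).trans hj4)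
  rw [hm, hf, mul_one, mul_one] at ha
  rw [hf, mul_one] at hqa
  have hn : n ≤ j := Nat.le_of_dvd (Nat.pos_of_ne_zero hj0) (Dvd.intro_left _ ha)
  have he : e = 1 := by
    obtain ⟨c, hc⟩ := P.o_odd oL
    have h1 := P.en
    by_contra h2
    have h3 : e = 3 := by omega
    have h4 : 3 ∣ q - 1 := (P.dvd 3 (by norm_num) (h3 ▸ dvd_rfl)).trans P.uq
    obtain e' | ⟨e', e''⟩ := hj
    · omega
    have h5 : a = 1 := by
      have : n = 3 ∨ n = 4 := by omega
      rcases this with e | e <;> rw [e] at ha <;> omega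
    rw [h5, pow_one] at hqa
    omega
  have h1 : (⊤ : Subgroup L) ≤ U := (Subgroup.index_eq_one.1 hf).ge.trans (P.o_cent he)
  have := (Nat.card_eq_one_iff_unique.1 hm).1
  refine I.top (m := 0) (d := 1) (fun g _ x => Subsingleton.elim _ _) fun g hg x => ?_
  have h2 := der_mono h1 1 hg
  rw [P.UU, Subgroup.mem_bot] at h2
  rw [h2, one_smul]

theorem Ind.o_range {A V L X Ω : Type u} [Group A] [AddCommGroup V] [DistribMulAction A V] [Group L] [Finite L]
    [AddCommGroup X] [DistribMulAction L X] [MulAction A Ω] [Finite Ω] (I : Ind A V L X Ω) :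
    Nat.card (toPermHom A V).range ≤ Nat.card L ^ Nat.card Ω * Nat.card Ω ^ Nat.card Ω := by
  rw [← Nat.card_fun, ← Nat.card_fun, ← Nat.card_prod]
  have h0 : ∀ x : (toPermHom A V).range, ∃ a, toPermHom A V a = x.1 := fun x => x.2
  choose c hc using h0
  refine Nat.card_le_card_of_injective (fun x => (I.h (c x), fun ω => (c x)⁻¹ • ω)) fun x y e => ?_
  simp only [Prod.mk.injEq] at e
  refine Subtype.ext ((hc x).symm.trans (Eq.trans (Equiv.ext fun v => ?_) (hc y)))
  obtain ⟨z, rfl⟩ := I.Φ.surjective v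
  simp only [toPermHom_apply, toPerm_apply, I.smul]
  exact congrArg I.Φ (funext fun ω => by rw [e.1, congrFun e.2 ω])

theorem odd_729 (K Y : Type u) [Group K] [Finite K] [AddCommGroup Y] [Finite Y] [DistribMulAction K Y]
    (hK : Odd (Nat.card K)) (h : Irr K Y) (hY : Nat.card Y = 729) : Nat.card (toPermHom K Y).range ≤ 3276 := by
  have : Nontrivial Y := Finite.one_lt_card_iff_nontrivial.1 (by omega)
  obtain ⟨L, X, Ω, _, _, _, _, _, _, _, ⟨I⟩, _, _, hL, -, hq, hd⟩ := exists_ind K Y (S0205.result hK) h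
  obtain ⟨M, _, _, _, U, E, q, n, e, P⟩ := exists_pd L X hL hq
  have oL : Odd (Nat.card L) := hK.of_dvd_nat ((Dvd.intro_left _ rfl).trans hd)
  have oΩ : Odd (Nat.card Ω) := hK.of_dvd_nat ((Dvd.intro _ rfl).trans hd)
  obtain ⟨a, hqa, ha⟩ := P.o_num (s := 3) (j := 6) (by norm_num) (by norm_num) (I.card.symm.trans hY)
  have oF : Odd (Subgroup.centralizer (U : Set L)).index := oL.of_dvd_nat (Subgroup.index_dvd_card _)
  have oU : Odd (Nat.card U) := oL.of_dvd_nat U.card_subgroup_dvd_card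
  have hR := I.o_range
  have hc := P.o_card
  set f := (Subgroup.centralizer (U : Set L)).index
  set m := Nat.card Ω
  have h6 : ∀ x, Odd x → x ∣ 6 → x = 1 ∨ x = 3 := fun x ⟨c, hc⟩ hx => by
    have := Nat.le_of_dvd (by norm_num) hx
    interval_cases x <;> omega
  have hf := h6 f oF (Dvd.intro (a * n * m) (by rw [← ha]; ring))
  have hn : n ≤ 6 := Nat.le_of_dvd (by norm_num) (Dvd.intro (a * f * m) (by rw [← ha]; ring))
  have haf : a * f ≤ 6 := Nat.le_of_dvd (by norm_num) (Dvd.intro (n * m) (by rw [← ha]; ring))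
  have haf0 : a * f ≠ 0 := fun e => by rw [e] at ha; omega
  have he : e = 1 := by
    obtain ⟨c, hc⟩ := P.o_odd oL
    have h1 := P.en
    by_contra h2
    have h3 : e = 3 ∨ e = 5 := by omega
    rcases h3 with h3 | h3
    · have h4 : 3 ∣ q - 1 := (P.dvd 3 (by norm_num) (h3 ▸ dvd_rfl)).trans P.uq
      have h5 : 3 ∣ q := hqa ▸ dvd_pow_self 3 haf0
      have := P.q2
      omega
    · have h4 : 5 ∣ q - 1 := (P.dvd 5 (by norm_num) (h3 ▸ dvd_rfl)).trans P.uq
      have h5 : a * f = 1 := by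
        have : n = 5 ∨ n = 6 := by omega
        rcases this with e | e <;> rw [e, mul_right_comm] at ha
        · omega
        · exact Nat.eq_one_of_mul_eq_one_right (n := m) (by omega)
      rw [h5] at hqa
      omega
  have hq2 := P.q2
  have hU : Nat.card U ≤ q - 1 := Nat.le_of_dvd (by omega) P.uq
  rcases h6 m oΩ (Dvd.intro_left _ ha) with hm | hm
  · have h1 : q ≤ 3 ^ 6 := hqa ▸ Nat.pow_le_pow_right (by norm_num) haf
    have h2 := hc he
    rw [hm, pow_one, pow_one] at hR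
    have h3 : f * Nat.card U ≤ 3 * 728 := Nat.mul_le_mul (by omega) (by omega)
    omega
  · rw [hm] at ha hR
    have h1 : a * f * n = 2 := by omega
    have h2 : f = 1 := by
      rcases hf with e | e
      · exact e
      · rw [e, mul_right_comm] at h1; omega
    have h3 : a * f ≤ 2 := Nat.le_of_dvd (by norm_num) (Dvd.intro _ h1)
    have h4 : Nat.card U ∣ 8 := by
      have : a * f = 1 ∨ a * f = 2 := by omega
      rcases this with e | e <;> rw [e] at hqa
      · exact (hqa ▸ P.uq : Nat.card U ∣ 3 ^ 1 - 1).trans (by norm_num)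
      · exact (hqa ▸ P.uq : Nat.card U ∣ 3 ^ 2 - 1)
    have h5 : Nat.card U = 1 :=
      Nat.Coprime.eq_one_of_dvd (Nat.Coprime.pow_right 3 (Nat.coprime_two_right.2 oU)) h4
    have h7 := hc he
    rw [h2, h5] at h7
    have h8 : Nat.card L ^ 3 ≤ 1 ^ 3 := Nat.pow_le_pow_left h7 3
    omega

end Cfsg.Agent.H65.Cz
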