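import Cfsg.Agent.H65.CzOdd1

namespace Cfsg.Agent.H65.Cz
universe u
open MulAction Cfsg.Agent.H33

/-- union bound: a vector with trivial stabilizer in `S` -/
theorem o_reg {A V : Type*} [Group A] [Finite A] [AddCommGroup V] [Finite V] [DistribMulAction A V] (S : Subgroup A)
    (h : ∀ g ∈ S, g ≠ 1 → (Nat.card S * Nat.card (Fx V g)) ^ 3 ≤ Nat.card V ^ 3) :
    ∃ w : V, ∀ g ∈ S, g • w = w → g = 1 := by
  classical
  have := Fintype.ofFinite S
  have := Fintype.ofFinite V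
  by_contra! h1
  have h2 : (Finset.univ : Finset V) ⊆ (Finset.univ.erase (1 : S)).biUnion fun g => Finset.univ.filter (· ∈ Fx V g.1) :=
    fun w _ => by
      obtain ⟨g, hg, e1, e2⟩ := h1 w
      exact Finset.mem_biUnion.2 ⟨⟨g, hg⟩, Finset.mem_erase.2 ⟨fun e => e2 (congrArg Subtype.val e), Finset.mem_univ _⟩,
        Finset.mem_filter.2 ⟨Finset.mem_univ _, mem_Fx.2 e1⟩⟩
  have h3 := (Finset.card_le_card h2).trans Finset.card_biUnion_le
  have h4 := Nat.mul_le_mul_left (Nat.card S) h3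
  rw [Finset.mul_sum] at h4
  have h5 := h4.trans (Finset.sum_le_card_nsmul _ _ (Nat.card V) fun g hg => by
    have := (Nat.pow_le_pow_iff_left three_ne_zero).1
      (h g.1 g.2 fun e => (Finset.mem_erase.1 hg).1 (Subtype.ext e))
    rwa [Nat.card_eq_fintype_card (α := Fx V g.1), Fintype.card_subtype] at this)
  rw [Finset.card_erase_of_mem (Finset.mem_univ _), Finset.card_univ, Finset.card_univ, ← Nat.card_eq_fintype_card,
    ← Nat.card_eq_fintype_card, smul_eq_mul] at h5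
  have h6 := Nat.le_of_mul_le_mul_right h5 Nat.card_pos
  have : 0 < Nat.card S := Nat.card_pos
  omega

theorem o_pow6 (e : ℕ) (h : 3 ≤ e) : e ^ 6 ≤ 8 * 7 ^ (2 * e - 3) := by
  induction e, h using Nat.le_induction with
  | base => norm_num
  | succ e he ih =>
    have h1 : (e + 1) ^ 6 * 3 ^ 6 ≤ e ^ 6 * 4 ^ 6 := by
      rw [← mul_pow, ← mul_pow]; exact Nat.pow_le_pow_left (by omega) 6
    rw [show 2 * (e + 1) - 3 = 2 * e - 3 + 2 by omega, pow_add]
    omega

theorem o_pow18 (e : ℕ) (h : 49 ≤ e) : e ^ 18 ≤ 7 ^ (e - 6) := by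
  induction e, h using Nat.le_induction with
  | base => norm_num
  | succ e he ih =>
    have h1 : (e + 1) ^ 18 * 49 ^ 18 ≤ e ^ 18 * 50 ^ 18 := by
      rw [← mul_pow, ← mul_pow]; exact Nat.pow_le_pow_left (by omega) 18
    rw [show e + 1 - 6 = e - 6 + 1 by omega, pow_succ 7]
    omega

/-- an irreducible module has prime power order -/
theorem o_pp {A V : Type*} [Group A] [AddCommGroup V] [Finite V] [DistribMulAction A V] [Nontrivial V] (h : Irr A V) :
    ∃ r k : ℕ, r.Prime ∧ Nat.card V = r ^ k := by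
  obtain ⟨r, hr, h1⟩ := Nat.exists_prime_and_dvd (Finite.one_lt_card (α := V)).ne'
  have := Fact.mk hr
  obtain ⟨x, hx⟩ := exists_prime_addOrderOf_dvd_card' r h1
  have h2 := (h (nsmulAddMonoidHom r : V →+ V).ker fun a v hv => by
    have h3 : r • v = 0 := hv
    show r • a • v = 0
    rw [smul_comm, h3, smul_zero]).resolve_left fun e => by
      have h3 : x ∈ (nsmulAddMonoidHom r : V →+ V).ker := by
        show r • x = 0
        rw [← hx, addOrderOf_nsmul_eq_zero]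
      rw [e, AddSubgroup.mem_bot] at h3
      rw [h3, addOrderOf_zero] at hx
      exact hr.one_lt.ne hx
  have h3 : IsPGroup r (Multiplicative V) := fun g => ⟨1, by
    have h4 : g.toAdd ∈ (nsmulAddMonoidHom r : V →+ V).ker := h2 ▸ trivial
    rw [pow_one]
    exact congrArg Multiplicative.ofAdd (h4 : r • g.toAdd = 0)⟩
  obtain ⟨k, hk⟩ := IsPGroup.iff_card.1 h3
  exact ⟨r, k, hr, hk⟩

/-- the non-abelian case: `e` is large -/
theorem PD.o_big {A V M : Type u} [Group A] [Finite A] [AddCommGroup V] [DistribMulAction A V] [AddCommGroup M]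
    [Finite M] [DistribMulAction A M] {U E : Subgroup A} {q n e : ℕ} (P : PD A V M U E q n e) (hA : Odd (Nat.card A))
    (h : ¬ DL (⊤ : Subgroup A) 1 M) :
    6 ≤ e ∧ e ^ 6 * Nat.card (toPermHom A M).range ^ 3 ≤ 64 * 7 ^ (e - 6) := by
  have hc : Nat.card (toPermHom A M).range ≤ e ^ 4 := by
    obtain ⟨v, w, h2⟩ := base_all _ A M (Nat.lt_succ_self _) hA P.cr
    rw [show e ^ 4 = e ^ 2 * e ^ 2 by ring, ← P.cM, ← Nat.card_prod]
    refine Nat.card_le_card_of_injective (fun σ => (σ.1 v, σ.1 w)) ?_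
    rintro ⟨_, a, rfl⟩ ⟨_, b, rfl⟩ e'
    exact Subtype.ext (Equiv.ext fun x => inv_smul_eq_iff.1 ((mul_smul b⁻¹ a x).symm.trans (h2 _
      ((mul_smul _ _ _).trans (inv_smul_eq_iff.2 (congrArg Prod.fst e')))
      ((mul_smul _ _ _).trans (inv_smul_eq_iff.2 (congrArg Prod.snd e'))) x)))
  have big : 49 ≤ e → 6 ≤ e ∧ e ^ 6 * Nat.card (toPermHom A M).range ^ 3 ≤ 64 * 7 ^ (e - 6) := fun he => by
    have h1 := o_pow18 e he
    have h2 := Nat.mul_le_mul_left (e ^ 6) (Nat.pow_le_pow_left hc 3)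
    rw [← pow_mul, ← pow_add, show 6 + 4 * 3 = 18 from rfl] at h2
    omega
  obtain ⟨W, hW, h1, h2⟩ : ∃ (W : AddSubgroup M) (hW : Inv A W), W ≠ ⊥ ∧
      (letI := invAct hW; Irr A W ∧ ¬ DL (⊤ : Subgroup A) 1 W) := by
    by_contra! h1
    exact h (cr_top P.cr 1 h1)
  let _ := invAct hW
  obtain ⟨h2, h3⟩ := h2
  have := (AddSubgroup.nontrivial_iff_ne_bot W).2 h1
  obtain ⟨r, k, hr, hk⟩ := o_pp h2
  obtain ⟨t, ht⟩ := P.sq W hW
  obtain ⟨j, -, rfl⟩ := (Nat.dvd_prime_pow hr).1 (Dvd.intro _ (ht.symm.trans hk))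
  have h4 : r ^ j ∣ e := by
    have := W.card_addSubgroup_dvd_card
    rwa [ht, P.cM, ← pow_two, Nat.pow_dvd_pow_iff two_ne_zero] at this
  have oe := P.o_odd hA
  have j0 : j ≠ 0 := fun e => by
    have := Finite.one_lt_card (α := W)
    rw [ht, e] at this
    simp at this
  have or : Odd r := oe.of_dvd_nat ((dvd_pow_self r j0).trans h4)
  have r2 : r ≠ 2 := fun e => by rw [e] at or; exact absurd or (by decide)
  have h5 : ¬ (Nat.card W = r ^ 2 ∨ Nat.card W = 81 ∨ Nat.card W = 625) := fun e => h3 (odd_small A W hA h2 hr r2 e)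
  rw [ht] at h5
  have r3 : 3 ≤ r := by have := hr.two_le; omega
  have h6 : r ^ j = 27 ∨ 49 ≤ r ^ j := by
    obtain ⟨c, hc⟩ := or
    have j1 : j ≠ 1 := fun e => h5 (.inl (by rw [e, pow_one, pow_two]))
    by_cases j2 : j = 2
    · have a3 : r ≠ 3 := fun e => h5 (.inr (.inl (by rw [j2, e]; rfl)))
      have a5 : r ≠ 5 := fun e => h5 (.inr (.inr (by rw [j2, e]; rfl)))
      exact .inr (j2 ▸ (Nat.pow_le_pow_left (by omega : 7 ≤ r) 2))
    by_cases j3 : j = 3
    · by_cases a3 : r = 3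
      · exact .inl (by rw [j3, a3]; rfl)
      · exact .inr (j3 ▸ (le_trans (by norm_num) (Nat.pow_le_pow_left (by omega : 5 ≤ r) 3)))
    · exact .inr (le_trans (by norm_num) ((Nat.pow_le_pow_left r3 4).trans (Nat.pow_le_pow_right (by omega) (by omega))))
  have e0 : 0 < e := oe.pos
  rcases h6 with h6 | h6
  · rw [h6] at h4 ht
    by_cases he : e = 27
    · have hT : W = ⊤ := AddSubgroup.eq_top_of_card_eq _ (by rw [ht, P.cM, he]; rfl)
      have hI : Irr A M := fun Y hY => by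
        rcases h2 (Y.addSubgroupOf W) (fun a v hv => hY a v.1 hv) with e | e
        · exact .inl (by rwa [AddSubgroup.addSubgroupOf_eq_bot, hT, disjoint_top] at e)
        · exact .inr (by rwa [AddSubgroup.addSubgroupOf_eq_top, hT, top_le_iff] at e)
      have h7 := Nat.pow_le_pow_left (odd_729 A M hA hI (by rw [P.cM, he]; rfl)) 3
      rw [he]
      omega
    · exact big (by omega)
  · exact big (h6.trans (Nat.le_of_dvd e0 h4))

theorem odd_qp (L X : Type u) [Group L] [Finite L] [AddCommGroup X] [Finite X] [DistribMulAction L X] [Nontrivial X]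
    [FaithfulSMul L X] (hL : Odd (Nat.card L)) (hX : Odd (Nat.card X)) (hq : Quasi L X) :
    ∃ w : X, w ≠ 0 ∧ DL (stabilizer L w) 1 X := by
  obtain ⟨M, _, _, _, U, E, q, n, e, P⟩ := exists_pd L X (S0205.result hL) hq
  by_cases he : e = 1
  · obtain ⟨w, hw⟩ := exists_ne (0 : X)
    refine ⟨w, hw, fun g hg x => ?_⟩
    rw [(P.fpf g (P.o_cent he (P.derC (der_mono le_top 1 hg))) w (der_le _ 1 hg)).resolve_right hw, one_smul]
  have oe := P.o_odd hL
  have e3 : 3 ≤ e := by obtain ⟨c, hc⟩ := oe; omega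
  have hn := P.en
  have hq2 := P.q2
  have oU : Odd (Nat.card U) := hL.of_dvd_nat U.card_subgroup_dvd_card
  have oq : Odd q := hX.of_dvd_nat (P.cV ▸ dvd_pow_self q (by omega))
  have hU : 2 * Nat.card U ≤ q - 1 := Nat.le_of_dvd (by omega)
    ((Nat.coprime_two_left.2 oU).mul_dvd_of_dvd_of_dvd (by obtain ⟨c, hc⟩ := oq; omega) P.uq)
  have q7 : 7 ≤ q := by
    obtain ⟨r, h2, h3⟩ := Nat.exists_prime_and_dvd he
    have := Nat.le_of_dvd Nat.card_pos (P.dvd r h2 h3)
    have := h2.two_le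
    obtain ⟨c, hc⟩ := oe.of_dvd_nat h3
    omega
  have hE : E ≠ ⊥ := fun e' => by
    have h1 := P.cE
    rw [e', Subgroup.card_bot] at h1
    exact he ((Nat.pow_eq_one.1 (Nat.eq_one_of_mul_eq_one_left h1.symm)).resolve_right two_ne_zero)
  have key : ∀ S : Subgroup L, E ≤ S → der (⊤ : Subgroup L) 1 ≤ S →
      (∀ g ∈ S, g ≠ 1 → (Nat.card S * Nat.card (Fx X g)) ^ 3 ≤ Nat.card X ^ 3) →
      ∃ w : X, w ≠ 0 ∧ DL (stabilizer L w) 1 X := fun S h1 h2 h3 => by
    obtain ⟨w, hw⟩ := o_reg S h3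
    refine ⟨w, fun e' => hE (eq_bot_iff.2 fun g hg => hw g (h1 hg) (by rw [e', smul_zero])), fun g hg x => ?_⟩
    rw [hw g (h2 (der_mono le_top 1 hg)) (der_le _ 1 hg), one_smul]
  have hU3 : 8 * Nat.card U ^ 3 ≤ q ^ 3 := by
    have := Nat.pow_le_pow_left (hU.trans (Nat.sub_le q 1)) 3
    rwa [mul_pow] at this
  have hqe : q ^ e ≤ Nat.card X := P.cV ▸ Nat.pow_le_pow_right (by omega) hn
  by_cases hD : DL (⊤ : Subgroup L) 1 M
  · refine key E le_rfl (fun g hg => P.ker g (P.derC hg) (hD g hg)) fun g hg h1 => ?_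
    have h2 : Nat.card E ^ 3 ≤ Nat.card X ^ 2 := by
      calc Nat.card E ^ 3 = Nat.card U ^ 3 * e ^ 6 := by rw [P.cE]; ring
        _ ≤ Nat.card U ^ 3 * (8 * 7 ^ (2 * e - 3)) := Nat.mul_le_mul_left _ (o_pow6 e e3)
        _ = 8 * Nat.card U ^ 3 * 7 ^ (2 * e - 3) := by ring
        _ ≤ q ^ 3 * q ^ (2 * e - 3) := Nat.mul_le_mul hU3 (Nat.pow_le_pow_left q7 _)
        _ = (q ^ e) ^ 2 := by rw [← pow_add, ← pow_mul]; congr 1; omega
        _ ≤ _ := Nat.pow_le_pow_left hqe 2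
    rw [mul_pow, pow_succ (Nat.card X) 2]
    exact Nat.mul_le_mul h2 (P.fxE hL g hg h1)
  obtain ⟨e6, hb⟩ := P.o_big hL hD
  refine key ⊤ le_top le_top fun g _ h1 => ?_
  have hA := P.cA
  obtain ⟨k, hk⟩ := P.pw
  have f0 : (Subgroup.centralizer (U : Set L)).index ≠ 0 := Subgroup.index_ne_zero_of_finite
  set f := (Subgroup.centralizer (U : Set L)).index
  set H := Nat.card (toPermHom L M).range
  have hf : 2 * f ≤ q := by
    have k2 : 2 ≤ k := by
      by_contra h2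
      have : k = 0 ∨ k = 1 := by omega
      rcases this with e' | e' <;> rw [e'] at hk
      · rw [zero_pow f0] at hk; omega
      · rw [one_pow] at hk; omega
    have h3 : 2 ^ f ≤ q := hk ▸ Nat.pow_le_pow_left k2 f
    obtain ⟨f', hf'⟩ := Nat.exists_eq_succ_of_ne_zero f0
    have := f'.lt_two_pow_self
    rw [hf', pow_succ] at h3
    omega
  have hf3 : 8 * f ^ 3 ≤ q ^ 3 := by
    have := Nat.pow_le_pow_left hf 3
    rwa [mul_pow] at this
  have h2 : Nat.card L ^ 3 ≤ Nat.card X := by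
    refine le_trans (Nat.le_of_mul_le_mul_left (c := 64) ?_ (by norm_num)) hqe
    calc 64 * Nat.card L ^ 3 ≤ 64 * (f * Nat.card U * e ^ 2 * H) ^ 3 := Nat.mul_le_mul_left _ (Nat.pow_le_pow_left hA 3)
      _ = (8 * f ^ 3) * (8 * Nat.card U ^ 3) * (e ^ 6 * H ^ 3) := by ring
      _ ≤ q ^ 3 * q ^ 3 * (64 * q ^ (e - 6)) := Nat.mul_le_mul (Nat.mul_le_mul hf3 hU3)
          (hb.trans (Nat.mul_le_mul_left _ (Nat.pow_le_pow_left q7 _)))
      _ = 64 * q ^ (6 + (e - 6)) := by ring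
      _ = _ := by congr 2; omega
  rw [mul_pow, Subgroup.card_top, pow_succ' (Nat.card X) 2]
  exact Nat.mul_le_mul h2 (P.fxo hL g h1)

end Cfsg.Agent.H65.Cz
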