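import Cfsg.Agent.H65.CzTab
import Cfsg.Agent.S3360

/-! The quasi-primitive case of S4070. -/

namespace Cfsg.Agent.H65.Cz
universe u
open MulAction Cfsg.Agent.H33 commutatorElement

theorem PD.qpStab {A V M : Type u} [Group A] [AddCommGroup V] [DistribMulAction A V] [AddCommGroup M]
    [DistribMulAction A M] {U E : Subgroup A} {q n e : ℕ} (h : PD A V M U E q n e) {d : ℕ}
    (h1 : DL (⊤ : Subgroup A) d M) (h2 : 1 ≤ d) {w : V} (hw : w ≠ 0) : DL (stabilizer A w) (d + 1) V := fun g hg v => by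
  have h3 : g • w = w := der_le _ _ hg
  rw [der_add] at hg
  have h4 : g ∈ U := h.EE (der_mono ((der_mono le_top d).trans (h.dl h1 h2)) 1 hg)
  rw [(h.fpf g h4 w h3).resolve_right hw, one_smul]

theorem qp_aut_pow {F : Type*} [Field F] [Finite F] (σ : F ≃+* F) : ∃ i : ℕ, ∀ x : F, x ≠ 0 → σ x = x ^ i := by
  obtain ⟨γ, hγ⟩ := IsCyclic.exists_monoid_generator (α := Fˣ)
  obtain ⟨i, hi⟩ := hγ (Units.map σ.toMonoidHom γ)
  refine ⟨i, fun x hx => ?_⟩
  obtain ⟨k, hk⟩ := hγ (Units.mk0 x hx)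
  have h1 : (γ : F) ^ k = x := by simpa using congrArg Units.val hk
  have h2 : (γ : F) ^ i = σ γ := by simpa using congrArg Units.val hi
  rw [← h1, map_pow, ← h2, ← pow_mul, ← pow_mul, mul_comm]

theorem qp_aut_comm {F : Type*} [Field F] [Finite F] (σ τ : F ≃+* F) (x : F) : σ (τ x) = τ (σ x) := by
  by_cases hx : x = 0
  · simp [hx]
  obtain ⟨i, hi⟩ := qp_aut_pow σ
  obtain ⟨j, hj⟩ := qp_aut_pow τ
  rw [hi x hx, hj x hx, map_pow, map_pow, hi x hx, hj x hx, ← pow_mul, ← pow_mul, mul_comm]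

theorem qp_semi {L X F : Type*} [Group L] [AddCommGroup X] [DistribMulAction L X] [Nontrivial X] [Field F] [Finite F]
    (e : X ≃+ F) (h : ∀ g : L, ∃ (a : F) (σ : F ≃+* F), ∀ v : X, e (g • v) = a * σ (e v)) :
    DL (⊤ : Subgroup L) 2 X := by
  obtain ⟨w, hw⟩ := exists_ne (0 : X)
  have h0 : ∀ (g : L) (a b : F), e (g • w) = a * b → a ≠ 0 := fun g a b h1 h2 => by
    rw [h2, zero_mul, e.map_eq_zero_iff, smul_eq_zero_iff_eq] at h1
    exact hw h1
  let S : Subgroup L :=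
    { carrier := {g | ∃ a : F, ∀ v, e (g • v) = a * e v}
      one_mem' := ⟨1, fun v => by rw [one_smul, one_mul]⟩
      mul_mem' := by
        rintro g g' ⟨a, ha⟩ ⟨b, hb⟩
        exact ⟨a * b, fun v => by rw [mul_smul, ha, hb, mul_assoc]⟩
      inv_mem' := by
        rintro g ⟨a, ha⟩
        refine ⟨a⁻¹, fun v => ?_⟩
        rw [eq_inv_mul_iff_mul_eq₀ (h0 g a _ (ha w)), ← ha, smul_inv_smul] }
  have h1 : der (⊤ : Subgroup L) 1 ≤ S := Subgroup.commutator_le.2 fun g _ g' _ => by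
    obtain ⟨a, σ, ha⟩ := h g
    obtain ⟨b, τ, hb⟩ := h g'
    have ha0 := h0 g a _ (ha w)
    have hb0 := h0 g' b _ (hb w)
    have hτ : τ a ≠ 0 := by simpa using ha0
    refine ⟨a * σ b / (b * τ a), fun v => ?_⟩
    obtain ⟨x, rfl⟩ : ∃ x, v = g' • g • x := ⟨g⁻¹ • g'⁻¹ • v, by simp⟩
    have : ⁅g, g'⁆ • g' • g • x = g • g' • x := by simp [commutatorElement_def, mul_smul]
    rw [this, ha, hb, hb, ha, map_mul, map_mul, qp_aut_comm σ τ]
    field_simp
  intro g hg
  rw [← one_add_one_eq_two, der_add] at hg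
  refine Equiv.ext_iff.1 (Subgroup.commutator_le.2 (fun a ha b hb => ?_ : ∀ a ∈ S, ∀ b ∈ S,
    ⁅a, b⁆ ∈ (toPermHom L X).ker) (der_mono h1 1 hg))
  rw [MonoidHom.mem_ker, map_commutatorElement, commutatorElement_eq_one_iff_mul_comm]
  obtain ⟨i, hi⟩ := ha
  obtain ⟨j, hj⟩ := hb
  exact Equiv.ext fun y => e.injective (by
    simp only [Equiv.Perm.mul_apply, toPermHom_apply, toPerm_apply, hi, hj]
    ring)

theorem qp_trans (L X : Type u) [Group L] [Finite L] [AddCommGroup X] [Finite X] [DistribMulAction L X] [Nontrivial X]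
    [FaithfulSMul L X] (hL : Group.IsSolvable L) (hi : Irr L X) (ht : ∀ v w : X, v ≠ 0 → w ≠ 0 → ∃ a : L, a • v = w) :
    DL (⊤ : Subgroup L) 2 X ∨ Nat.card X ∈ ({9, 25, 49, 121, 529, 81} : Set ℕ) := by
  obtain ⟨p, hp, h1⟩ := Nat.exists_prime_and_dvd (Finite.one_lt_card (α := X)).ne'
  have := Fact.mk hp
  have h4 : ∀ v : X, p • v = 0 := fun v => by
    obtain ⟨w, hw⟩ := exists_prime_addOrderOf_dvd_card' p h1
    refine ((hi (nsmulAddMonoidHom p).ker fun a v hv => ?_).resolve_left fun e => hp.ne_one ?_).ge (AddSubgroup.mem_top v)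
    · exact (smul_comm p a v).trans ((congrArg _ hv).trans (smul_zero a))
    · rw [← hw, AddMonoid.addOrderOf_eq_one_iff]
      exact AddSubgroup.mem_bot.1 (e ▸ (hw ▸ addOrderOf_nsmul_eq_zero w : p • w = 0))
  letI : Module (ZMod p) X := AddCommGroup.zmodModule h4
  have : SMulCommClass L (ZMod p) X := ⟨fun a c x => ZMod.map_smul (DistribSMul.toAddMonoidHom X a) c x⟩
  obtain ⟨F, _, _, e, h⟩ | h := S3360.result p hL (DistribMulAction.toModuleAut (ZMod p) X (S := L))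
    (fun a b e => eq_of_smul_eq_smul (α := X) fun x => LinearEquiv.congr_fun e x) ht
  exacts [.inl (qp_semi e h), .inr h]

theorem qp_five {L X : Type*} [Group L] [Finite L] [Finite X] [MulAction L X] (S : Set X)
    (h : 4 * Nat.card L < S.ncard) : ∃ P : ZMod 5 → X, (∀ (a : L) c c', a • P c = P c' → c = c') ∧ ∀ c, P c ∈ S := by
  let π : X → orbitRel.Quotient L X := Quotient.mk''
  have h1 : ∀ x : X, ∃ a : L, a • (π x).out = x := fun x => (orbitRel L X).symm (Quotient.mk_out' (s₁ := orbitRel L X) x)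
  choose f hf using h1
  have h2 : Nat.card S ≤ Nat.card (π '' S) * Nat.card L := by
    rw [← Nat.card_prod]
    refine Nat.card_le_card_of_injective (fun x => (⟨π x, x, x.2, rfl⟩, f x)) fun x y e => Subtype.ext ?_
    have e1 : π x = π y := congrArg (fun z => z.1.1) e
    have e2 : f x = f y := congrArg Prod.snd e
    rw [← hf x, ← hf y, e1, e2]
  have h3 : 4 < Nat.card (π '' S) := lt_of_mul_lt_mul_right (h.trans_le h2) (Nat.zero_le _)
  have := Fintype.ofFinite (π '' S)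
  obtain ⟨ι⟩ := Function.Embedding.nonempty_of_card_le (α := ZMod 5) (β := π '' S) (by
    rw [ZMod.card, ← Nat.card_eq_fintype_card]; exact h3)
  choose P hP hP' using fun c => (ι c).2
  refine ⟨P, fun a c c' e => ι.injective (Subtype.ext ?_), hP⟩
  rw [← hP', ← hP', ← e]
  exact (Quotient.sound' (s₁ := orbitRel L X) ⟨a, rfl⟩).symm

theorem qp_reg {L X : Type*} [Group L] [Finite L] [AddCommGroup X] [Finite X] [DistribMulAction L X]
    (h1 : ∀ g : L, g ≠ 1 → Nat.card (Fx X g) ^ 4 ≤ Nat.card X ^ 3) (h2 : (5 * Nat.card L) ^ 4 < Nat.card X) :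
    4 * Nat.card L < {w : X | ∀ g : L, g • w = w → g = 1}.ncard := by
  classical
  have := Fintype.ofFinite L
  have hX : 0 < Nat.card X := Nat.card_pos
  have hL : 0 < Nat.card L := Nat.card_pos
  have h3 : ∀ g : L, g ≠ 1 → 5 * Nat.card L * Nat.card (Fx X g) ≤ Nat.card X := fun g hg => by
    rw [← Nat.pow_le_pow_iff_left (n := 4) (by norm_num), mul_pow]
    exact (Nat.mul_le_mul h2.le (h1 g hg)).trans_eq (by ring)
  have h4 : 5 * Nat.card L < Nat.card X := (Nat.le_self_pow (by norm_num) _).trans_lt h2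
  set S := {w : X | ∀ g : L, g • w = w → g = 1}
  have h5 : Sᶜ.ncard ≤ ∑ g ∈ Finset.univ.erase (1 : L), Nat.card (Fx X g) := by
    refine (Set.ncard_le_ncard (t := ⋃ g ∈ Finset.univ.erase (1 : L), (Fx X g : Set X)) fun w hw => ?_).trans
      (Finset.set_ncard_biUnion_le _ _)
    simp only [S, Set.mem_compl_iff, Set.mem_ofPred_eq, not_forall] at hw
    obtain ⟨g, hg, hg'⟩ := hw
    exact Set.mem_biUnion (Finset.mem_erase.2 ⟨hg', Finset.mem_univ g⟩) hg
  have h6 : 5 * Nat.card L * Sᶜ.ncard ≤ Nat.card L * Nat.card X := by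
    refine (Nat.mul_le_mul_left _ h5).trans ?_
    rw [Finset.mul_sum]
    refine (Finset.sum_le_card_nsmul _ _ _ fun g hg => h3 g (Finset.mem_erase.1 hg).1).trans ?_
    rw [smul_eq_mul, Nat.card_eq_fintype_card (α := L)]
    exact Nat.mul_le_mul_right _ (Finset.card_le_univ _)
  have h7 : 5 * Sᶜ.ncard ≤ Nat.card X := Nat.le_of_mul_le_mul_left (by linarith) hL
  have h8 := Set.ncard_add_ncard_compl S
  omega

set_option synthInstance.maxSize 1024 in
theorem qp_num1 : ∀ q < 9, ∀ n < 10, 3 ≤ n → q ^ n ∈ ({9, 25, 49, 121, 529, 81} : Set ℕ) → q = 3 ∧ n = 4 := by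
  simp only [Set.mem_insert_iff, Set.mem_singleton_iff]
  decide +kernel

theorem qp_num2 (e : ℕ) (he : 256 ≤ e) : 625 * e ^ 32 * 3 ^ 8 < 3 ^ e := by
  induction e, he using Nat.le_induction with
  | base => decide +kernel
  | succ e he ih =>
    have h1 : (256 * (e + 1)) ^ 32 ≤ (257 * e) ^ 32 := Nat.pow_le_pow_left (by omega) _
    have h2 : 257 ^ 32 ≤ 256 ^ 32 * 3 := by decide +kernel
    have h3 : (e + 1) ^ 32 ≤ 3 * e ^ 32 := by
      rw [mul_pow, mul_pow] at h1
      exact Nat.le_of_mul_le_mul_left (h1.trans ((Nat.mul_le_mul_right _ h2).trans_eq (mul_assoc _ _ _)))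
        (Nat.pow_pos (by norm_num))
    rw [pow_succ 3 e]
    generalize (e + 1) ^ 32 = a at h3 ⊢
    generalize e ^ 32 = b at h3 ih
    generalize 3 ^ e = c at ih ⊢
    clear h1 h2
    norm_num at ih ⊢
    linarith

theorem qp_cases (L X : Type u) [Group L] [Finite L] [AddCommGroup X] [Finite X] [DistribMulAction L X] [Nontrivial X]
    [FaithfulSMul L X] (hL : Group.IsSolvable L) (h : Irr L X) (hq : Quasi L X) :
    DL (⊤ : Subgroup L) 5 X ∨
    (DL (⊤ : Subgroup L) 8 X ∧ (∀ w : X, w ≠ 0 → DL (stabilizer L w) 7 X) ∧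
      ∃ w w' : X, w ≠ 0 ∧ w' ≠ 0 ∧ ∀ a : L, a • w ≠ w') ∨
    ∃ P : ZMod 5 → X, (∀ (a : L) c c', a • P c = P c' → c = c') ∧ ∀ c, DL (stabilizer L (P c)) 9 X := by
  obtain ⟨M, _, _, _, U, E, q, n, e, P⟩ := exists_pd L X hL hq
  have h0 : e ≠ 0 := fun e0 => by
    have := P.cM
    rw [e0] at this
    exact Nat.card_pos.ne' this
  have hD : ∀ d, e < 256 → Dt (e ^ 2) ≤ d → DL (⊤ : Subgroup L) d M := fun d h1 h2 =>
    (dt_tab (e ^ 2) (by nlinarith) L M hL P.cr P.cM).mono le_rfl h2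
  by_cases h1 : e = 1 ∨ e = 2 ∨ e = 4
  · exact .inl (P.dl2 (hD 3 (by omega) (by obtain rfl | rfl | rfl := h1 <;> decide)) (by norm_num))
  have hq2 := P.q2
  have hU : Nat.card U ≤ q - 1 := Nat.le_of_dvd (by omega) P.uq
  have hen := P.en
  by_cases ht : ∀ v w : X, v ≠ 0 → w ≠ 0 → ∃ a : L, a • v = w
  · obtain h2 | h2 := qp_trans L X hL h ht
    · exact .inl (h2.mono le_rfl (by norm_num))
    exfalso
    rw [P.cV] at h2
    have h3 : q ^ n ≤ 529 := by
      simp only [Set.mem_insert_iff, Set.mem_singleton_iff] at h2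
      omega
    have h4 : 3 ≤ n := by omega
    have h5 : q < 9 := by
      by_contra h5
      have := (Nat.pow_le_pow_left (not_lt.1 h5) 3).trans (Nat.pow_le_pow_right (by omega) h4)
      omega
    have h6 : n < 10 := by
      by_contra h6
      have := (Nat.pow_le_pow_right (by norm_num : 0 < 2) (not_lt.1 h6)).trans (Nat.pow_le_pow_left hq2 n)
      omega
    obtain ⟨rfl, rfl⟩ := qp_num1 q h5 n h6 h4 h2
    obtain rfl : e = 3 := by omega
    have := Nat.le_of_dvd Nat.card_pos (P.dvd 3 Nat.prime_three dvd_rfl)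
    omega
  by_cases h2 : e ≤ 63
  · have h3 : DL (⊤ : Subgroup L) 6 M := hD 6 (by omega) (by
      have : e ^ 2 < 4096 := by nlinarith
      unfold Dt; split_ifs <;> omega)
    push Not at ht
    obtain ⟨w, w', h4⟩ := ht
    exact .inr (.inl ⟨P.dl2 h3 (by norm_num), fun w hw => P.qpStab h3 (by norm_num) hw, w, w', h4⟩)
  refine .inr (.inr ?_)
  have hq3 : 3 ≤ q := by
    obtain ⟨r, hr, hre⟩ := Nat.exists_prime_and_dvd (n := e) (by omega)
    have := Nat.le_of_dvd Nat.card_pos (P.dvd r hr hre)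
    have := hr.two_le
    omega
  have h3 : Nat.card (toPermHom L M).range ≤ e ^ 6 := by
    obtain ⟨t, ht⟩ := base_three H11.heisBase3 _ L M (Nat.lt_succ_self _) hL False.elim P.cr
    rw [show e ^ 6 = (e ^ 2) ^ Nat.card (Fin 3) by simp [← pow_mul], ← P.cM, ← Nat.card_fun]
    refine Nat.card_le_card_of_injective (fun σ i => σ.1 (t i)) ?_
    rintro ⟨_, a, rfl⟩ ⟨_, b, rfl⟩ e'
    exact Subtype.ext (Equiv.ext fun x => inv_smul_eq_iff.1 ((mul_smul b⁻¹ a x).symm.trans (ht _ (funext fun i =>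
      (mul_smul _ _ _).trans (inv_smul_eq_iff.2 (congrFun e' i))) x)))
  have h4 : (Subgroup.centralizer (U : Set L)).index ≤ q := by
    obtain ⟨k, hk⟩ := P.pw
    have h5 : (Subgroup.centralizer (U : Set L)).index ≠ 0 := Subgroup.index_ne_zero_of_finite
    generalize (Subgroup.centralizer (U : Set L)).index = f at hk h5
    have h6 : 2 ≤ k := by
      by_contra h6
      obtain rfl | rfl : k = 0 ∨ k = 1 := by omega
      · rw [zero_pow h5] at hk; omega
      · rw [one_pow] at hk; omega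
    exact hk ▸ (Nat.lt_pow_self h6).le
  have h5 : Nat.card L ≤ q ^ 2 * e ^ 8 := P.cA.trans ((Nat.mul_le_mul (Nat.mul_le_mul_right _
    (Nat.mul_le_mul h4 (hU.trans (Nat.sub_le q 1)))) h3).trans_eq (by ring))
  have h6 : q ^ e ≤ Nat.card X := P.cV ▸ Nat.pow_le_pow_right (by omega) hen
  by_cases h7 : e < 256
  · have h8 : DL (⊤ : Subgroup L) 8 M := hD 8 h7 (by unfold Dt; split_ifs <;> omega)
    obtain ⟨Q, hQ, hQ'⟩ := qp_five (L := L) {w : X | w ≠ 0} (by
      have a1 : e ^ 8 ≤ 256 ^ 8 := Nat.pow_le_pow_left h7.le _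
      have a2 : 3 ^ 62 ≤ q ^ 62 := Nat.pow_le_pow_left hq3 _
      have a3 : q ^ 64 ≤ q ^ e := Nat.pow_le_pow_right (by omega) (by omega)
      have a4 : 6 * 256 ^ 8 ≤ 3 ^ 62 := by decide +kernel
      have a5 : q ^ 2 * (6 * e ^ 8) ≤ q ^ 64 := (Nat.mul_le_mul_left _ ((Nat.mul_le_mul_left _ a1).trans
        (a4.trans a2))).trans_eq (by ring)
      have a6 : 6 * Nat.card L ≤ Nat.card X := (Nat.mul_le_mul_left _ h5).trans
        ((le_of_eq (by ring)).trans (a5.trans (a3.trans h6)))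
      have a7 := Set.ncard_add_ncard_compl ({0} : Set X)
      have a8 : 0 < Nat.card L := Nat.card_pos
      rw [Set.ncard_singleton] at a7
      change _ < ({0}ᶜ : Set X).ncard
      omega)
    exact ⟨Q, hQ, fun c => P.qpStab h8 (by norm_num) (hQ' c)⟩
  · obtain ⟨Q, hQ, hQ'⟩ := qp_five (L := L) _ (qp_reg P.fx (by
      obtain ⟨j, rfl⟩ : ∃ j, e = j + 8 := ⟨e - 8, by omega⟩
      have a1 := qp_num2 _ (not_lt.1 h7)
      rw [pow_add 3 j] at a1
      have a2 := (lt_of_mul_lt_mul_right a1 (Nat.zero_le _)).trans_le (Nat.pow_le_pow_left hq3 j)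
      refine (Nat.pow_le_pow_left (Nat.mul_le_mul_left 5 h5) 4).trans_lt (lt_of_lt_of_le ?_ h6)
      calc (5 * (q ^ 2 * (j + 8) ^ 8)) ^ 4 = 625 * (j + 8) ^ 32 * q ^ 8 := by
            generalize j + 8 = x; ring
        _ < q ^ j * q ^ 8 := Nat.mul_lt_mul_of_pos_right a2 (Nat.pow_pos (by omega))
        _ = _ := (pow_add _ _ _).symm))
    exact ⟨Q, hQ, fun c g hg x => by rw [hQ' c g (der_le _ _ hg), one_smul]⟩

end Cfsg.Agent.H65.Cz
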