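import Cfsg.Agent.H65.CzInd
import Cfsg.Agent.H65.CzPrim
import Cfsg.Agent.H65.CzBlk

/-! Derived length tables for small modules and small permutation groups. -/

namespace Cfsg.Agent.H65.Cz
universe u
open MulAction Cfsg.Agent.H33

theorem Ft_mono {m m' : ℕ} (h : m' ≤ m) : Ft m' ≤ Ft m := by
  unfold Ft; split_ifs <;> omega

theorem Dt_dvd {x y : ℕ} (hx : 0 < x) (h : y ∣ x) : Dt y ≤ Dt x := by
  have h1 := Nat.le_of_dvd hx h
  by_cases h2 : x = 16
  · subst h2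
    interval_cases y <;> first | decide | omega
  · unfold Dt; split_ifs <;> omega

theorem tab_num1 : ∀ s < 16, ∀ t < 16, 2 ≤ s → 1 ≤ t → s * t < 16 → Ft t + (Dt s + 1) ≤ Ft (s * t) := by
  decide +kernel

theorem tab_num2 : ∀ y < 256, ∀ m < 16, 2 ≤ y → 2 ≤ m → y ^ m < 65536 → Ft m + Dt y ≤ Dt (y ^ m) := by
  decide +kernel

set_option synthInstance.maxSize 1024 in
theorem tab_num3 : ∀ q < 256, ∀ n < 16, q ^ n < 65536 → ∀ e < 16, 2 ≤ q ∧ e ≤ n ∧ 2 ≤ e ∧ Nat.gcd e (q - 1) ≠ 1 →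
    e ^ 2 < q ^ n ∧ 1 ≤ Dt (e ^ 2) ∧ Dt (e ^ 2) + 2 ≤ Dt (q ^ n) := by
  decide +kernel

theorem tab_bound {y m : ℕ} (hy : 2 ≤ y) (hm : 2 ≤ m) (h : y ^ m < 65536) : y < 256 ∧ m < 16 := by
  constructor
  · by_contra h1
    have := (Nat.pow_le_pow_left (not_lt.1 h1) 2).trans (Nat.pow_le_pow_right (by omega) hm)
    omega
  · by_contra h1
    have := (Nat.pow_le_pow_right (by norm_num : 0 < 2) (not_lt.1 h1)).trans (Nat.pow_le_pow_left hy m)
    omega

section
variable {A V M : Type u} [Group A] [AddCommGroup V] [DistribMulAction A V] [AddCommGroup M] [DistribMulAction A M]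
  {U E : Subgroup A} {q n e : ℕ}

theorem PD.dl (h : PD A V M U E q n e) {d : ℕ} (h1 : DL (⊤ : Subgroup A) d M) (h2 : 1 ≤ d) :
    der (⊤ : Subgroup A) d ≤ E := fun g hg => h.ker g (h.derC (der_anti _ h2 hg)) (h1 g hg)

theorem PD.dl2 (h : PD A V M U E q n e) {d : ℕ} (h1 : DL (⊤ : Subgroup A) d M) (h2 : 1 ≤ d) :
    DL (⊤ : Subgroup A) (d + 2) V := fun g hg v => by
  rw [← add_assoc d 1 1, der_add, der_add] at hg
  have := der_mono ((der_mono (h.dl h1 h2) 1).trans h.EE) 1 hg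
  rw [h.UU] at this
  rw [Subgroup.mem_bot.1 this, one_smul]

theorem PD.dl_one [Finite A] [Finite M] (h : PD A V M U E q n 1) : DL (⊤ : Subgroup A) 2 V := fun g hg v => by
  have h0 : Subsingleton M := (Nat.card_eq_one_iff_unique.1 (h.cM.trans (one_pow 2))).1
  have h1 : U = E := Subgroup.eq_of_le_of_card_ge h.UE (by rw [h.cE]; simp)
  rw [← one_add_one_eq_two, der_add] at hg
  have := der_mono ((h.dl (d := 1) (fun _ _ _ => Subsingleton.elim _ _) le_rfl).trans h1.ge) 1 hg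
  rw [h.UU] at this
  rw [Subgroup.mem_bot.1 this, one_smul]
end

theorem ft_trans {m : ℕ} (hm : m < 16) (hD : ∀ s ≤ m, DT.{u} s (Dt s)) (hF : ∀ t < m, FT.{u} t (Ft t))
    (S Ω : Type u) [Group S] [Finite S] [Finite Ω] [MulAction S Ω] [IsPretransitive S Ω] (hS : Group.IsSolvable S)
    (hc : Nat.card Ω = m) : DL (⊤ : Subgroup S) (Ft m) Ω := by
  obtain h0 | h0 := subsingleton_or_nontrivial Ω
  · exact fun _ _ _ => Subsingleton.elim _ _
  obtain ⟨B, _, _, b, s, hb⟩ := exists_blk S Ω hS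
  have h1 := hb.card_eq
  have h2 := hb.two
  have h3 : 0 < m := hc ▸ Nat.card_pos
  rw [hc] at h1
  generalize ht : Nat.card B = t at h1
  have h4 : 1 ≤ t := Nat.pos_of_ne_zero fun e => by simp [e] at h1; omega
  have h5 : t < m := by nlinarith
  have h6 : s ≤ m := by nlinarith
  have h7 : der (⊤ : Subgroup S) (Ft t) ≤ Stab S b := fun g hg ω => by rw [hb.eqv, hF t h5 S B hS ht g hg]
  intro g hg
  have h8 := der_anti _ (tab_num1 s (by omega) t (by omega) h2 h4 (by omega)) (h1 ▸ hg)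
  rw [der_add] at h8
  exact (hb.lin _ (hD s h6)).1 g (der_mono h7 _ h8)

theorem ft_step {m : ℕ} (hm : m < 16) (hD : ∀ s ≤ m, DT.{u} s (Dt s)) (hF : ∀ t < m, FT.{u} t (Ft t)) :
    FT.{u} m (Ft m) := fun S Ω _ _ _ _ hS hc g hg ω => by
  have h1 : Nat.card (orbit S ω) ≤ m := hc ▸ Nat.card_le_card_of_injective _ Subtype.val_injective
  exact congrArg Subtype.val (ft_trans (h1.trans_lt hm) (fun s hs => hD s (hs.trans h1))
    (fun t ht => hF t (ht.trans_le h1)) S (orbit S ω) hS rfl g (der_anti _ (Ft_mono h1) hg) ⟨ω, mem_orbit_self ω⟩)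

theorem dt_quasi {x : ℕ} (hx : x < 65536) (hD : ∀ y < x, DT.{u} y (Dt y))
    (L X : Type u) [Group L] [Finite L] [AddCommGroup X] [Finite X] [DistribMulAction L X] [Nontrivial X]
    [FaithfulSMul L X] (hL : Group.IsSolvable L) (hi : Irr L X) (hq : Quasi L X) (hc : Nat.card X = x) :
    DL (⊤ : Subgroup L) (Dt x) X := by
  have h0 : 1 < x := hc ▸ Finite.one_lt_card
  by_cases h2 : x = 2
  · obtain ⟨y, -, hy⟩ := (Nat.card_eq_two_iff' (0 : X)).1 (hc.trans h2)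
    intro g _ v
    by_cases hv : v = 0
    · rw [hv, smul_zero]
    · exact (hy _ ((smul_ne_zero_iff_ne g).2 hv)).trans (hy v hv).symm
  by_cases h3 : x = 3
  · subst h3
    exact dt_prime Nat.prime_three L X hL hi.cr hc
  have h4 : 2 ≤ Dt x := by unfold Dt; split_ifs <;> omega
  obtain ⟨M, _, _, _, U, E, q, n, e, h⟩ := exists_pd L X hL hq
  have h5 : e ≠ 0 := fun e0 => by
    have := h.cM
    rw [e0] at this
    exact Nat.card_pos.ne' this
  by_cases h6 : e = 1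
  · subst h6
    exact h.dl_one.mono le_rfl h4
  have h7 : 2 ≤ e := by omega
  have h8 : x = q ^ n := hc.symm.trans h.cV
  subst h8
  obtain ⟨h9, h10⟩ := tab_bound h.q2 (h7.trans h.en) hx
  obtain ⟨r, hr, hre⟩ := Nat.exists_prime_and_dvd h6
  obtain ⟨a1, a2, a3⟩ := tab_num3 q h9 n h10 hx e (h.en.trans_lt h10) ⟨h.q2, h.en, h7, fun e1 =>
    hr.one_lt.ne' (Nat.dvd_one.1 (e1 ▸ Nat.dvd_gcd hre ((h.dvd r hr hre).trans h.uq)))⟩
  exact (h.dl2 (hD _ a1 L M hL h.cr h.cM) a2).mono le_rfl a3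

theorem dt_irr {x : ℕ} (hx : x < 65536) (hD : ∀ y < x, DT.{u} y (Dt y)) (hF : ∀ t < x, t < 16 → FT.{u} t (Ft t))
    (K W : Type u) [Group K] [Finite K] [AddCommGroup W] [Finite W] [DistribMulAction K W] [Nontrivial W]
    (hK : Group.IsSolvable K) (hi : Irr K W) (hc : Nat.card W = x) : DL (⊤ : Subgroup K) (Dt x) W := by
  obtain ⟨L, X, Ω, _, _, _, _, _, _, _, ⟨I⟩, _, _, hL, hX, hq, -⟩ := exists_ind K W hK hi
  have h0 : 1 < x := hc ▸ Finite.one_lt_card
  have h1 := I.card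
  have h2 : 2 ≤ Nat.card X := Finite.one_lt_card
  rw [hc] at h1
  generalize hm : Nat.card Ω = m at h1
  generalize hy : Nat.card X = y at h1 h2
  obtain rfl | rfl | h3 : m = 0 ∨ m = 1 ∨ 2 ≤ m := by omega
  · simp at h1; omega
  · rw [pow_one] at h1
    subst h1
    have h4 : Subsingleton Ω := (Nat.card_eq_one_iff_unique.1 hm).1
    have := I.top (m := 0) (fun _ _ _ => Subsingleton.elim _ _) (dt_quasi hx hD L X hL hX hq hy)
    rwa [zero_add] at this
  · subst h1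
    obtain ⟨h4, h5⟩ := tab_bound h2 h3 hx
    have h6 : y < y ^ m := by
      conv_lhs => rw [← pow_one y]
      exact Nat.pow_lt_pow_right h2 h3
    exact (I.top (hF m (Nat.lt_pow_self h2) h5 K Ω hK hm) (hD y h6 L X hL hX.cr hy)).mono le_rfl
      (tab_num2 y h4 m h5 h2 h3 hx)

theorem dt_step {x : ℕ} (hx : x < 65536) (hD : ∀ y < x, DT.{u} y (Dt y)) (hF : ∀ t < x, t < 16 → FT.{u} t (Ft t)) :
    DT.{u} x (Dt x) := fun K M _ _ _ _ _ hK hcr hc => by
  refine cr_top hcr _ fun W hW h0 hi => ?_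
  letI := invAct hW
  have : Nontrivial W := (AddSubgroup.nontrivial_iff_ne_bot W).2 h0
  have h1 : Nat.card W ∣ x := hc ▸ AddSubgroup.card_addSubgroup_dvd_card W
  have h2 : 0 < x := hc ▸ Nat.card_pos
  have h3 := Nat.le_of_dvd h2 h1
  exact (dt_irr (h3.trans_lt hx) (fun y hy => hD y (hy.trans_le h3)) (fun t ht => hF t (ht.trans_le h3)) K W hK hi
    rfl).mono le_rfl (Dt_dvd h2 h1)

theorem tab_both (x : ℕ) : (x < 65536 → DT.{u} x (Dt x)) ∧ (x < 16 → FT.{u} x (Ft x)) := by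
  induction x using Nat.strong_induction_on with
  | _ x ih =>
    have h1 : x < 65536 → DT.{u} x (Dt x) := fun hx =>
      dt_step hx (fun y hy => (ih y hy).1 (hy.trans hx)) fun t ht => (ih t ht).2
    refine ⟨h1, fun hx => ft_step hx (fun s hs => ?_) fun t ht => (ih t ht).2 (ht.trans hx)⟩
    obtain rfl | hs := hs.eq_or_lt
    exacts [h1 (by omega), (ih s hs).1 (by omega)]

theorem dt_tab (x : ℕ) (hx : x < 65536) : DT.{u} x (Dt x) := (tab_both x).1 hx

theorem ft_tab (m : ℕ) (hm : m < 16) : FT.{u} m (Ft m) := (tab_both m).2 hm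

end Cfsg.Agent.H65.Cz
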