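import Mathlib

set_option autoImplicit false

/-! Twisted alternating forms on representations: definitions and first lemmas. -/

namespace Cfsg.Agent.H65
open Module

section Defs
variable {Γ : Type*} [Group Γ]

/-- the even part of `Y` -/
def EX (ε : Γ →* ℤˣ) (Y : Subgroup Γ) : Subgroup Γ := Y ⊓ ε.ker

/-- the odd part of `Y` -/
def EO (ε : Γ →* ℤˣ) (Y : Subgroup Γ) : Set Γ := {y | y ∈ Y ∧ ε y = -1}

variable {ε : Γ →* ℤˣ} {Y M : Subgroup Γ}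

theorem mem_EX {x : Γ} : x ∈ EX ε Y ↔ x ∈ Y ∧ ε x = 1 := Iff.rfl

theorem mem_EO {x : Γ} : x ∈ EO ε Y ↔ x ∈ Y ∧ ε x = -1 := Iff.rfl

theorem EX_or_EO {x : Γ} (h : x ∈ Y) : x ∈ EX ε Y ∨ x ∈ EO ε Y :=
  (Int.units_eq_one_or (ε x)).imp (fun e => ⟨h, e⟩) (fun e => ⟨h, e⟩)

theorem EX_mono (h : M ≤ Y) {x : Γ} (hx : x ∈ EX ε M) : x ∈ EX ε Y := ⟨h hx.1, hx.2⟩

theorem EO_mono (h : M ≤ Y) {x : Γ} (hx : x ∈ EO ε M) : x ∈ EO ε Y := ⟨h hx.1, hx.2⟩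

theorem EO_inv {y : Γ} (h : y ∈ EO ε Y) : y⁻¹ ∈ EO ε Y := ⟨Y.inv_mem h.1, by rw [map_inv, h.2]; rfl⟩

theorem EO_mul_EX {y x : Γ} (h : y ∈ EO ε Y) (h' : x ∈ EX ε Y) : y * x ∈ EO ε Y :=
  ⟨Y.mul_mem h.1 h'.1, by rw [map_mul, h.2, (mem_EX.1 h').2, mul_one]⟩

theorem EX_mul_EO {y x : Γ} (h' : x ∈ EX ε Y) (h : y ∈ EO ε Y) : x * y ∈ EO ε Y :=
  ⟨Y.mul_mem h'.1 h.1, by rw [map_mul, h.2, (mem_EX.1 h').2, one_mul]⟩

theorem EO_mul_EO {y y' : Γ} (h : y ∈ EO ε Y) (h' : y' ∈ EO ε Y) : y * y' ∈ EX ε Y :=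
  mem_EX.2 ⟨Y.mul_mem h.1 h'.1, by rw [map_mul, h.2, h'.2]; rfl⟩

theorem EX_conj {y x : Γ} (h : y ∈ Y) (h' : x ∈ EX ε Y) : y * x * y⁻¹ ∈ EX ε Y :=
  mem_EX.2 ⟨Y.mul_mem (Y.mul_mem h h'.1) (Y.inv_mem h), by
    rw [map_mul, map_mul, (mem_EX.1 h').2, mul_one, map_inv, mul_inv_cancel]⟩

theorem EX_conj' {y x : Γ} (h : y ∈ Y) (h' : x ∈ EX ε Y) : y⁻¹ * x * y ∈ EX ε Y := by
  simpa using EX_conj (Y.inv_mem h) h'

variable {W : Type} [AddCommGroup W] [Module ℂ W]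

/-- a representation of the even part with a twisted alternating family of forms -/
structure EAlt (ε : Γ →* ℤˣ) (Y : Subgroup Γ) (ρ : Γ → End ℂ W) (B : Γ → W →ₗ[ℂ] W →ₗ[ℂ] ℂ) : Prop where
  one : ρ 1 = 1
  mul : ∀ x ∈ EX ε Y, ∀ x' ∈ EX ε Y, ρ (x * x') = ρ x * ρ x'
  cov : ∀ y ∈ EO ε Y, ∀ x ∈ EX ε Y, ∀ v w, B (y * x) v w = B y (ρ x v) w
  alt : ∀ y ∈ EO ε Y, ∀ v w, B y⁻¹ w v = -B y v w

/-- there is a non-zero isotropic vector -/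
def Iso (ε : Γ →* ℤˣ) (Y : Subgroup Γ) (B : Γ → W →ₗ[ℂ] W →ₗ[ℂ] ℂ) : Prop :=
  ∃ v, v ≠ 0 ∧ ∀ y ∈ EO ε Y, B y v v = 0

/-- `U` is invariant under the subgroup `X` -/
def Inv (X : Subgroup Γ) (ρ : Γ → End ℂ W) (U : Submodule ℂ W) : Prop := ∀ x ∈ X, ∀ v ∈ U, ρ x v ∈ U

/-- irreducible for the subgroup `X` -/
def Irr (X : Subgroup Γ) (ρ : Γ → End ℂ W) : Prop := ∀ U : Submodule ℂ W, Inv X ρ U → U = ⊥ ∨ U = ⊤

/-- the property: no twisted symplectic irreducible representations -/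
def PP (ε : Γ →* ℤˣ) (Y : Subgroup Γ) : Prop :=
  ∀ (W : Type) [AddCommGroup W] [Module ℂ W] [FiniteDimensional ℂ W] [Nontrivial W] (ρ : Γ → End ℂ W)
    (B : Γ → W →ₗ[ℂ] W →ₗ[ℂ] ℂ), EAlt ε Y ρ B → Iso ε Y B

variable {ρ : Γ → End ℂ W} {B : Γ → W →ₗ[ℂ] W →ₗ[ℂ] ℂ}

theorem EAlt.mono (h : EAlt ε Y ρ B) (hM : M ≤ Y) : EAlt ε M ρ B :=
  ⟨h.one, fun x hx x' hx' => h.mul x (EX_mono hM hx) x' (EX_mono hM hx'),
    fun y hy x hx => h.cov y (EO_mono hM hy) x (EX_mono hM hx), fun y hy => h.alt y (EO_mono hM hy)⟩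

theorem EAlt.mul_apply (h : EAlt ε Y ρ B) {x x' : Γ} (hx : x ∈ EX ε Y) (hx' : x' ∈ EX ε Y) (v : W) :
    ρ (x * x') v = ρ x (ρ x' v) := by rw [h.mul x hx x' hx']; rfl

theorem EAlt.inv_apply (h : EAlt ε Y ρ B) {x : Γ} (hx : x ∈ EX ε Y) (v : W) : ρ x⁻¹ (ρ x v) = v := by
  rw [← h.mul_apply (inv_mem hx) hx, inv_mul_cancel, h.one]; rfl

theorem EAlt.apply_inv (h : EAlt ε Y ρ B) {x : Γ} (hx : x ∈ EX ε Y) (v : W) : ρ x (ρ x⁻¹ v) = v := by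
  simpa using h.inv_apply (inv_mem hx) v

theorem EAlt.cov' (h : EAlt ε Y ρ B) {y x : Γ} (hx : x ∈ EX ε Y) (hy : y ∈ EO ε Y) (v w : W) :
    B (x * y) v w = B y v (ρ x⁻¹ w) := by
  have e := h.alt _ (EX_mul_EO hx hy) v w
  rw [mul_inv_rev, h.cov _ (EO_inv hy) _ (inv_mem hx), h.alt _ hy] at e
  exact (neg_inj.1 e).symm

theorem EAlt.move (h : EAlt ε Y ρ B) {y x : Γ} (hy : y ∈ EO ε Y) (hx : x ∈ EX ε Y) (v w : W) :
    B y (ρ x v) w = B y v (ρ (y * x⁻¹ * y⁻¹) w) := by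
  rw [← h.cov y hy x hx, show y * x = (y * x * y⁻¹) * y by group, h.cov' (EX_conj hy.1 hx) hy]
  congr 2; group

/-- restriction of an operator family to a subspace -/
noncomputable def rsub (ρ : Γ → End ℂ W) (U : Submodule ℂ W) (x : Γ) : End ℂ U :=
  open Classical in if h : ∀ v ∈ U, ρ x v ∈ U then (ρ x).restrict h else 1

omit [Group Γ] in
theorem coe_rsub {U : Submodule ℂ W} {x : Γ} (h : ∀ v ∈ U, ρ x v ∈ U) (v : U) : (rsub ρ U x v : W) = ρ x v := by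
  rw [rsub, dif_pos h]; rfl

theorem rsub_one {U : Submodule ℂ W} (h : ρ 1 = 1) : rsub ρ U 1 = 1 := by
  ext v; rw [coe_rsub (by simp [h]), h]; rfl

theorem rsub_mul {X : Subgroup Γ} {U : Submodule ℂ W} (hU : Inv X ρ U)
    (h : ∀ x ∈ X, ∀ x' ∈ X, ρ (x * x') = ρ x * ρ x') : ∀ x ∈ X, ∀ x' ∈ X,
    rsub ρ U (x * x') = rsub ρ U x * rsub ρ U x' := fun x hx x' hx' => by
  ext v
  rw [coe_rsub (hU _ (X.mul_mem hx hx')), Module.End.mul_apply, coe_rsub (hU _ hx), coe_rsub (hU _ hx'), h x hx x' hx']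
  rfl

theorem EAlt.sub (h : EAlt ε Y ρ B) {U : Submodule ℂ W} (hU : Inv (EX ε Y) ρ U) :
    EAlt ε Y (rsub ρ U) (fun y => (B y).compl₁₂ U.subtype U.subtype) :=
  ⟨rsub_one h.one, rsub_mul hU h.mul, fun y hy x hx v w => by
    simp only [LinearMap.compl₁₂_apply, Submodule.subtype_apply]
    rw [h.cov y hy x hx, coe_rsub (hU x hx)], fun y hy v w => h.alt y hy _ _⟩

theorem PP.sub [FiniteDimensional ℂ W] (hM : PP ε M) (h : EAlt ε Y ρ B) (hMY : M ≤ Y) {U : Submodule ℂ W}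
    (h0 : U ≠ ⊥) (hU : Inv (EX ε M) ρ U) : ∃ v ∈ U, v ≠ 0 ∧ ∀ y ∈ EO ε M, B y v v = 0 := by
  have : Nontrivial U := Submodule.nontrivial_iff_ne_bot.2 h0
  obtain ⟨v, hv, e⟩ := hM U _ _ ((h.mono hMY).sub hU)
  exact ⟨v, v.2, fun e => hv (Subtype.ext e), e⟩

theorem exists_irr [FiniteDimensional ℂ W] [Nontrivial W] (X : Subgroup Γ) (ρ : Γ → End ℂ W) :
    ∃ U : Submodule ℂ W, U ≠ ⊥ ∧ Inv X ρ U ∧ Irr X (rsub ρ U) := by
  obtain ⟨U, ⟨h0, hU⟩, hmin⟩ := WellFoundedLT.exists_minimal (α := Submodule ℂ W) inferInstance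
    {U | U ≠ ⊥ ∧ Inv X ρ U} ⟨⊤, top_ne_bot, fun _ _ _ _ => trivial⟩
  refine ⟨U, h0, hU, fun U' hU' => or_iff_not_imp_left.2 fun h1 => ?_⟩
  have : U ≤ U'.map U.subtype := hmin ⟨fun e => h1 (Submodule.map_injective_of_injective
      U.subtype_injective (e.trans (Submodule.map_bot _).symm)), by
      rintro x hx _ ⟨v, hv, rfl⟩
      exact ⟨_, hU' x hx v hv, coe_rsub (hU x hx) v⟩⟩ (Submodule.map_subtype_le _ _)
  refine top_unique fun v _ => ?_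
  obtain ⟨w, hw, e⟩ := this v.2
  rwa [← Subtype.ext e]

theorem PP.of_irr (h : ∀ (W : Type) [AddCommGroup W] [Module ℂ W] [FiniteDimensional ℂ W] [Nontrivial W]
    (ρ : Γ → End ℂ W) (B : Γ → W →ₗ[ℂ] W →ₗ[ℂ] ℂ), EAlt ε Y ρ B → Irr (EX ε Y) ρ → Iso ε Y B) : PP ε Y := by
  intro W _ _ _ _ ρ B hB
  obtain ⟨U, h0, hU, hi⟩ := exists_irr (EX ε Y) ρ
  have : Nontrivial U := Submodule.nontrivial_iff_ne_bot.2 h0
  obtain ⟨v, hv, e⟩ := h U _ _ (hB.sub hU) hi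
  exact ⟨v, fun e => hv (Subtype.ext e), e⟩

theorem Irr.schur [FiniteDimensional ℂ W] {X : Subgroup Γ} (h : Irr X ρ) {f : End ℂ W}
    (hf : ∀ x ∈ X, f * ρ x = ρ x * f) : ∃ c : ℂ, f = c • 1 := by
  rcases subsingleton_or_nontrivial W with _ | _
  · exact ⟨0, Subsingleton.elim _ _⟩
  obtain ⟨c, hc⟩ := Module.End.exists_eigenvalue f
  refine ⟨c, ?_⟩
  have := (h (f.eigenspace c) fun x hx v hv => by
    rw [Module.End.mem_eigenspace_iff] at hv ⊢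
    rw [← Module.End.mul_apply, hf x hx, Module.End.mul_apply, hv, map_smul]).resolve_left hc
  ext v
  exact Module.End.mem_eigenspace_iff.1 (this ▸ Submodule.mem_top : v ∈ f.eigenspace c)

theorem EAlt.scalar [FiniteDimensional ℂ W] (h : EAlt ε Y ρ B) (hi : Irr (EX ε Y) ρ) {z : Γ} (hz : z ∈ EX ε Y)
    (hc : ∀ x ∈ EX ε Y, z * x = x * z) : ∃ c : ℂ, ρ z = c • 1 :=
  hi.schur fun x hx => by rw [← h.mul z hz x hx, hc x hx, h.mul x hx z hz]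

theorem PP.of_even (h : ∀ y ∈ Y, ε y = 1) : PP ε Y := fun W _ _ _ _ _ _ _ => by
  obtain ⟨v, hv⟩ := exists_ne (0 : W)
  refine ⟨v, hv, fun y hy => absurd ((h y hy.1).symm.trans hy.2) (by decide)⟩

theorem PP.of_trivial (h : ∀ x ∈ EX ε Y, x = 1) : PP ε Y := fun W _ _ _ _ ρ B hB => by
  obtain ⟨v, hv⟩ := exists_ne (0 : W)
  refine ⟨v, hv, fun y hy => ?_⟩
  have e := hB.alt y hy v v
  rw [inv_eq_of_mul_eq_one_right (h _ (EO_mul_EO hy hy))] at e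
  linear_combination e / 2

/-- central elements may be adjoined -/
theorem PP.of_central (hM : PP ε M) (hMY : M ≤ Y)
    (h : ∀ y ∈ EO ε Y, ∃ m ∈ M, ∃ z ∈ EX ε Y, (∀ x ∈ EX ε Y, z * x = x * z) ∧ y = m * z) : PP ε Y := by
  refine PP.of_irr fun W _ _ _ _ ρ B hB hi => ?_
  obtain ⟨v, hv, e⟩ := hM W ρ B (hB.mono hMY)
  refine ⟨v, hv, fun y hy => ?_⟩
  obtain ⟨m, hm, z, hz, hc, rfl⟩ := h y hy
  have hm' : m ∈ EO ε M := ⟨hm, by simpa [(mem_EX.1 hz).2] using hy.2⟩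
  obtain ⟨c, hc⟩ := hB.scalar hi hz hc
  rw [hB.cov _ (EO_mono hMY hm') _ hz, hc]
  simp [e m hm']

end Defs

section Geo
universe u
variable (F A V : Type u) [Field F] [CommRing A] [Algebra F A] [AddCommGroup V] [Module F V] [Module A V]

/-- a quadratic space with a commutative reduced algebra with involution acting on it -/
structure Geo where
  Q : QuadraticForm F V
  σ : A →+* A
  τ : A →ₗ[F] F
  H : V → V → A
  e0 : A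
  nondeg : ∀ x, (∀ y, QuadraticMap.polar Q x y = 0) → x = 0
  σσ : ∀ a, σ (σ a) = a
  σ_smul : ∀ (c : F) a, σ (c • a) = c • σ a
  τσ : ∀ a, τ (σ a) = τ a
  τ_nd : ∀ c, (∀ a, τ (a * c) = 0) → c = 0
  H_add : ∀ x x' y, H (x + x') y = H x y + H x' y
  H_smul : ∀ (a : A) x y, H (a • x) y = a * H x y
  H_symm : ∀ x y, σ (H x y) = H y x
  τH : ∀ x y, τ (H x y) = QuadraticMap.polar Q x y
  red : ∀ a : A, a * a = 0 → a = 0
  σe0 : σ e0 = e0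
  τe0 : τ e0 = 1
  mul_e0 : ∀ a, ∃ c : F, a * e0 = c • e0
  dich : ∀ x : V, e0 • x = x ∨ ∃ t : A, (t * σ t = 1 ∧ (∃ o, Odd o ∧ t ^ o = 1) ∧ (∀ y, Q (t • y) = Q y) ∧
    t * e0 = e0) ∧ t • x ≠ x

variable {F A V}

/-- the involution or the identity -/
def Geo.sg (G : Geo F A V) (e : ℤˣ) (a : A) : A := if e = 1 then a else G.σ a

theorem Geo.sg_sg (G : Geo F A V) (e e' : ℤˣ) (a : A) : G.sg e (G.sg e' a) = G.sg (e * e') a := by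
  rcases Int.units_eq_one_or e with rfl | rfl <;> rcases Int.units_eq_one_or e' with rfl | rfl <;>
    simp [Geo.sg, G.σσ]

/-- the semilinear isometries fixing `S` pointwise -/
def Geo.Y (G : Geo F A V) (S : Set V) : Subgroup ((V ≃ₗ[F] V) × ℤˣ) where
  carrier := {γ | ((∀ x, G.Q (γ.1 x) = G.Q x) ∧ ∀ (a : A) x, γ.1 (a • x) = G.sg γ.2 a • γ.1 x) ∧ ∀ s ∈ S, γ.1 s = s}
  one_mem' := ⟨⟨fun _ => rfl, fun a x => by simp [Geo.sg]⟩, fun _ _ => rfl⟩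
  mul_mem' := fun {γ δ} h h' => ⟨⟨fun x => (h.1.1 _).trans (h'.1.1 x), fun a x => by
      rw [Prod.fst_mul, LinearEquiv.mul_apply, h'.1.2, h.1.2, G.sg_sg]; rfl⟩,
    fun s hs => by rw [Prod.fst_mul, LinearEquiv.mul_apply, h'.2 s hs, h.2 s hs]⟩
  inv_mem' := fun {γ} h => ⟨⟨fun x => (h.1.1 _).symm.trans (congrArg G.Q (γ.1.apply_symm_apply x)), fun a x => by
      apply γ.1.injective
      rw [h.1.2, G.sg_sg, Prod.snd_inv, mul_inv_cancel]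
      simp [Geo.sg]⟩,
    fun s hs => by
      apply γ.1.injective
      rw [h.2 s hs]; exact γ.1.apply_symm_apply s⟩

/-- the sign -/
abbrev sgn (F V : Type u) [Field F] [AddCommGroup V] [Module F V] : (V ≃ₗ[F] V) × ℤˣ →* ℤˣ := MonoidHom.snd _ _

/-- isometries fixing `w`, with an arbitrary sign -/
def OY (Q : QuadraticForm F V) (w : V) : Subgroup ((V ≃ₗ[F] V) × ℤˣ) where
  carrier := {γ | (∀ x, Q (γ.1 x) = Q x) ∧ γ.1 w = w}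
  one_mem' := ⟨fun _ => rfl, rfl⟩
  mul_mem' := fun {γ δ} h h' => ⟨fun x => (h.1 _).trans (h'.1 x), by
    rw [Prod.fst_mul, LinearEquiv.mul_apply, h'.2, h.2]⟩
  inv_mem' := fun {γ} h => ⟨fun x => (h.1 _).symm.trans (congrArg Q (γ.1.apply_symm_apply x)), by
    apply γ.1.injective
    rw [h.2]; exact γ.1.apply_symm_apply w⟩

end Geo

end Cfsg.Agent.H65
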