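import Cfsg.Agent.H65.FsDef

set_option autoImplicit false

namespace Cfsg.Agent.H65
open Module MonoidAlgebra

universe u

section Aux
variable {F A V : Type u} [Field F] [CommRing A] [Algebra F A] [AddCommGroup V]
  [Module F V] [Module A V] (G : Geo F A V)

theorem Geo.H_inv {g : V ≃ₗ[F] V} (hg : (g, 1) ∈ G.Y ∅) (x y : V) : G.H (g x) (g y) = G.H x y := by
  refine sub_eq_zero.1 (G.τ_nd _ fun a => ?_)
  have h1 : g (a • x) = a • g x := by simpa [Geo.sg] using hg.1.2 a x
  have h2 : ∀ x, G.Q (g x) = G.Q x := hg.1.1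
  rw [mul_sub, map_sub, ← G.H_smul, ← G.H_smul, G.τH, G.τH, ← h1, QuadraticMap.polar,
    QuadraticMap.polar, ← map_add, h2, h2, h2, sub_self]

theorem Geo.H_zero (y : V) : G.H 0 y = 0 := by simpa using G.H_smul 0 0 y

variable {C : Type u} [CommGroup C]

/-- the involution on the group algebra -/
noncomputable def Geo.σ' (C : Type u) [CommGroup C] : MonoidAlgebra A C →+* MonoidAlgebra A C :=
  (mapDomainRingHom A invMonoidHom).comp (mapRingHom C G.σ)

theorem Geo.σ'_single (c : C) (a : A) : G.σ' C (single c a) = single c⁻¹ (G.σ a) := by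
  simp [Geo.σ']

theorem Geo.σ'_coeff (a : MonoidAlgebra A C) (c : C) : (G.σ' C a).coeff c = G.σ (a.coeff c⁻¹) := by
  classical
  induction a using induction_linear with
  | zero => simp
  | add x y hx hy => simp [hx, hy]
  | single m r => simp [G.σ'_single, Finsupp.single_apply, inv_eq_iff_eq_inv, apply_ite G.σ]

theorem red_monoidAlgebra [Fintype C] (h2 : (2 : A) = 0) (hr : ∀ a : A, a * a = 0 → a = 0)
    (ho : Odd (Nat.card C)) (a : MonoidAlgebra A C) (h : a * a = 0) : a = 0 := by
  classical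
  have h3 : ∀ s : Finset C, (∑ c ∈ s, single c (a.coeff c)) * (∑ c ∈ s, single c (a.coeff c)) =
      ∑ c ∈ s, single (c ^ 2) (a.coeff c * a.coeff c) := fun s => by
    induction s using Finset.induction_on with
    | empty => simp
    | insert c s hc ih =>
      rw [Finset.sum_insert hc, Finset.sum_insert hc, ← ih, add_mul_self_eq, single_mul_single, sq,
        show (2 : MonoidAlgebra A C) = 0 by
          rw [← map_ofNat (algebraMap A (MonoidAlgebra A C)), h2, map_zero]]
      simp
  have h4 : ∑ c, single c (a.coeff c) = a := by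
    ext c; simp
  ext c
  have := congrArg (·.coeff (c ^ 2)) ((h3 Finset.univ).symm.trans (by rw [h4, h]))
  simp only [coeff_sum, coeff_single, Finsupp.coe_finsetSum, Finset.sum_apply, Finsupp.single_apply,
    (powCoprime (Nat.coprime_two_right.2 ho)).injective.eq_iff (f := (· ^ 2))] at this
  exact hr _ (by simpa using this)

theorem Geo.exists_ext_aux [CharP F 2] [Finite A] [IsScalarTower F A V] [Fintype C]
    (ι : C →* V ≃ₗ[F] V) (hι : ∀ c, (ι c, 1) ∈ G.Y ∅) (ho : Odd (Nat.card C)) (β : C)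
    (hβ : ∀ c, c ∈ Subgroup.zpowers β) :
    ∃ (A' : Type u) (_ : CommRing A') (_ : Algebra F A') (_ : Finite A') (_ : Module A' V)
      (_ : IsScalarTower F A' V) (G' : Geo F A' V), G'.Q = G.Q ∧
      (∀ γ, γ ∈ G'.Y ∅ ↔ γ ∈ G.Y ∅ ∧ γ.1 * ι β ^ ((γ.2 : ℤˣ) : ℤ) * γ.1⁻¹ = ι β) ∧
      (∀ x s, ι β s = s → (G'.H x s = 0 ↔ G.H x s = 0)) ∧
      (∀ x, ι β x = x → G.e0 • x = x → G'.e0 • x = x) := by
  have hl : ∀ c (a : A) x, ι c (a • x) = a • ι c x := fun c a x => by
    simpa [Geo.sg] using (hι c).1.2 a x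
  let ι' : C →* End A V :=
    { toFun := fun c => ⟨⟨ι c, map_add _⟩, hl c⟩
      map_one' := LinearMap.ext fun x => by simp
      map_mul' := fun c d => LinearMap.ext fun x => by simp }
  let φ := lift A (End A V) C ι'
  let : Module (MonoidAlgebra A C) V := Module.compHom V φ.toRingHom
  have hs : ∀ c (a : A) (x : V), single c a • x = a • ι c x := fun c a x =>
    LinearMap.congr_fun (lift_single ι' c a) x
  have hT : IsScalarTower F (MonoidAlgebra A C) V := ⟨fun f a x => by
    change φ (f • a) x = f • φ a x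
    rw [← algebraMap_smul A f a, map_smul, LinearMap.smul_apply, algebraMap_smul]⟩
  let mk : (C → A) → MonoidAlgebra A C := fun f => .ofCoeff (Finsupp.equivFunOnFinite.symm f)
  have hmk : ∀ f c, (mk f).coeff c = f c := fun _ _ => rfl
  have h2 : (2 : A) = 0 := by rw [← map_ofNat (algebraMap F A), CharTwo.two_eq_zero, map_zero]
  have hfix : ∀ {x}, ι β x = x → ∀ c, ι c x = x := fun {x} h c => by
    obtain ⟨k, rfl⟩ := hβ c
    rw [map_zpow]
    exact (MulAction.stabilizer (V ≃ₗ[F] V) x).zpow_mem h k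
  have he : ∀ x, ι β x = x → G.e0 • x = x → mk (fun _ => G.e0) • x = x := fun x h1 h3 => by
    classical
    obtain ⟨k, hk⟩ := ho
    rw [show mk (fun _ => G.e0) = ∑ c, single c G.e0 by ext c; simp [hmk, Finsupp.single_apply],
      Finset.sum_smul]
    simp only [hs, hfix h1, h3]
    rw [Finset.sum_const, Finset.card_univ, ← Nat.card_eq_fintype_card, hk, add_smul, one_smul,
      mul_smul, ← Nat.cast_smul_eq_nsmul A, Nat.cast_ofNat, h2, zero_smul, zero_add]
  let G' : Geo F (MonoidAlgebra A C) V :=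
    { Q := G.Q
      σ := G.σ' C
      τ := ⟨⟨fun a => G.τ (a.coeff 1), fun a b => by simp⟩, fun f a => by simp⟩
      H := fun x y => mk fun c => G.H (ι c⁻¹ x) y
      e0 := mk fun _ => G.e0
      nondeg := G.nondeg
      σσ := fun a => by ext c; simp [G.σ'_coeff, G.σσ]
      σ_smul := fun f a => by ext c; simp [G.σ'_coeff, G.σ_smul]
      τσ := fun a => by simp [G.σ'_coeff, G.τσ]
      τ_nd := fun c h => by
        ext g
        exact G.τ_nd _ fun a => by simpa [coeff_single_mul_apply] using h (single g⁻¹ a)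
      H_add := fun x x' y => by ext c; simp [hmk, G.H_add]
      H_smul := fun a x y => by
        ext c
        induction a using induction_linear with
        | zero => simp [hmk, G.H_zero]
        | add a b ha hb => 
          rw [hmk] at ha hb
          rw [hmk, add_smul, map_add, G.H_add, ha, hb, add_mul, coeff_add, Finsupp.add_apply]
        | single g r => 
          rw [hmk, hs, hl, G.H_smul, coeff_single_mul_apply, hmk, mul_inv_rev, inv_inv, map_mul]
          rfl
      H_symm := fun x y => by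
        ext c
        rw [G.σ'_coeff, hmk, hmk, G.H_symm, ← G.H_inv (hι c⁻¹), inv_inv]
        simp
      τH := fun x y => by
        change G.τ (G.H (ι 1⁻¹ x) y) = _
        rw [inv_one, map_one, G.τH]; rfl
      red := red_monoidAlgebra h2 G.red ho
      σe0 := by ext c; rw [G.σ'_coeff, hmk, hmk, G.σe0]
      τe0 := G.τe0
      mul_e0 := fun a => by
        induction a using induction_linear with
        | zero => exact ⟨0, by simp⟩
        | add a b ha hb =>
          obtain ⟨c, hc⟩ := ha
          obtain ⟨d, hd⟩ := hb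
          exact ⟨c + d, by rw [add_mul, hc, hd, add_smul]⟩
        | single g r =>
          obtain ⟨c, hc⟩ := G.mul_e0 r
          exact ⟨c, by ext d; simp [coeff_single_mul_apply, hmk, hc]⟩
      dich := fun x => by
        by_cases h1 : ι β x = x
        · refine (G.dich x).imp (he x h1) fun ⟨t, ⟨h3, ⟨o, h4, h5⟩, h6, h7⟩, h8⟩ =>
            ⟨single 1 t, ⟨?_, ⟨o, h4, ?_⟩, ?_, ?_⟩, ?_⟩
          · simp [G.σ'_single, single_mul_single, h3, one_def]
          · simp [h5, one_def]
          · simp [hs, h6]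
          · ext d; simp [coeff_single_mul_apply, hmk, h7]
          · simpa [hs] using h8
        · refine Or.inr ⟨single β 1, ⟨?_, ⟨_, ho, ?_⟩, fun y => ?_, ?_⟩, ?_⟩
          · simp [G.σ'_single, single_mul_single, one_def]
          · simp [one_def]
          · simpa [hs] using (hι β).1.1 y
          · ext d; simp [coeff_single_mul_apply, hmk]
          · simpa [hs] using h1 }
  have hsg : ∀ (e : ℤˣ) c a, G'.sg e (single c a) = single (c ^ (e : ℤ)) (G.sg e a) := fun e c a => by
    rcases Int.units_eq_one_or e with rfl | rfl <;> simp [Geo.sg, G', G.σ'_single]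
  refine ⟨MonoidAlgebra A C, inferInstance, inferInstance, Finite.of_injective _ (DFunLike.coe_injective.comp coeff_injective),
    inferInstance, hT, G', rfl, fun γ => ⟨fun h => ⟨⟨⟨h.1.1, fun a x => ?_⟩, h.2⟩, ?_⟩,
      fun h => ⟨⟨h.1.1.1, fun a x => ?_⟩, h.1.2⟩⟩, fun x s h => ⟨fun h1 => ?_, fun h1 => ?_⟩, he⟩
  · simpa [hsg, hs] using h.1.2 (single 1 a) x
  · rw [mul_inv_eq_iff_eq_mul, ← map_zpow]
    ext x
    have := h.1.2 (single (β ^ (γ.2 : ℤ)) 1) x
    rw [hsg, ← zpow_mul, ← Units.val_mul, Int.units_mul_self, hs, hs] at this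
    rcases Int.units_eq_one_or γ.2 with h | h <;> simpa [h, Geo.sg] using this
  · induction a using induction_linear with
    | zero => rcases Int.units_eq_one_or γ.2 with h | h <;> simp [h, Geo.sg]
    | add a b ha hb =>
      rw [add_smul, map_add, ha, hb, ← add_smul]
      rcases Int.units_eq_one_or γ.2 with h | h <;> simp [h, Geo.sg]
    | single c a =>
      obtain ⟨k, rfl⟩ := hβ c
      have := congrArg (· ^ (γ.2 * k : ℤ)) h.2
      simp only [conj_zpow, ← zpow_mul, ← mul_assoc, ← Units.val_mul, Int.units_mul_self,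
        Units.val_one, one_mul, mul_inv_eq_iff_eq_mul] at this
      rw [hsg, hs, hs, h.1.1.2, ← zpow_mul, map_zpow, map_zpow, mul_comm k, ← LinearEquiv.mul_apply,
        this, LinearEquiv.mul_apply]
  · have : G.H (ι 1⁻¹ x) s = 0 := congrArg (·.coeff 1) h1
    rwa [inv_one, map_one] at this
  · ext c
    change G.H (ι c⁻¹ x) s = 0
    rw [← hfix h c⁻¹, G.H_inv (hι _), h1]

end Aux

theorem Geo.exists_ext {F A V : Type u} [Field F] [CharP F 2] [CommRing A] [Algebra F A] [Finite A] [AddCommGroup V]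
    [Module F V] [Module A V] [IsScalarTower F A V] (G : Geo F A V) (b : V ≃ₗ[F] V) (hb : (b, 1) ∈ G.Y ∅)
    (ho : Odd (orderOf b)) :
    ∃ (A' : Type u) (_ : CommRing A') (_ : Algebra F A') (_ : Finite A') (_ : Module A' V) (_ : IsScalarTower F A' V)
      (G' : Geo F A' V), G'.Q = G.Q ∧
      (∀ γ, γ ∈ G'.Y ∅ ↔ γ ∈ G.Y ∅ ∧ γ.1 * b ^ ((γ.2 : ℤˣ) : ℤ) * γ.1⁻¹ = b) ∧
      (∀ x s, b s = s → (G'.H x s = 0 ↔ G.H x s = 0)) ∧ (∀ x, b x = x → G.e0 • x = x → G'.e0 • x = x) := by
  rw [← Nat.card_zpowers] at ho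
  have := Nat.finite_of_card_ne_zero ho.pos.ne'
  have := Fintype.ofFinite (Subgroup.zpowers b)
  let : CommGroup (Subgroup.zpowers b) := IsCyclic.commGroup
  refine G.exists_ext_aux (Subgroup.zpowers b).subtype ?_ ho ⟨b, Subgroup.mem_zpowers b⟩ ?_
  · rintro ⟨_, k, rfl⟩
    simpa using zpow_mem hb k
  · rintro ⟨_, k, rfl⟩
    exact ⟨k, rfl⟩

end Cfsg.Agent.H65
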