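import Cfsg.Agent.H65.FsDef

set_option autoImplicit false
set_option linter.unusedSectionVars false

/-! Quadratic spaces with operators: basic calculus. -/

namespace Cfsg.Agent.H65.Geo
open Module QuadraticMap

universe u
variable {F A V : Type u} [Field F] [CommRing A] [Algebra F A] [AddCommGroup V] [Module F V] [Module A V]
  [IsScalarTower F A V] (G : Geo F A V)

theorem σH (x y : V) : G.σ (G.H x y) = G.H y x := G.H_symm x y

/-- the hermitian form as a linear map in the first variable -/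
def HL (y : V) : V →ₗ[A] A where
  toFun x := G.H x y
  map_add' x x' := G.H_add x x' y
  map_smul' a x := G.H_smul a x y

theorem HL_apply (x y : V) : G.HL y x = G.H x y := rfl
theorem H_zero0 (y : V) : G.H 0 y = 0 := (G.HL y).map_zero
theorem H_sub (x x' y : V) : G.H (x - x') y = G.H x y - G.H x' y := (G.HL y).map_sub x x'
theorem H_zero' (y : V) : G.H y 0 = 0 := by rw [← G.σH, G.H_zero0, map_zero]
theorem H_add' (x y y' : V) : G.H x (y + y') = G.H x y + G.H x y' := by rw [← G.σH, G.H_add, map_add, G.σH, G.σH]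
theorem H_sub' (x y y' : V) : G.H x (y - y') = G.H x y - G.H x y' := by rw [← G.σH, G.H_sub, map_sub, G.σH, G.σH]
theorem H_smul' (a : A) (x y : V) : G.H x (a • y) = G.σ a * G.H x y := by rw [← G.σH, G.H_smul, map_mul, G.σH]
theorem H_fsmul (c : F) (x y : V) : G.H (c • x) y = c • G.H x y := by
  rw [← algebraMap_smul A c x, G.H_smul, Algebra.smul_def]
theorem H_fsmul' (c : F) (x y : V) : G.H x (c • y) = c • G.H x y := by rw [← G.σH, G.H_fsmul, G.σ_smul, G.σH]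
theorem H_comm0 {x y : V} (h : G.H x y = 0) : G.H y x = 0 := by rw [← G.σH, h, map_zero]
theorem h_of_H {x y : V} (h : G.H x y = 0) : polar G.Q x y = 0 := by rw [← G.τH, h, map_zero]
theorem H_of_h {x y : V} (h : ∀ a : A, polar G.Q (a • x) y = 0) : G.H x y = 0 :=
  G.τ_nd _ fun a => by rw [← G.H_smul, G.τH, h]
theorem h_smul (a : A) (x y : V) : polar G.Q (a • x) y = polar G.Q x (G.σ a • y) := by
  rw [← G.τH, ← G.τH, G.H_smul, G.H_smul', G.σσ]
theorem Q_add (x y : V) : G.Q (x + y) = G.Q x + G.Q y + polar G.Q x y := by rw [polar]; ring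

theorem sg_one (a : A) : G.sg 1 a = a := if_pos rfl
theorem sg_neg (a : A) : G.sg (-1) a = G.σ a := if_neg (by decide)
theorem sg_fix {a : A} (h : G.σ a = a) (e : ℤˣ) : G.sg e a = a := by unfold sg; split_ifs <;> simp [h]
theorem sg_zero (e : ℤˣ) : G.sg e 0 = 0 := G.sg_fix (map_zero _) e
theorem sg_mul (e : ℤˣ) (a b : A) : G.sg e (a * b) = G.sg e a * G.sg e b := by unfold sg; split_ifs <;> simp
theorem sg_sub (e : ℤˣ) (a b : A) : G.sg e (a - b) = G.sg e a - G.sg e b := by unfold sg; split_ifs <;> simp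
theorem sg_sg' (e : ℤˣ) (a : A) : G.sg e (G.sg e a) = a := by rw [G.sg_sg, Int.units_mul_self, G.sg_one]
theorem τ_sg (e : ℤˣ) (a : A) : G.τ (G.sg e a) = G.τ a := by unfold sg; split_ifs <;> simp [G.τσ]

variable {G}

theorem mem_Y {S : Set V} {γ : (V ≃ₗ[F] V) × ℤˣ} : γ ∈ G.Y S ↔ γ ∈ G.Y ∅ ∧ ∀ s ∈ S, γ.1 s = s :=
  ⟨fun h => ⟨⟨h.1, fun _ h => h.elim⟩, h.2⟩, fun h => ⟨h.1.1, h.2⟩⟩

theorem mem_ins {S : Set V} {γ : (V ≃ₗ[F] V) × ℤˣ} {v : V} : γ ∈ G.Y (insert v S) ↔ γ ∈ G.Y S ∧ γ.1 v = v :=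
  ⟨fun h => ⟨⟨h.1, fun s hs => h.2 s (Or.inr hs)⟩, h.2 v (Or.inl rfl)⟩,
    fun h => ⟨h.1.1, Set.forall_mem_insert.2 ⟨h.2, h.1.2⟩⟩⟩

section
variable {S : Set V} {γ : (V ≃ₗ[F] V) × ℤˣ}

theorem Y_Q (h : γ ∈ G.Y S) (x : V) : G.Q (γ.1 x) = G.Q x := h.1.1 x
theorem Y_smul (h : γ ∈ G.Y S) (a : A) (x : V) : γ.1 (a • x) = G.sg γ.2 a • γ.1 x := h.1.2 a x
theorem Y_fix (h : γ ∈ G.Y S) {s : V} (hs : s ∈ S) : γ.1 s = s := h.2 s hs
theorem Y_h (h : γ ∈ G.Y S) (x y : V) : polar G.Q (γ.1 x) (γ.1 y) = polar G.Q x y := by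
  simp only [polar, ← map_add, Y_Q h]
theorem Y_H (h : γ ∈ G.Y S) (x y : V) : G.H (γ.1 x) (γ.1 y) = G.sg γ.2 (G.H x y) := by
  refine sub_eq_zero.1 (G.τ_nd _ fun a => ?_)
  have := Y_h h (G.sg γ.2 a • x) y
  rw [Y_smul h, G.sg_sg', ← G.τH, ← G.τH, G.H_smul, G.H_smul, ← G.τ_sg γ.2 (_ * G.H x y), G.sg_mul, G.sg_sg'] at this
  rw [mul_sub, map_sub, this, sub_self]
theorem Y_smul0 (h : γ ∈ G.Y S) {a : A} (ha : G.σ a = a) (x : V) : γ.1 (a • x) = a • γ.1 x := by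
  rw [Y_smul h, G.sg_fix ha]
theorem X_smul (h : γ ∈ EX (sgn F V) (G.Y S)) (a : A) (x : V) : γ.1 (a • x) = a • γ.1 x := by
  rw [Y_smul h.1, show γ.2 = 1 from h.2, G.sg_one]
theorem X_H (h : γ ∈ EX (sgn F V) (G.Y S)) (x y : V) : G.H (γ.1 x) (γ.1 y) = G.H x y := by
  rw [Y_H h.1, show γ.2 = 1 from h.2, G.sg_one]
theorem O_smul (h : γ ∈ EO (sgn F V) (G.Y S)) (a : A) (x : V) : γ.1 (a • x) = G.σ a • γ.1 x := by
  rw [Y_smul h.1, show γ.2 = -1 from h.2, G.sg_neg]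
theorem O_H (h : γ ∈ EO (sgn F V) (G.Y S)) (x y : V) : G.H (γ.1 x) (γ.1 y) = G.σ (G.H x y) := by
  rw [Y_H h.1, show γ.2 = -1 from h.2, G.sg_neg]
theorem X_ext {δ : (V ≃ₗ[F] V) × ℤˣ} (h : γ.2 = δ.2) (e : ∀ x, γ.1 x = δ.1 x) : γ = δ :=
  Prod.ext (LinearEquiv.ext e) h
theorem inv_app (γ : (V ≃ₗ[F] V) × ℤˣ) (x : V) : γ⁻¹.1 (γ.1 x) = x := γ.1.symm_apply_apply x
theorem app_inv (γ : (V ≃ₗ[F] V) × ℤˣ) (x : V) : γ.1 (γ⁻¹.1 x) = x := γ.1.apply_symm_apply x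
theorem mul_app (γ δ : (V ≃ₗ[F] V) × ℤˣ) (x : V) : (γ * δ).1 x = γ.1 (δ.1 x) := rfl
theorem inv_fix {x : V} (h : γ.1 x = x) : γ⁻¹.1 x = x := by rw [← h, inv_app, h]
end

theorem exists_Y [Finite V] (f : V →ₗ[A] V) (hf : ∀ x, G.Q (f x) = G.Q x) :
    ∃ γ ∈ EX (sgn F V) (G.Y ∅), ∀ x, γ.1 x = f x := by
  have : FiniteDimensional F V := Module.Finite.of_finite
  have hi : Function.Injective (f.restrictScalars F) := (injective_iff_map_eq_zero _).2 fun x hx => G.nondeg x fun y => by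
    have : polar G.Q (f x) (f y) = polar G.Q x y := by simp only [polar, ← map_add, hf]
    rw [← this, show f x = 0 from hx, polar_zero_left]
  exact ⟨(LinearEquiv.ofInjectiveEndo _ hi, 1), ⟨⟨⟨hf, fun a x => by rw [G.sg_one]; exact f.map_smul a x⟩,
    fun _ h => h.elim⟩, rfl⟩, fun _ => rfl⟩

variable (G)

/-- the orthogonal complement of the submodule generated by `S` -/
def U (S : Set V) : Submodule A V := ⨅ s ∈ S, LinearMap.ker (G.HL s)

/-- non-degeneracy of `U S` -/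
def ND (S : Set V) : Prop := ∀ x ∈ G.U S, (∀ y ∈ G.U S, G.H x y = 0) → x = 0

/-- generates a totally singular submodule -/
def TS (x : V) : Prop := ∀ a : A, G.Q (a • x) = 0

/-- special units -/
def Sp (t : A) : Prop := t * G.σ t = 1 ∧ (∃ o, Odd o ∧ t ^ o = 1) ∧ (∀ y, G.Q (t • y) = G.Q y) ∧ t * G.e0 = G.e0

/-- primitive symmetric idempotents -/
def Pr0 (e : A) : Prop := G.σ e = e ∧ e * e = e ∧ ∀ a, G.σ a = a → a * e = 0 ∨ ∃ b, G.σ b = b ∧ a * b = e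

/-- primitive symmetric idempotents of unitary type -/
def Pr (e : A) : Prop := G.Pr0 e ∧ ∃ t, G.Sp t ∧ (t + G.σ t) * e ≠ 0

variable {G}

theorem mem_U {S : Set V} {x : V} : x ∈ G.U S ↔ ∀ s ∈ S, G.H x s = 0 := by simp [U, HL_apply]

theorem U_ins {S : Set V} {x v : V} : x ∈ G.U (insert v S) ↔ x ∈ G.U S ∧ G.H x v = 0 := by
  simp only [mem_U, Set.forall_mem_insert]; exact and_comm

theorem U_fsmul {S : Set V} {x : V} (c : F) (h : x ∈ G.U S) : c • x ∈ G.U S := (G.U S).smul_of_tower_mem c h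

theorem Y_U {S : Set V} {γ : (V ≃ₗ[F] V) × ℤˣ} (h : γ ∈ G.Y S) {x : V} (hx : x ∈ G.U S) : γ.1 x ∈ G.U S :=
  mem_U.2 fun s hs => by rw [← Y_fix h hs, Y_H h, mem_U.1 hx s hs, G.sg_zero]

theorem X_sub {S : Set V} {γ : (V ≃ₗ[F] V) × ℤˣ} (h : γ ∈ EX (sgn F V) (G.Y S)) (x : V) : γ.1 x - x ∈ G.U S :=
  mem_U.2 fun s hs => by rw [G.H_sub, ← X_H h x s, Y_fix h.1 hs, sub_self]

theorem ND.h {S : Set V} (hS : G.ND S) {x : V} (hx : x ∈ G.U S) (h : ∀ y ∈ G.U S, polar G.Q x y = 0) : x = 0 :=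
  hS x hx fun y hy => G.H_comm0 (G.H_of_h fun a => by rw [polar_comm]; exact h _ ((G.U S).smul_mem a hy))

theorem TS.H {x : V} (h : G.TS x) : G.H x x = 0 := G.H_of_h fun a => by
  have := h (a + 1)
  have e := h 1
  rw [one_smul] at e
  rwa [add_smul, one_smul, G.Q_add, h a, e, zero_add, zero_add] at this

theorem TS.map {S : Set V} {γ : (V ≃ₗ[F] V) × ℤˣ} (hγ : γ ∈ G.Y S) {x : V} (h : G.TS x) : G.TS (γ.1 x) := fun a => by
  rw [← G.sg_sg' γ.2 a, ← Y_smul hγ, Y_Q hγ, h]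

theorem card_lt [Finite V] {S S' : Set V} (h : S ⊆ S') {x : V} (hx : x ∈ G.U S) (hx' : x ∉ G.U S') :
    Nat.card (G.U S') < Nat.card (G.U S) :=
  Set.ncard_lt_ncard (s := (G.U S' : Set V)) (t := (G.U S : Set V))
    ⟨fun _ hy => mem_U.2 fun s hs => mem_U.1 hy s (h hs), fun e => hx' (e hx)⟩ (Set.toFinite _)

theorem ND.pair {S : Set V} (hS : G.ND S) {a b : V} (ha : a ∈ G.U S) (hb : b ∈ G.U S) (haa : G.H a a = 0)
    (hbb : G.H b b = 0) {e k : A} (he : G.σ e = e) (hk : k * G.H b a = e) (ea : e • a = a) (eb : e • b = b) :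
    G.ND (insert b (insert a S)) := fun x hx h => by
  rw [U_ins, U_ins] at hx
  refine hS x hx.1.1 fun y hy => ?_
  have e1 : G.H y a * e = G.H y a := by rw [mul_comm, ← he, ← G.H_smul', ea]
  have e2 : G.H y b * e = G.H y b := by rw [mul_comm, ← he, ← G.H_smul', eb]
  have e3 : G.σ k * G.H a b = e := by rw [← G.σH, ← map_mul, hk, he]
  have := h (y - (G.H y a * k) • b - (G.H y b * G.σ k) • a) (by
    rw [U_ins, U_ins]
    refine ⟨⟨sub_mem (sub_mem hy (Submodule.smul_mem _ _ hb)) (Submodule.smul_mem _ _ ha), ?_⟩, ?_⟩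
    · rw [G.H_sub, G.H_sub, G.H_smul, G.H_smul, haa, mul_assoc, hk, e1]; ring
    · rw [G.H_sub, G.H_sub, G.H_smul, G.H_smul, hbb, mul_assoc (G.H y b), e3, e2]; ring)
  rwa [G.H_sub', G.H_sub', G.H_smul', G.H_smul', hx.1.2, hx.2, mul_zero, mul_zero, sub_zero, sub_zero] at this

theorem ND.one {S : Set V} (hS : G.ND S) {a : V} (ha : a ∈ G.U S) {e k : A} (he : G.σ e = e) (hk : k * G.H a a = e)
    (ea : e • a = a) : G.ND (insert a S) := fun x hx h => by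
  rw [U_ins] at hx
  refine hS x hx.1 fun y hy => ?_
  have e1 : G.H y a * e = G.H y a := by rw [mul_comm, ← he, ← G.H_smul', ea]
  have := h (y - (G.H y a * k) • a) (by
    rw [U_ins]
    refine ⟨sub_mem hy (Submodule.smul_mem _ _ ha), ?_⟩
    rw [G.H_sub, G.H_smul, mul_assoc, hk, e1, sub_self])
  rwa [G.H_sub', G.H_smul', hx.2, mul_zero, sub_zero] at this

/-! ### vectors of trivial type -/

theorem triv_smul {x : V} (hx : G.e0 • x = x) (a : A) : ∃ c : F, a • x = c • x ∧ G.σ a • x = c • x := by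
  obtain ⟨c, hc⟩ := G.mul_e0 a
  have := congrArg G.σ hc
  rw [map_mul, G.σ_smul, G.σe0] at this
  exact ⟨c, by rw [← hx, smul_smul, hc, smul_assoc], by rw [← hx, smul_smul, this, smul_assoc]⟩

theorem H_triv (x : V) {y : V} (hy : G.e0 • y = y) : G.H x y = polar G.Q x y • G.e0 := by
  obtain ⟨c, hc⟩ := G.mul_e0 (G.H x y)
  rw [mul_comm, ← G.σe0, ← G.H_smul', hy, G.σe0] at hc
  rw [← G.τH, hc, map_smul, G.τe0, smul_eq_mul, mul_one]

theorem TS_triv {x : V} (hx : G.e0 • x = x) (h : G.Q x = 0) : G.TS x := fun a => by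
  obtain ⟨c, hc, -⟩ := triv_smul hx a
  rw [hc, G.Q.map_smul, h, smul_zero]

theorem ND.perp {S : Set V} (hS : G.ND S) {w x : V} (hw : w ∈ G.U S) (hx : x ∈ G.U S)
    (h : ∀ y ∈ G.U S, polar G.Q y w = 0 → polar G.Q y x = 0) : ∃ c : F, x = c • w := by
  by_cases h0 : ∀ z ∈ G.U S, polar G.Q z w = 0
  · exact ⟨0, by rw [zero_smul]; exact hS.h hx fun y hy => by rw [polar_comm]; exact h y hy (h0 y hy)⟩
  push Not at h0
  obtain ⟨z, hz, hzw⟩ := h0
  refine ⟨polar G.Q z x / polar G.Q z w, sub_eq_zero.1 (hS.h (sub_mem hx (U_fsmul _ hw)) fun y hy => ?_)⟩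
  have := h (y - (polar G.Q y w / polar G.Q z w) • z) (sub_mem hy (U_fsmul _ hz)) (by
    rw [polar_sub_left, polar_smul_left, smul_eq_mul, div_mul_cancel₀ _ hzw, sub_self])
  rw [polar_sub_left, polar_smul_left, smul_eq_mul] at this
  rw [polar_comm, polar_sub_right, polar_smul_right, smul_eq_mul]
  linear_combination this

theorem exists_refl [Finite V] {w : V} (hw : G.e0 • w = w) (h : G.Q w ≠ 0) :
    ∃ r ∈ EX (sgn F V) (G.Y ∅), ∀ x, r.1 x = x - (polar G.Q x w / G.Q w) • w := by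
  obtain ⟨r, hr, e⟩ := exists_Y (G := G) (LinearMap.id - (G.HL w).smulRight ((G.Q w)⁻¹ • w)) (fun x => by
    simp only [LinearMap.sub_apply, LinearMap.id_apply, LinearMap.smulRight_apply, HL_apply]
    rw [H_triv x hw, smul_assoc, smul_comm G.e0, hw, smul_smul, sub_eq_add_neg, ← neg_smul, G.Q_add, G.Q.map_smul,
      polar_smul_right]
    simp only [smul_eq_mul]
    field_simp
    ring)
  refine ⟨r, hr, fun x => ?_⟩
  rw [e]
  simp only [LinearMap.sub_apply, LinearMap.id_apply, LinearMap.smulRight_apply, HL_apply]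
  rw [H_triv x hw, smul_assoc, smul_comm G.e0, hw, smul_smul, div_eq_mul_inv]

end Cfsg.Agent.H65.Geo
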