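import Cfsg.Agent.H65.FsG1

set_option autoImplicit false
set_option linter.unusedSectionVars false
set_option linter.unusedVariables false

/-! Quadratic spaces with operators: primitive idempotents, hyperbolic pairs, Siegel transformations. -/

namespace Cfsg.Agent.H65.Geo
open Module QuadraticMap

universe u
variable {F A V : Type u} [Field F] [CharP F 2] [CommRing A] [Algebra F A] [AddCommGroup V] [Module F V] [Module A V]
  [IsScalarTower F A V] {G : Geo F A V}

theorem twoF (F : Type u) [Field F] [CharP F 2] : (2 : F) = 0 := CharP.cast_eq_zero F 2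

theorem addV (F : Type u) [Field F] [CharP F 2] {V : Type u} [AddCommGroup V] [Module F V] (x : V) : x + x = 0 := by
  rw [← two_smul F x, twoF, zero_smul]

theorem twoA (G : Geo F A V) : (2 : A) = 0 := by rw [← one_add_one_eq_two]; exact addV F (1 : A)

theorem h_self (x : V) : polar G.Q x x = 0 := by rw [polar_self, two_smul]; exact addV F _

theorem exists_idem [Finite A] (G : Geo F A V) (a : A) : ∃ k, a ^ (k + 1) * a = a := by
  have hi : Function.Injective fun x : A => x * x := fun x y h => sub_eq_zero.1 (G.red _ (by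
    have h : x * x = y * y := h
    linear_combination h + (y * y - x * y) * G.twoA))
  obtain ⟨n, hn, e⟩ := hi.mem_periodicPts a
  have hp : ∀ n, (fun x : A => x * x)^[n] a = a ^ 2 ^ n := fun n => by
    induction n with
    | zero => simp
    | succ n ih => rw [Function.iterate_succ_apply', ih, pow_succ 2, pow_mul, pow_two]
  obtain ⟨k, hk⟩ := Nat.exists_eq_add_of_le (show 2 ≤ 2 ^ n from Nat.le_self_pow hn.ne' 2)
  refine ⟨k, ?_⟩
  rw [← pow_succ, show k + 1 + 1 = 2 ^ n by omega, ← hp]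
  exact e

theorem pow_ne [Finite A] (G : Geo F A V) {a : A} (h : a ≠ 0) (k : ℕ) (hk : a ^ (k + 1) * a = a) : a ^ (k + 1) ≠ 0 :=
  fun e => h (by rw [← hk, e, zero_mul])

theorem exists_pr0 [Finite A] (G : Geo F A V) {x : V} (hx : x ≠ 0) : ∃ e, G.Pr0 e ∧ e • x ≠ 0 := by
  obtain ⟨e, ⟨h1, h2, h3⟩, hmin⟩ := exists_minimalFor_of_wellFoundedLT
    (fun e : A => G.σ e = e ∧ e * e = e ∧ e • x ≠ 0) (fun e => Set.ncard {a | e * a = a}) ⟨1, by simp [hx]⟩
  have key : ∀ f, G.σ f = f → f * f = f → f • x ≠ 0 → f * e = f → f = e := fun f f1 f2 f3 f4 => by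
    have hs : {a | f * a = a} ⊆ {a | e * a = a} := fun a (ha : f * a = a) => show e * a = a by
      rw [← ha, ← mul_assoc, mul_comm e, f4]
    have := Set.eq_of_subset_of_ncard_le hs (hmin ⟨f1, f2, f3⟩ (Set.ncard_le_ncard hs)) (Set.toFinite _)
    have he : e ∈ {a | f * a = a} := this ▸ h2
    exact f4.symm.trans he
  refine ⟨e, ⟨h1, h2, fun a ha => or_iff_not_imp_left.2 fun h0 => ?_⟩, h3⟩
  obtain ⟨k, hk⟩ := G.exists_idem (a * e)
  set f := (a * e) ^ (k + 1) with hf
  have f1 : G.σ f = f := by rw [hf, map_pow, map_mul, ha, h1]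
  have f2 : f * f = f := by
    conv_lhs => rw [hf, pow_succ' _ k, ← mul_assoc, ← pow_succ' _ k, hk]
    exact (pow_succ' _ _).symm
  have f4 : f * e = f := by rw [hf, pow_succ, mul_assoc, mul_assoc, h2]
  have : f = e := by
    by_cases f3 : f • x = 0
    · have := key (e - f) (by rw [map_sub, h1, f1]) (by linear_combination h2 + f2 - 2 * f4)
        (by rwa [sub_smul, f3, sub_zero]) (by linear_combination h2 - f4)
      exact absurd (by linear_combination -this) (G.pow_ne h0 k hk)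
    · exact key f f1 f2 f3 f4
  exact ⟨e * (a * e) ^ k, by rw [map_mul, map_pow, map_mul, ha, h1], by
    calc a * (e * (a * e) ^ k) = f := by rw [hf]; ring
      _ = e := this⟩

theorem Sp.σ_mul {t : A} (h : G.Sp t) : G.σ t * t = 1 := by rw [mul_comm, h.1]

theorem Sp.σ_fix {t : A} (h : G.Sp t) : G.σ (t + G.σ t) = t + G.σ t := by rw [map_add, G.σσ, add_comm]

theorem Sp.Qσ {t : A} (h : G.Sp t) (y : V) : G.Q (G.σ t • y) = G.Q y := by
  rw [← h.2.2.1, smul_smul, h.1, one_smul]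

theorem Sp.add_ne {t : A} (h : G.Sp t) {x : V} (hx : t • x ≠ x) : (t + G.σ t) • x ≠ 0 := fun e => hx <| by
  obtain ⟨o, ⟨k, rfl⟩, ho⟩ := h.2.1
  have e1 : (t * t) • x = x := by
    have := congrArg (t • ·) e
    simp only [smul_zero] at this
    rw [smul_smul, mul_add, h.1, add_smul, one_smul] at this
    rw [← add_zero ((t * t) • x), ← addV F x, ← add_assoc, this, zero_add]
  have e2 : ∀ k, (t * t) ^ k • x = x := fun k => by
    induction k with
    | zero => simp
    | succ k ih => rw [pow_succ, mul_smul, e1, ih]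
  calc t • x = t • (t * t) ^ k • x := by rw [e2]
    _ = x := by rw [smul_smul, ← pow_two, ← pow_mul, ← pow_succ', ho, one_smul]

theorem exists_pr [Finite A] {S : Set V} (h : ¬ ∀ x ∈ G.U S, G.e0 • x = x) : ∃ e, G.Pr e ∧ ∃ x ∈ G.U S, e • x ≠ 0 := by
  push Not at h
  obtain ⟨x, hx, h⟩ := h
  obtain ⟨t, ht, hx'⟩ := (G.dich x).resolve_left h
  obtain ⟨e, he, h0⟩ := G.exists_pr0 (Sp.add_ne ht hx')
  exact ⟨e, ⟨he, t, ht, fun e0 => h0 (by rw [smul_smul, mul_comm, e0, zero_smul])⟩, _, Submodule.smul_mem _ _ hx, h0⟩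

theorem Pr.data {e : A} (h : G.Pr e) : ∃ t b, G.Sp t ∧ G.σ b = b ∧ (t + G.σ t) * b = e := by
  obtain ⟨t, ht, h0⟩ := h.2
  obtain ⟨b, hb, e⟩ := (h.1.2.2 _ ht.σ_fix).resolve_left h0
  exact ⟨t, b, ht, hb, e⟩

theorem Pr.TS {e : A} (h : G.Pr e) {x : V} (hx : e • x = x) (h0 : G.H x x = 0) : G.TS x := fun a => by
  obtain ⟨t, b, ht, hb, he⟩ := h.data
  have : a • x = t • (b * a) • x + G.σ t • (b * a) • x := by
    rw [← add_smul, smul_smul, ← mul_assoc, he, mul_comm, mul_smul, hx]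
  rw [this, G.Q_add, ht.2.2.1, ht.Qσ, addV F, zero_add, ← G.τH, G.H_smul, G.H_smul, G.H_smul', G.H_smul', h0]
  simp

theorem Pr.delta {e : A} (h : G.Pr e) : ∃ δ, δ + G.σ δ = e := by
  obtain ⟨t, b, -, hb, he⟩ := h.data
  exact ⟨t * b, by rw [map_mul, hb, ← add_mul, he]⟩

theorem Pr.triv {e : A} (h : G.Pr e) {w : V} (hw : G.e0 • w = w) : e • w = 0 := by
  obtain ⟨t, b, ht, -, he⟩ := h.data
  have e1 : t • w = w := by rw [← hw, smul_smul, ht.2.2.2]
  have e2 : G.σ t • w = w := by conv_lhs => rw [← e1, smul_smul, ht.σ_mul, one_smul]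
  rw [← he, mul_comm, mul_smul, add_smul, e1, e2, addV F, smul_zero]

theorem Pr.H_triv {e : A} (h : G.Pr e) {w x : V} (hw : G.e0 • w = w) (hx : e • x = x) : G.H x w = 0 := by
  rw [← hx, G.H_smul, ← h.1.1, ← G.H_smul', h.triv hw, G.H_zero']

theorem H_mul_e {e : A} (he : G.σ e = e) (x : V) {y : V} (hy : e • y = y) : G.H x y * e = G.H x y := by
  rw [mul_comm, ← he, ← G.H_smul', hy]

theorem Pr0.inv {e : A} (h : G.Pr0 e) {c : A} (hc : c * e = c) (h0 : c ≠ 0) :
    (∃ b, b * (c + G.σ c) = e) ∨ ∃ b, b * (c * G.σ c) = e := by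
  have hs : G.σ c * e = G.σ c := by conv_rhs => rw [← hc, map_mul, h.1]
  rcases h.2.2 (c + G.σ c) (by rw [map_add, G.σσ, add_comm]) with h1 | ⟨b, -, hb⟩
  · rcases h.2.2 (c * G.σ c) (by rw [map_mul, G.σσ, mul_comm]) with h2 | ⟨b, -, hb⟩
    · rw [add_mul, hc, hs] at h1
      rw [mul_assoc, hs] at h2
      exact absurd (G.red c (by linear_combination c * h1 - h2)) h0
    · exact Or.inr ⟨b, by rw [mul_comm, hb]⟩
  · exact Or.inl ⟨b, by rw [mul_comm, hb]⟩

theorem Pr.surj {e : A} (h : G.Pr e) {c : A} (hc : c * e = c) (h0 : c ≠ 0) {a0 : A} (h1 : G.σ a0 = a0)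
    (h2 : a0 * e = a0) : ∃ a, a * c + G.σ (a * c) = a0 := by
  have hs : G.σ c * e = G.σ c := by conv_rhs => rw [← hc, map_mul, h.1.1]
  have : ∃ a, (a * c + G.σ (a * c)) * e ≠ 0 := by
    by_contra hn
    push Not at hn
    obtain ⟨t, b, ht, -, he⟩ := h.data
    have e1 := hn 1
    have e2 := hn t
    rw [one_mul, add_mul, hc, hs] at e1
    rw [map_mul, add_mul, mul_assoc, mul_assoc, hc, hs] at e2
    exact h0 (by linear_combination -hc - c * he + b * e2 - b * G.σ t * e1 + b * c * G.σ t * G.twoA)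
  obtain ⟨a, ha⟩ := this
  obtain ⟨b, hb, e1⟩ := (h.1.2.2 _ (by rw [map_add, G.σσ, add_comm])).resolve_left ha
  refine ⟨a0 * b * a, ?_⟩
  simp only [map_mul, h1, hb] at e1 ⊢
  linear_combination a0 * e1 + h2

/-- a hyperbolic pair -/
structure Pair (G : Geo F A V) (v u : V) (e : A) : Prop where
  σe : G.σ e = e
  Huv : G.H u v = e
  ev : e • v = v
  eu : e • u = u
  tv : G.TS v
  tu : G.TS u

variable {v u : V} {e : A}

theorem Pair.Hvu (p : G.Pair v u e) : G.H v u = e := by rw [← G.σH, p.Huv, p.σe]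

theorem Pair.ee (p : G.Pair v u e) : e * e = e := by
  have := H_mul_e p.σe u p.ev
  rwa [p.Huv] at this

theorem Pair.constr [Finite V] (p : G.Pair v u e) {m : V} (hm : e • m = m) (hmv : G.H m v = 0) (ht : G.TS (u + m)) :
    ∃ n ∈ EX (sgn F V) (G.Y ∅), ∀ x, n.1 x = x + G.H x v • m - G.H x m • v + (G.H x v * G.H u m) • v := by
  let f : V →ₗ[A] V := LinearMap.id + (G.HL v).smulRight m - (G.HL m).smulRight v + (G.HL v).smulRight (G.H u m • v)
  have hf : ∀ x, f x = x + G.H x v • m - G.H x m • v + (G.H x v * G.H u m) • v := fun x => by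
    simp [f, HL_apply, mul_smul]
  have h0 := ht.H
  rw [G.H_add, G.H_add', G.H_add', p.tu.H, zero_add] at h0
  have hH : ∀ x y, G.H (f x) (f y) = G.H x y := fun x y => by
    simp only [hf, G.H_add, G.H_sub, G.H_smul, G.H_add', G.H_sub', G.H_smul', map_mul, G.σH, p.tv.H, hmv,
      G.H_comm0 hmv]
    linear_combination G.H x v * G.H v y * h0
  have hu : f u = u + m := by
    rw [hf, p.Huv, hm, mul_comm, mul_smul, p.ev]; abel
  obtain ⟨n, hn, en⟩ := exists_Y (G := G) f fun x => by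
    obtain ⟨x0, hx0, hx⟩ : ∃ x0, G.H x0 v = 0 ∧ x = x0 + G.H x v • u :=
      ⟨x - G.H x v • u, by rw [G.H_sub, G.H_smul, p.Huv, H_mul_e p.σe x p.ev, sub_self], by abel⟩
    generalize G.H x v = c at hx
    subst hx
    rw [map_add, G.Q_add, G.Q_add, ← G.τH, ← G.τH, hH, map_smul, hu, ht, p.tu, hf, hx0, zero_smul, zero_mul, zero_smul,
      add_zero, add_zero, add_zero, add_zero, sub_eq_add_neg, ← neg_smul, G.Q_add, p.tv, ← G.τH, G.H_smul', hx0]
    simp
  exact ⟨n, hn, fun x => (en x).trans (hf x)⟩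

theorem Pair.exists_t [Finite V] (p : G.Pair v u e) {t : A} (ht : G.Sp t) :
    ∃ g ∈ EX (sgn F V) (G.Y ∅), ∀ x, g.1 x = x + (t - 1) • (G.H x u • v + G.H x v • u) := by
  obtain ⟨g, hg, e⟩ := exists_Y (G := G) (LinearMap.id + (t - 1) • ((G.HL u).smulRight v + (G.HL v).smulRight u))
    fun x => by
    obtain ⟨x0, h1, h2, hx⟩ : ∃ x0, G.H x0 v = 0 ∧ G.H x0 u = 0 ∧ x = x0 + (G.H x u • v + G.H x v • u) :=
      ⟨x - (G.H x u • v + G.H x v • u),
        by rw [G.H_sub, G.H_add, G.H_smul, G.H_smul, p.Huv, p.tv.H, H_mul_e p.σe x p.ev]; ring,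
        by rw [G.H_sub, G.H_add, G.H_smul, G.H_smul, p.Hvu, p.tu.H, H_mul_e p.σe x p.eu]; ring, by abel⟩
    have h3 : ∀ a : A, polar G.Q x0 (a • (G.H x u • v + G.H x v • u)) = 0 := fun a => G.h_of_H (by
      rw [G.H_smul', G.H_add', G.H_smul', G.H_smul', h1, h2]; ring)
    have : x + (t - 1) • (G.H x u • v + G.H x v • u) = x0 + t • (G.H x u • v + G.H x v • u) := by
      rw [sub_smul, one_smul]; nth_rewrite 1 [hx]; abel
    show G.Q (x + (t - 1) • (G.H x u • v + G.H x v • u)) = _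
    rw [this, G.Q_add, h3, ht.2.2.1]
    conv_rhs => rw [hx, G.Q_add, ← one_smul A (G.H x u • v + G.H x v • u), h3, one_smul]
  exact ⟨g, hg, e⟩

end Cfsg.Agent.H65.Geo
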