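import Cfsg.Agent.H65.FsG2

set_option autoImplicit false
set_option linter.unusedSectionVars false
set_option linter.unusedVariables false

/-! Quadratic spaces with operators: the unipotent radical of a vector stabiliser. -/

namespace Cfsg.Agent.H65.Geo
open Module QuadraticMap

universe u
variable {F A V : Type u} [Field F] [CharP F 2] [CommRing A] [Algebra F A] [AddCommGroup V] [Module F V] [Module A V]
  [IsScalarTower F A V] {G : Geo F A V}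

/-- the unipotent radical -/
def N (G : Geo F A V) (S : Set V) (v : V) : Subgroup ((V ≃ₗ[F] V) × ℤˣ) where
  carrier := {n | n ∈ EX (sgn F V) (G.Y S) ∧ n.1 v = v ∧ ∀ x, G.H x v = 0 → ∃ a : A, n.1 x = x + a • v}
  one_mem' := ⟨one_mem _, rfl, fun x _ => ⟨0, by simp⟩⟩
  mul_mem' := fun {n n'} h h' => ⟨mul_mem h.1 h'.1, by rw [mul_app, h'.2.1, h.2.1], fun x hx => by
    obtain ⟨a, ha⟩ := h.2.2 x hx
    obtain ⟨a', ha'⟩ := h'.2.2 x hx
    exact ⟨a + a', by rw [mul_app, ha', map_add, X_smul h.1, ha, h.2.1, add_smul, add_assoc]⟩⟩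
  inv_mem' := fun {n} h => ⟨inv_mem h.1, inv_fix h.2.1, fun x hx => by
    obtain ⟨a, ha⟩ := h.2.2 x hx
    refine ⟨-a, n.1.injective ?_⟩
    rw [app_inv, map_add, X_smul h.1, ha, h.2.1, neg_smul, add_neg_cancel_right]⟩

/-- its centre -/
def Z (G : Geo F A V) (S : Set V) (v u : V) : Subgroup ((V ≃ₗ[F] V) × ℤˣ) where
  carrier := {n | n ∈ G.N S v ∧ ∃ a : A, n.1 u = u + a • v}
  one_mem' := ⟨one_mem _, 0, by simp⟩
  mul_mem' := fun {n n'} h h' => ⟨mul_mem h.1 h'.1, by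
    obtain ⟨a, ha⟩ := h.2
    obtain ⟨a', ha'⟩ := h'.2
    exact ⟨a + a', by rw [mul_app, ha', map_add, X_smul h.1.1, ha, h.1.2.1, add_smul, add_assoc]⟩⟩
  inv_mem' := fun {n} h => ⟨inv_mem h.1, by
    obtain ⟨a, ha⟩ := h.2
    refine ⟨-a, n.1.injective ?_⟩
    rw [app_inv, map_add, X_smul h.1.1, ha, h.1.2.1, neg_smul, add_neg_cancel_right]⟩

/-- a hyperbolic pair adapted to `S` -/
structure Ctx (G : Geo F A V) (S : Set V) (v u : V) (e : A) : Prop extends G.Pair v u e where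
  hv : v ∈ S
  hS : ∀ s ∈ S, G.H s v = 0 ∧ G.σ (G.H u s) = G.H u s

variable {S : Set V} {v u : V} {e : A} {n n' y : (V ≃ₗ[F] V) × ℤˣ}

theorem Ctx.em (c : G.Ctx S v u e) (hy : y ∈ G.Y S) : e • (y.1 u - u) = y.1 u - u := by
  rw [smul_sub, ← Y_smul0 hy c.σe, c.eu]

theorem Ctx.mU (c : G.Ctx S v u e) (hy : y ∈ G.Y S) : y.1 u - u ∈ G.U S := mem_U.2 fun s hs => by
  rw [G.H_sub, ← Y_fix hy hs, Y_H hy, Y_fix hy hs, G.sg_fix (c.hS s hs).2, sub_self]

theorem Ctx.mv (c : G.Ctx S v u e) (hy : y ∈ G.Y S) : G.H (y.1 u - u) v = 0 := mem_U.1 (c.mU hy) v c.hv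

theorem Ctx.form0 (c : G.Ctx S v u e) (hn : n ∈ G.N S v) {x : V} (hx : G.H x v = 0) :
    n.1 x = x - G.H x (n.1 u - u) • v := by
  obtain ⟨a, ha⟩ := hn.2.2 x hx
  have := X_H hn.1 x u
  have e1 : G.H v (n.1 u) = e := by rw [← c.Hvu, ← X_H hn.1 v u, hn.2.1]
  rw [ha, G.H_add, G.H_smul, e1] at this
  rw [ha, G.H_sub', show G.H x (n.1 u) - G.H x u = -(a * e) by linear_combination this, neg_smul, mul_smul, c.ev,
    sub_neg_eq_add]

theorem Ctx.form (c : G.Ctx S v u e) (hn : n ∈ G.N S v) (x : V) : n.1 x =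
    x + G.H x v • (n.1 u - u) - G.H x (n.1 u - u) • v + (G.H x v * G.H u (n.1 u - u)) • v := by
  have h := c.form0 hn (x := x - G.H x v • u) (by rw [G.H_sub, G.H_smul, c.Huv, H_mul_e c.σe x c.ev, sub_self])
  rw [map_sub, X_smul hn.1, G.H_sub, G.H_smul] at h
  linear_combination (norm := module) h

theorem Ctx.ext (c : G.Ctx S v u e) (hn : n ∈ G.N S v) (hn' : n' ∈ G.N S v) (h : n.1 u = n'.1 u) : n = n' :=
  X_ext (hn.1.2.trans hn'.1.2.symm) fun x => by rw [c.form hn, c.form hn', h]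

theorem Ctx.norm (c : G.Ctx S v u e) (hy : y ∈ G.Y S) (hn : n ∈ G.N S v) : y * n * y⁻¹ ∈ G.N S v := by
  have hv := Y_fix hy c.hv
  refine ⟨EX_conj hy hn.1, by rw [mul_app, mul_app, inv_fix hv, hn.2.1, hv], fun x hx => ?_⟩
  obtain ⟨a, ha⟩ := hn.2.2 (y⁻¹.1 x) (by rw [← inv_fix hv, Y_H (inv_mem hy), hx, G.sg_zero])
  exact ⟨G.sg y.2 a, by rw [mul_app, mul_app, ha, map_add, app_inv, Y_smul hy, hv]⟩

theorem Ctx.constr [Finite V] (c : G.Ctx S v u e) {m : V} (hm : e • m = m) (hU : m ∈ G.U S) (ht : G.TS (u + m)) :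
    ∃ n ∈ G.N S v, n.1 u = u + m := by
  obtain ⟨n, hn, en⟩ := c.toPair.constr hm (mem_U.1 hU v c.hv) ht
  have h1 : ∀ s ∈ S, n.1 s = s := fun s hs => by
    rw [en, (c.hS s hs).1, G.H_comm0 (mem_U.1 hU s hs)]; simp
  refine ⟨n, ⟨⟨mem_Y.2 ⟨hn.1, h1⟩, hn.2⟩, h1 v c.hv, fun x hx => ⟨-G.H x m, by rw [en, hx]; module⟩⟩, ?_⟩
  rw [en, c.Huv, hm, mul_comm, mul_smul, c.ev]; abel

theorem Ctx.dec [Finite V] (c : G.Ctx S v u e) (hy : y ∈ G.Y S) :
    ∃ l ∈ G.Y (insert u S), ∃ n ∈ G.N S v, y = l * n := by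
  obtain ⟨n, hn, en⟩ := c.constr (c.em (inv_mem hy)) (c.mU (inv_mem hy))
    (by rw [add_sub_cancel]; exact c.tu.map (inv_mem hy))
  refine ⟨y * n, mem_ins.2 ⟨mul_mem hy hn.1.1, by rw [mul_app, en, add_sub_cancel, app_inv]⟩, n⁻¹, inv_mem hn, by group⟩

theorem Ctx.mul_u (c : G.Ctx S v u e) (hn : n ∈ G.N S v) (hn' : n' ∈ G.N S v) :
    (n * n').1 u = u + (n.1 u - u) + (n'.1 u - u) - G.H (n'.1 u - u) (n.1 u - u) • v := by
  have := c.form0 hn (c.mv hn'.1.1)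
  rw [map_sub] at this
  rw [mul_app]
  linear_combination (norm := module) this

theorem Ctx.Z_form (c : G.Ctx S v u e) (hn : n ∈ G.Z S v u) :
    ∃ a, G.σ a = a ∧ a * e = a ∧ ∀ x, n.1 x = x + (G.H x v * a) • v := by
  obtain ⟨a, ha⟩ := hn.2
  have h := (c.tu.map hn.1.1.1).H
  rw [ha, G.H_add, G.H_add', G.H_add', G.H_smul, G.H_smul, G.H_smul', G.H_smul', c.tu.H, c.tv.H, c.Huv, c.Hvu] at h
  refine ⟨a * e, by rw [map_mul, c.σe]; linear_combination h - a * e * G.twoA, by rw [mul_assoc, c.ee], fun x => ?_⟩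
  rw [c.form hn.1, ha, add_sub_cancel_left, G.H_smul', G.H_smul', c.Huv, ← mul_assoc, ← mul_assoc, mul_smul _ e,
    mul_smul _ e, c.ev]
  module

theorem Ctx.Z_comm (c : G.Ctx S v u e) (hn : n ∈ G.Z S v u) (hy : y ∈ G.Y S) : y * n = n * y := by
  obtain ⟨a, h1, -, ha⟩ := c.Z_form hn
  refine X_ext (mul_comm y.2 n.2) fun x => ?_
  have hv := Y_fix hy c.hv
  rw [mul_app, mul_app, ha, ha, map_add, Y_smul hy, hv, G.sg_mul, G.sg_fix h1, ← Y_H hy, hv]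

theorem Ctx.Z_sq (c : G.Ctx S v u e) (hn : n ∈ G.Z S v u) : n * n = 1 := by
  obtain ⟨a, ha⟩ := hn.2
  refine c.ext (mul_mem hn.1 hn.1) (one_mem _) ?_
  rw [mul_app, ha, map_add, X_smul hn.1.1, ha, hn.1.2.1, add_assoc, addV F, add_zero]; rfl

theorem Ctx.pgroup (c : G.Ctx S v u e) : IsPGroup 2 (G.N S v) := fun n => ⟨2, Subtype.ext (by
  have : n.1 * n.1 ∈ G.Z S v u := ⟨mul_mem n.2 n.2, -G.H (n.1.1 u - u) (n.1.1 u - u), by
    rw [c.mul_u n.2 n.2, add_assoc, addV F, add_zero, neg_smul, sub_eq_add_neg]⟩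
  have := c.Z_sq this
  simpa [pow_succ, mul_assoc] using this)⟩

theorem Ctx.exists_z (c : G.Ctx S v u e) (hn : n ∈ G.N S v) :
    ∃ z, e • z = z ∧ z ∈ G.U (insert u S) ∧ ∃ a : A, n.1 u = u + z + a • v := by
  have hm := c.em hn.1.1
  refine ⟨n.1 u - u - G.H (n.1 u - u) u • v, by rw [smul_sub, hm, smul_comm, c.ev], U_ins.2 ⟨sub_mem (c.mU hn.1.1)
    (Submodule.smul_mem _ _ (mem_U.2 fun s hs => G.H_comm0 (c.hS s hs).1)), ?_⟩, G.H (n.1 u - u) u, by abel⟩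
  rw [G.H_sub _ (_ • v), G.H_smul, c.Hvu, H_mul_e c.σe _ c.eu, sub_self]

theorem Ctx.lift [Finite V] (c : G.Ctx S v u e) {z : V} (hz : e • z = z) (hU : z ∈ G.U (insert u S)) {a : A}
    (ht : G.TS (u + z + a • v)) : ∃ n ∈ G.N S v, n.1 u = u + z + a • v := by
  rw [add_assoc] at ht ⊢
  exact c.constr (by rw [smul_add, hz, smul_comm, c.ev]) (add_mem (U_ins.1 hU).1
    (Submodule.smul_mem _ _ (mem_U.2 fun s hs => G.H_comm0 (c.hS s hs).1))) ht

theorem Pair.lift_pr (c : G.Pair v u e) (he : G.Pr e) {z : V} (hz : e • z = z) (hv : G.H z v = 0)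
    (hu : G.H z u = 0) : ∃ a : A, G.TS (u + z + a • v) := by
  obtain ⟨δ, hδ⟩ := he.delta
  refine ⟨-(δ * G.H z z), he.TS (by rw [smul_add, smul_add, hz, smul_comm, c.ev, c.eu]) ?_⟩
  simp only [G.H_add, G.H_add', G.H_smul, G.H_smul', c.tu.H, c.tv.H, c.Huv, c.Hvu, hv, hu, G.H_comm0 hv, G.H_comm0 hu,
    map_neg, map_mul, G.σH]
  have := H_mul_e c.σe z hz
  linear_combination -(G.H z z * e) * hδ - G.H z z * c.ee - this

theorem Ctx.hcomm [Finite V] (c : G.Ctx S v u e) (he : G.Pr e)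
    (nd : ∀ z, e • z = z → z ∈ G.U (insert u S) → z ≠ 0 → ∃ x, e • x = x ∧ x ∈ G.U (insert u S) ∧ G.H x z ≠ 0)
    (hn : n ∈ G.N S v) (hn' : n ∉ G.Z S v u) {k : (V ≃ₗ[F] V) × ℤˣ} (hk : k ∈ G.Z S v u) :
    ∃ n' ∈ G.N S v, n * n' = k * n' * n := by
  obtain ⟨z, hz, hU, a, ha⟩ := c.exists_z hn
  obtain ⟨x, hx, hxU, h0⟩ := nd z hz hU fun e0 => hn' ⟨hn, a, by rw [ha, e0, add_zero]⟩
  obtain ⟨a0, h1, h2, h3⟩ := c.Z_form hk
  obtain ⟨b, hb⟩ := he.surj (H_mul_e c.σe x hz) h0 h1 h2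
  have hx' : e • b • x = b • x := by rw [smul_comm, hx]
  have hxU' := (G.U _).smul_mem b hxU
  have hv : ∀ {x}, x ∈ G.U (insert u S) → G.H x v = 0 := fun h => mem_U.1 h v (Or.inr c.hv)
  obtain ⟨a', ht⟩ := c.toPair.lift_pr he hx' (hv hxU') (U_ins.1 hxU').2
  obtain ⟨n', hn', e'⟩ := c.lift hx' hxU' ht
  refine ⟨n', hn', c.ext (mul_mem hn hn') (mul_mem (mul_mem hk.1 hn') hn) ?_⟩
  have hvv : G.H ((n' * n).1 u) v = e := by rw [← c.Huv, ← X_H (mul_mem hn' hn).1 u v, (mul_mem hn' hn).2.1]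
  rw [mul_assoc, mul_app k, h3, hvv, mul_comm e, h2, c.mul_u hn hn', c.mul_u hn' hn, ha, e', ← hb, add_assoc u z,
    add_assoc u (b • x), add_sub_cancel_left, add_sub_cancel_left]
  simp only [G.H_add, G.H_add', G.H_smul, G.H_smul', c.tv.H, hv hU, hv hxU, G.H_comm0 (hv hU), G.H_comm0 (hv hxU),
    map_mul, G.σH]
  match_scalars <;> first | ring1 | linear_combination (-(b * G.H x z)) * G.twoA

theorem Ctx.exists_t [Finite V] (c : G.Ctx S v u e) (he : G.Pr e) (hS : ∀ s ∈ S, s = v ∨ G.H s u = 0) :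
    ∃ t : (V ≃ₗ[F] V) × ℤˣ, Odd (orderOf t) ∧ (∀ n ∈ G.N S v, t * n * t⁻¹ ∈ G.N S v) ∧
      (∀ z ∈ G.Z S v u, t * z = z * t) ∧ (∀ l ∈ G.Y (insert u S), l * t ^ ((sgn F V l : ℤˣ) : ℤ) * l⁻¹ = t) ∧
      ∀ n ∈ G.N S v, ∀ z ∈ G.Z S v u, t * n * t⁻¹ = z * n → n ∈ G.Z S v u := by
  obtain ⟨t, b, ht, hb, hte⟩ := he.data
  obtain ⟨g, hg, eg⟩ := c.toPair.exists_t ht
  have gv : g.1 v = t • v := by rw [eg, c.Hvu, c.tv.H, c.ev]; module
  have gu : g.1 u = t • u := by rw [eg, c.Huv, c.tu.H, c.eu]; module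
  have g0 : ∀ x, G.H x v = 0 → G.H x u = 0 → g.1 x = x := fun x h1 h2 => by rw [eg, h1, h2]; simp
  have gi : ∀ x, g.1 x = t • x → g⁻¹.1 x = G.σ t • x := fun x h => g.1.injective (by
    rw [app_inv, X_smul hg, h, smul_smul, ht.σ_mul, one_smul])
  have gp : ∀ (k : ℕ) x, (g ^ k).1 x = x + (t ^ k - 1) • (G.H x u • v + G.H x v • u) := fun k x => by
    induction k with
    | zero => simp
    | succ k ih =>
      rw [pow_succ', mul_app, ih, map_add, X_smul hg, map_add, X_smul hg, X_smul hg, gv, gu, eg x]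
      match_scalars <;> ring
  have gi' : ∀ x, g⁻¹.1 x = x + (G.σ t - 1) • (G.H x u • v + G.H x v • u) := fun x => g.1.injective (by
    rw [app_inv, map_add, X_smul hg, map_add, X_smul hg, X_smul hg, gv, gu, eg x]
    match_scalars
    · ring
    · linear_combination -G.H x u * ht.1
    · linear_combination -G.H x v * ht.1)
  have hN : ∀ n ∈ G.N S v, g * n * g⁻¹ ∈ G.N S v := fun n hn => by
    have h1 : (g * n * g⁻¹).1 v = v := by
      rw [mul_app, mul_app, gi v gv, X_smul hn.1, hn.2.1, X_smul hg, gv, smul_smul, ht.σ_mul, one_smul]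
    have h2 := EX_conj hg.1 (EX_mono (fun _ h => (mem_Y.1 h).1) hn.1)
    refine ⟨⟨mem_Y.2 ⟨h2.1, fun s hs => ?_⟩, h2.2⟩, h1, fun x hx => ?_⟩
    · rcases hS s hs with rfl | h
      · exact h1
      · rw [mul_app, mul_app, inv_fix (g0 s (c.hS s hs).1 h), Y_fix hn.1.1 hs, g0 s (c.hS s hs).1 h]
    · obtain ⟨a, ha⟩ := hn.2.2 (g⁻¹.1 x) (by
        rw [gi', hx, G.H_add, G.H_smul, G.H_add, G.H_smul, G.H_smul, c.tv.H, hx]; ring)
      exact ⟨a * t, by rw [mul_app, mul_app, ha, map_add, app_inv, X_smul hg, gv, mul_smul]⟩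
  have hu : ∀ n ∈ G.N S v, ∀ z ∈ G.U (insert u S), ∀ a : A, n.1 u = u + z + a • v →
      (g * n * g⁻¹).1 u = u + G.σ t • z + a • v := fun n hn z hz a ha => by
    rw [mul_app, mul_app, gi u gu, X_smul hn.1, ha, X_smul hg, map_add, map_add, X_smul hg, gu, gv,
      g0 z (mem_U.1 hz v (Or.inr c.hv)) (U_ins.1 hz).2]
    match_scalars
    · linear_combination ht.1
    · ring
    · linear_combination a * ht.1
  obtain ⟨o, ho, hto⟩ := ht.2.1
  refine ⟨g, Odd.of_dvd_nat ho (orderOf_dvd_of_pow_eq_one (X_ext ?_ fun x => ?_)), hN, fun z hz => ?_,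
    fun l hl => ?_, fun n hn k hk h => ?_⟩
  · rw [Prod.pow_snd, show g.2 = 1 from hg.2, one_pow]; rfl
  · rw [gp, hto]; simp
  · obtain ⟨a, ha⟩ := hz.2
    rw [← mul_inv_eq_iff_eq_mul]
    exact c.ext (hN z hz.1) hz.1 (by rw [hu z hz.1 0 (zero_mem _) a (by rw [ha, add_zero]), ha, smul_zero, add_zero])
  · have lu := Y_fix hl (Or.inl rfl)
    have lv := Y_fix hl (Or.inr c.hv)
    rw [mul_inv_eq_iff_eq_mul]
    rcases EX_or_EO (ε := sgn F V) hl with h | h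
    · rw [(mem_EX.1 h).2, Units.val_one, zpow_one]
      refine X_ext (mul_comm l.2 g.2) fun x => ?_
      rw [mul_app, mul_app, eg, eg, map_add, X_smul h, map_add, X_smul h, X_smul h, ← X_H h x u, ← X_H h x v, lu, lv]
    · rw [h.2, Units.val_neg, Units.val_one, zpow_neg_one]
      refine X_ext (by simp [show g.2 = 1 from hg.2]) fun x => ?_
      rw [mul_app, mul_app, eg, gi', map_add, O_smul h, map_add, O_smul h, O_smul h, ← O_H h x u, ← O_H h x v, lu, lv,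
        map_sub, G.σσ, map_one]
  · obtain ⟨z, hz, hU, a, ha⟩ := c.exists_z hn
    obtain ⟨a0, -, -, h3⟩ := c.Z_form hk
    have e1 := hu n hn z hU a ha
    rw [h, mul_app, h3, ha] at e1
    generalize G.H (u + z + a • v) v * a0 = d at e1
    have e2 : G.σ t • z = z + d • v := by linear_combination (norm := module) -e1
    have e3 := congrArg (G.H · u) e2
    simp only [G.H_add, G.H_smul, (U_ins.1 hU).2, c.Hvu, mul_zero, zero_add] at e3
    rw [← c.ev, smul_smul, ← e3, zero_smul, add_zero] at e2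
    have e4 : t • z = z := by conv_lhs => rw [← e2, smul_smul, ht.1, one_smul]
    have : z = 0 := by rw [← hz, ← hte, mul_comm, mul_smul, add_smul, e2, e4, addV F, smul_zero]
    exact ⟨hn, a, by rw [ha, this, add_zero]⟩

end Cfsg.Agent.H65.Geo
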