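import Cfsg.Agent.H65.FsG3
import Cfsg.Agent.H65.Wt

set_option autoImplicit false
set_option linter.unusedSectionVars false
set_option linter.unusedVariables false

/-! Weight spaces for the unipotent radical. -/

namespace Cfsg.Agent.H65
open Module QuadraticMap

theorem exists_weight {Γ W I : Type*} [Group Γ] [Finite Γ] [AddCommGroup W] [Module ℂ W] [Nontrivial W]
    {N : Subgroup Γ} {ρ : Γ → End ℂ W} (hρ : ∀ x ∈ N, ∀ y ∈ N, ρ (x * y) = ρ x * ρ y) [Fintype I] [Nonempty I]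
    (l : I → Γ → ℂ) (hl : ∀ i, ∀ x ∈ N, ∀ y ∈ N, l i (x * y) = l i x * l i y) (h1 : ∀ i, l i 1 = 1)
    (hs : ∀ n ∈ N, (ρ n = 1 ∧ ∀ i, l i n⁻¹ = 1) ∨ ∑ i, l i n⁻¹ = 0) :
    ∃ i, ∃ x, x ≠ 0 ∧ ∀ n ∈ N, ρ n x = l i n • x := by
  classical
  have := Fintype.ofFinite N
  obtain ⟨x, hx⟩ := exists_ne (0 : W)
  have : ∃ i, ∑ n : N, l i n⁻¹ • ρ n x ≠ 0 := by
    by_contra hn
    push Not at hn
    have h0 : ∑ i, ∑ n : N, l i n⁻¹ • ρ n x = 0 := Finset.sum_eq_zero fun i _ => hn i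
    choose m hm using fun n : N => show ∃ m : ℕ, ∑ i, l i n⁻¹ = m ∧ (m : ℂ) • ρ n x = (m : ℂ) • x by
      rcases hs n n.2 with h | h
      · exact ⟨Fintype.card I, by simp [h.2], by rw [h.1]; rfl⟩
      · exact ⟨0, by simp [h], by simp⟩
    rw [Finset.sum_comm] at h0
    simp only [← Finset.sum_smul, fun n => (hm n).1, fun n => (hm n).2] at h0
    have h2 := (smul_eq_zero.1 h0).resolve_right hx
    rw [← Nat.cast_sum, Nat.cast_eq_zero, Finset.sum_eq_zero_iff] at h2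
    have h3 := (hm 1).1
    rw [h2 1 (Finset.mem_univ _)] at h3
    simp [h1] at h3
  obtain ⟨i, hi⟩ := this
  refine ⟨i, _, hi, fun n hn => ?_⟩
  rw [map_sum, Finset.smul_sum]
  refine Fintype.sum_equiv (Equiv.mulLeft (⟨n, hn⟩ : N)) _ _ fun m => ?_
  have := hl i n hn ((n * m)⁻¹) (inv_mem (mul_mem hn m.2))
  have e : l i (m : Γ)⁻¹ = l i n * l i (n * m)⁻¹ := by
    rw [mul_comm, ← hl i _ (inv_mem (mul_mem hn m.2)) n hn]; congr 1; group
  simp only [Equiv.coe_mulLeft, Subgroup.coe_mul, map_smul, smul_smul, hρ n hn m m.2, Module.End.mul_apply, e]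

namespace Geo
universe u
variable {F A V : Type u} [Field F] [CharP F 2] [CommRing A] [Algebra F A] [AddCommGroup V] [Module F V] [Module A V]
  [IsScalarTower F A V] {G : Geo F A V} [Finite F] [Finite V] {S : Set V} {v u : V} {e : A}
  {W : Type} [AddCommGroup W] [Module ℂ W] [FiniteDimensional ℂ W] [Nontrivial W]
  {ρ : (V ≃ₗ[F] V) × ℤˣ → End ℂ W} {B : (V ≃ₗ[F] V) × ℤˣ → W →ₗ[ℂ] W →ₗ[ℂ] ℂ}

scoped instance finite_gam : Finite ((V ≃ₗ[F] V) × ℤˣ) :=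
  have : Finite (V ≃ₗ[F] V) := Finite.of_injective (fun g : V ≃ₗ[F] V => (g : V → V)) DFunLike.coe_injective
  inferInstance

/-- `l` fixes `z₀` as a functional on the vectors parametrising the unipotent radical -/
def Fx (G : Geo F A V) (S : Set V) (e : A) (z0 : V) (l : (V ≃ₗ[F] V) × ℤˣ) : Prop :=
  ∀ z, e • z = z → z ∈ G.U S → polar G.Q z (l.1 z0) = polar G.Q z z0

theorem Ctx.iso_wt (c : G.Ctx S v u e) (hB : EAlt (sgn F V) (G.Y S) ρ B) (hZ : ∀ z ∈ G.Z S v u, ρ z = 1)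
    (I : Submodule F V) (hI : ∀ z ∈ I, G.H z v = 0 ∧ G.H z u = 0)
    (hnd : ∀ z, e • z = z → z ∈ G.U (insert u S) → z ≠ 0 → ∃ x ∈ I, polar G.Q z x ≠ 0)
    (hlift : ∀ z, e • z = z → z ∈ G.U (insert u S) → ∃ a : A, G.TS (u + z + a • v))
    (hfin : ∀ z0 ∈ I, ∃ M ≤ G.Y (insert u S), PP (sgn F V) M ∧ (∀ l ∈ M, G.Fx (insert u S) e z0 l) ∧
      ∀ l ∈ G.Y (insert u S), G.Fx (insert u S) e z0 l →
        ∃ m ∈ M, ∃ r ∈ EX (sgn F V) (G.Y S), (∃ c : ℂ, ρ r = c • 1) ∧ l = m * r) : Iso (sgn F V) (G.Y S) B := by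
  classical
  obtain ⟨ψ, hψ⟩ := exists_addChar (F := F) (K := ℂ) (by rw [ringChar.eq F 2]; norm_num)
  have hL : G.Y (insert u S) ≤ G.Y S := fun l hl => (mem_ins.1 hl).1
  have hz : ∀ {n : (V ≃ₗ[F] V) × ℤˣ} {z x : V} {a : A}, n.1 u = u + z + a • v → G.H x v = 0 → G.H x u = 0 →
      polar G.Q (n.1 u) x = polar G.Q z x := fun h h1 h2 => by
    rw [h, ← G.τH, ← G.τH, G.H_add, G.H_add, G.H_smul, G.H_comm0 h1, G.H_comm0 h2, mul_zero, zero_add, add_zero]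
  have hadd : ∀ x, G.H x v = 0 → G.H x u = 0 → ∀ n ∈ G.N S v, ∀ n' ∈ G.N S v,
      polar G.Q ((n * n').1 u) x = polar G.Q (n.1 u) x + polar G.Q (n'.1 u) x := fun x h1 h2 n hn n' hn' => by
    rw [c.mul_u hn hn', ← G.τH, ← G.τH, ← G.τH, G.H_sub _ (_ • v), G.H_smul, G.H_add, G.H_add, G.H_sub, G.H_sub,
      G.H_comm0 h1, G.H_comm0 h2, ← map_add]
    congr 1; ring
  have hinv : ∀ x, G.H x v = 0 → G.H x u = 0 → ∀ n ∈ G.N S v,
      polar G.Q (n⁻¹.1 u) x = polar G.Q (n.1 u) x := fun x h1 h2 n hn => by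
    have := hadd x h1 h2 n hn n⁻¹ (inv_mem hn)
    rw [mul_inv_cancel, show polar G.Q ((1 : (V ≃ₗ[F] V) × ℤˣ).1 u) x = 0 from G.h_of_H (G.H_comm0 h2)] at this
    linear_combination -this - polar G.Q (n.1 u) x * twoF F
  have hconj : ∀ l ∈ G.Y (insert u S), ∀ (n : (V ≃ₗ[F] V) × ℤˣ) x,
      polar G.Q ((l⁻¹ * n * l).1 u) x = polar G.Q (n.1 u) (l.1 x) := fun l hl n x => by
    rw [← Y_h hl, mul_app, mul_app, app_inv, Y_fix hl (Or.inl rfl)]
  have hmap : ∀ l ∈ G.Y (insert u S), ∀ x, G.H x v = 0 ∧ G.H x u = 0 → G.H (l.1 x) v = 0 ∧ G.H (l.1 x) u = 0 :=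
    fun l hl x h => ⟨by rw [← Y_fix hl (Or.inr c.hv), Y_H hl, h.1, G.sg_zero],
      by rw [← Y_fix hl (Or.inl rfl), Y_H hl, h.2, G.sg_zero]⟩
  have := Fintype.ofFinite I
  obtain ⟨⟨z0, hz0⟩, x0, hx0, ex0⟩ := exists_weight (N := G.N S v) (I := I)
    (fun x hx y hy => hB.mul x hx.1 y hy.1) (fun z n => ψ (polar G.Q (n.1 u) z))
    (fun i x hx y hy => by rw [hadd _ (hI _ i.2).1 (hI _ i.2).2 x hx y hy, AddChar.map_add_eq_mul])
    (fun i => by rw [show polar G.Q ((1 : (V ≃ₗ[F] V) × ℤˣ).1 u) i = 0 from G.h_of_H (G.H_comm0 (hI _ i.2).2),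
      AddChar.map_zero_eq_one]) (fun n hn => by
      obtain ⟨z, h1, h2, a, ha⟩ := c.exists_z (inv_mem hn)
      simp only [fun i : I => hz ha (hI _ i.2).1 (hI _ i.2).2]
      by_cases h0 : z = 0
      · exact Or.inl ⟨hZ n (by simpa using (G.Z S v u).inv_mem ⟨inv_mem hn, a, by rw [ha, h0, add_zero]⟩),
          fun i => by rw [h0, polar_zero_left, AddChar.map_zero_eq_one]⟩
      · obtain ⟨x, hx, h3⟩ := hnd z h1 h2 h0
        refine Or.inr ((AddChar.sum_eq_zero_iff_ne_zero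
          (ψ := ψ.compAddMonoidHom (polarBilin G.Q z ∘ₗ I.subtype).toAddMonoidHom)).2 fun h4 => hψ ?_)
        ext t
        have := DFunLike.congr_fun h4 ((t / polar G.Q z x) • ⟨x, hx⟩)
        simpa [div_mul_cancel₀ _ h3] using this)
  obtain ⟨M, hM, hP, h1, h2⟩ := hfin z0 hz0
  let W' : Submodule ℂ W := ⨅ n ∈ G.N S v, (ρ n).eigenspace (ψ (polar G.Q (n.1 u) z0))
  have mW : ∀ x, x ∈ W' ↔ ∀ n ∈ G.N S v, ρ n x = ψ (polar G.Q (n.1 u) z0) • x := fun x => by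
    simp [W']
  obtain ⟨x, hx, hx', ex⟩ := hP.sub hB (hM.trans hL) (U := W') (fun h => hx0 (by
      rw [← Submodule.mem_bot ℂ, ← h, mW]; exact ex0)) fun l hl x hx => (mW _).2 fun n hn => by
    have hl' := EX_mono (hM.trans hL) hl
    have hn' : l⁻¹ * n * l ∈ G.N S v := by simpa using c.norm (inv_mem hl'.1) hn
    obtain ⟨z, e1, e2, a, ha⟩ := c.exists_z hn
    have e3 := hmap l (hM hl.1) z0 (hI z0 hz0)
    rw [← hB.mul_apply hn.1 hl', show n * l = l * (l⁻¹ * n * l) by group, hB.mul_apply hl' hn'.1, (mW x).1 hx _ hn',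
      map_smul, hconj l (hM hl.1), hz ha e3.1 e3.2, h1 l hl.1 z e1 e2, hz ha (hI z0 hz0).1 (hI z0 hz0).2]
  refine ⟨x, hx', fun y hy => ?_⟩
  obtain ⟨l, hl, n, hn, rfl⟩ := c.dec hy.1
  have hl' : l ∈ EO (sgn F V) (G.Y S) := by simpa using EO_mul_EX hy (inv_mem hn.1)
  rw [hB.cov l hl' n hn.1, (mW x).1 hx n hn, map_smul, LinearMap.smul_apply]
  refine smul_eq_zero_of_right _ (by_contra fun h0 => ?_)
  have e3 := hmap l hl z0 (hI z0 hz0)
  obtain ⟨m, hm, r, hr, ⟨k, hk⟩, rfl⟩ := h2 l hl fun z e1 e2 => eq_of_char hψ fun t => by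
    obtain ⟨a, ha⟩ := hlift (t • z) (by rw [smul_comm, e1]) (U_fsmul t e2)
    obtain ⟨n, hn, en⟩ := c.lift (by rw [smul_comm, e1]) (U_fsmul t e2) ha
    have hn' : l⁻¹ * n⁻¹ * l ∈ G.N S v := by simpa using c.norm (inv_mem hl'.1) (inv_mem hn)
    have := hB.move hl' hn'.1 x x
    rw [show l * (l⁻¹ * n⁻¹ * l)⁻¹ * l⁻¹ = n by group, (mW x).1 hx _ hn', (mW x).1 hx _ hn, hconj l hl,
      hinv _ e3.1 e3.2 n hn, hz en e3.1 e3.2, hz en (hI z0 hz0).1 (hI z0 hz0).2, map_smul, map_smul,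
      LinearMap.smul_apply, polar_smul_left, polar_smul_left] at this
    exact mul_right_cancel₀ h0 this
  have hm' : m ∈ EO (sgn F V) M := ⟨hm, by simpa using (EO_mul_EX hl' (inv_mem hr)).2⟩
  rw [hB.cov m (EO_mono (hM.trans hL) hm') r hr, hk] at h0
  simp [ex m hm'] at h0

end Geo
end Cfsg.Agent.H65
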