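import Cfsg.Agent.H65.FsW1

set_option autoImplicit false
set_option linter.unusedSectionVars false
set_option linter.unusedVariables false

/-! The Weil step. -/

namespace Cfsg.Agent.H65
open Module LinearMap

theorem weil_core {Γ : Type*} [Group Γ] [Finite Γ] {ε : Γ →* ℤˣ} {N L Z : Subgroup Γ} {t : Γ}
    (hZ : Z ≤ N) (hnorm : ∀ y ∈ L, ∀ n ∈ N, y * n * y⁻¹ ∈ N) (h2 : IsPGroup 2 N)
    (hZN : ∀ z ∈ Z, ∀ y ∈ N, y * z = z * y) (hZL : ∀ z ∈ Z, ∀ y ∈ L, y * z = z * y) (hZ2 : ∀ z ∈ Z, z * z = 1)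
    (hcomm : ∀ n ∈ N, n ∉ Z → ∀ k ∈ Z, ∃ n' ∈ N, n * n' = k * n' * n)
    (hto : Odd (orderOf t)) (htN : ∀ n ∈ N, t * n * t⁻¹ ∈ N) (htZ : ∀ z ∈ Z, t * z = z * t)
    (htL : ∀ l ∈ L, l * t ^ ((ε l : ℤˣ) : ℤ) * l⁻¹ = t)
    (hfpf : ∀ n ∈ N, ∀ z ∈ Z, t * n * t⁻¹ = z * n → n ∈ Z)
    {E : Type} [AddCommGroup E] [Module ℂ E] [FiniteDimensional ℂ E] [Nontrivial E] {θ : Γ → End ℂ E}
    (h1 : θ 1 = 1) (hθ : ∀ x ∈ N, ∀ y ∈ N, θ (x * y) = θ x * θ y) (hi : Irr N θ)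
    (hsc : ∀ z ∈ Z, ∃ c : ℂ, θ z = c • 1) (hk : ∃ k ∈ Z, θ k ≠ 1) :
    ∃ (T : Γ → End ℂ E) (S : Γ → E →ₗ[ℂ] E →ₗ[ℂ] ℂ), T 1 = 1 ∧
      (∀ x ∈ EX ε L, ∀ x' ∈ EX ε L, T (x * x') = T x * T x') ∧
      (∀ x ∈ EX ε L, ∀ q ∈ N, T x * θ q = θ (x * q * x⁻¹) * T x) ∧ (∀ y ∈ EO ε L, ∃ a b, S y a b = 1) ∧
      (∀ y ∈ EO ε L, ∀ x ∈ EX ε L, ∀ a b, S (y * x) a b = S y (T x a) b) ∧ (∀ y ∈ EO ε L, ∀ a b, S y⁻¹ b a = S y a b) ∧
      ∀ y ∈ EO ε L, ∀ F : E →ₗ[ℂ] E →ₗ[ℂ] ℂ, (∀ q ∈ N, ∀ a b, F (θ q a) b = F a (θ (y * q⁻¹ * y⁻¹) b)) →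
        ∃ c : ℂ, ∀ a b, F a b = c * S y a b := by
  classical
  have := Fintype.ofFinite N
  have hd0 : (finrank ℂ E : ℂ) ≠ 0 := Nat.cast_ne_zero.2 finrank_pos.ne'
  have hinv : ∀ q ∈ N, θ q * θ q⁻¹ = 1 := fun q hq => by rw [← hθ q hq _ (inv_mem hq), mul_inv_cancel, h1]
  have hinv' : ∀ q ∈ N, θ q⁻¹ * θ q = 1 := fun q hq => by rw [← hθ _ (inv_mem hq) q hq, inv_mul_cancel, h1]
  have hsc' : ∀ z ∈ Z, ∃ c : ℂ, c * c = 1 ∧ θ z = c • 1 := fun z hz => by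
    obtain ⟨c, hc⟩ := hsc z hz
    have := hθ z (hZ hz) z (hZ hz)
    rw [hZ2 z hz, h1, hc, smul_mul_assoc, one_mul, smul_smul] at this
    exact ⟨c, smul_left_injective ℂ (one_ne_zero (α := End ℂ E)) (by simpa using this.symm), hc⟩
  have h0 : ∀ q ∈ N, q ∉ Z → trace ℂ _ (θ q) = 0 := fun q hq hq' => by
    obtain ⟨k, hk, hk1⟩ := hk
    obtain ⟨c, hc⟩ := hsc k hk
    obtain ⟨n, hn, e⟩ := hcomm q hq hq' k hk
    have e1 : θ q = c • (θ n * θ q * θ n⁻¹) := by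
      rw [← smul_mul_assoc, ← smul_mul_assoc, ← one_mul (θ n), ← smul_mul_assoc, ← hc, ← hθ k (hZ hk) n hn,
        ← hθ _ (mul_mem (hZ hk) hn) q hq, ← e, hθ q hq n hn, mul_assoc, hinv n hn, mul_one]
    have := congrArg (trace ℂ _) e1
    rw [map_smul, trace_mul_comm, ← mul_assoc, hinv' n hn, one_mul, smul_eq_mul] at this
    exact (mul_left_eq_self₀.1 this.symm).resolve_left fun h => hk1 (by rw [hc, h, one_smul])
  have hsum : ∀ α : Γ → Γ, (∀ z ∈ Z, α z = z) → ∑ q : N, trace ℂ _ (θ (α q)) * trace ℂ _ (θ (q : Γ)⁻¹) =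
      (((Finset.univ.filter fun q : N => (q : Γ) ∈ Z).card * finrank ℂ E ^ 2 : ℕ) : ℂ) := fun α hα => by
    rw [← Finset.sum_filter_add_sum_filter_not _ fun q : N => (q : Γ) ∈ Z, Finset.sum_eq_zero (s := Finset.filter (fun q : N => (q : Γ) ∉ Z) _)
      fun q hq => by rw [h0 _ (inv_mem q.2) (by simpa using hq), mul_zero], add_zero, Finset.sum_congr rfl
      (g := fun _ => (finrank ℂ E : ℂ) ^ 2) fun q hq => ?_]
    · simp
    · have hq : (q : Γ) ∈ Z := by simpa using hq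
      obtain ⟨c, h1, h2⟩ := hsc' _ hq
      rw [hα _ hq, inv_eq_of_mul_eq_one_right (hZ2 _ hq), h2, map_smul, trace_one, smul_eq_mul]
      linear_combination (finrank ℂ E : ℂ) ^ 2 * h1
  have hne : (((Finset.univ.filter fun q : N => (q : Γ) ∈ Z).card * finrank ℂ E ^ 2 : ℕ) : ℂ) ≠ 0 :=
    Nat.cast_ne_zero.2 (mul_ne_zero (Finset.card_ne_zero.2 ⟨1, by simp⟩) (pow_ne_zero _ finrank_pos.ne'))
  obtain ⟨k, hd⟩ : ∃ k, finrank ℂ E ∣ 2 ^ k := by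
    obtain ⟨k, hk⟩ := IsPGroup.iff_card.1 h2
    have := sum_trace_irr h1 hθ hi (A := 1) (A' := 1) (one_mul _)
    simp only [one_mul, mul_one] at this
    rw [hsum (fun x => x) fun _ _ => rfl, Nat.cast_inj, ← Nat.card_eq_fintype_card, hk] at this
    exact ⟨k, this ▸ (dvd_pow_self _ two_ne_zero).mul_left _⟩
  have hcj : ∀ g : Γ, (∀ n ∈ N, g * n * g⁻¹ ∈ N) → ∀ x ∈ N, ∀ y ∈ N,
      θ (g * (x * y) * g⁻¹) = θ (g * x * g⁻¹) * θ (g * y * g⁻¹) := fun g hg x hx y hy => by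
    rw [← hθ _ (hg x hx) _ (hg y hy)]; congr 1; group
  have hex : ∀ g : Γ, (∀ n ∈ N, g * n * g⁻¹ ∈ N) → (∀ z ∈ Z, g * z = z * g) →
      ∃ R : End ℂ E, IsUnit R ∧ ∀ q ∈ N, R * θ q = θ (g * q * g⁻¹) * R := fun g hg hz =>
    exists_itw_irr (ρ := fun q => θ (g * q * g⁻¹)) hθ (hcj g hg) hi (by
      rw [hsum (fun q => g * q * g⁻¹) fun z h => by rw [hz z h, mul_inv_cancel_right]]; exact hne)
  obtain ⟨τ, hτo, hτ⟩ : ∃ τ : End ℂ E, τ ^ orderOf t = 1 ∧ ∀ q ∈ N, τ * θ q = θ (t * q * t⁻¹) * τ := by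
    obtain ⟨R, hR, e⟩ := hex t htN htZ
    have hp : ∀ n : ℕ, ∀ q ∈ N, t ^ n * q * (t ^ n)⁻¹ ∈ N ∧ R ^ n * θ q = θ (t ^ n * q * (t ^ n)⁻¹) * R ^ n :=
      fun n q hq => by
      induction n with
      | zero => simpa using hq
      | succ n ih =>
        have : t ^ (n + 1) * q * (t ^ (n + 1))⁻¹ = t * (t ^ n * q * (t ^ n)⁻¹) * t⁻¹ := by group
        rw [this]
        exact ⟨htN _ ih.1, by rw [pow_succ', mul_assoc, ih.2, ← mul_assoc, e _ ih.1, mul_assoc]⟩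
    obtain ⟨c, hc⟩ := hi.schur (f := R ^ orderOf t) fun q hq => by simpa using (hp (orderOf t) q hq).2
    have hc0 : c ≠ 0 := fun h => (hR.pow (orderOf t)).ne_zero (by rw [hc, h, zero_smul])
    obtain ⟨s, hs⟩ := IsAlgClosed.exists_pow_nat_eq c⁻¹ hto.pos
    exact ⟨s • R, by rw [smul_pow, hs, hc, inv_smul_smul₀ hc0], fun q hq => by
      rw [smul_mul_assoc, e q hq, mul_smul_comm]⟩
  obtain ⟨τ', hτ', hτ''⟩ := isUnit_iff_exists.1 (IsUnit.of_pow_eq_one hτo hto.pos.ne')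
  have htr : trace ℂ _ τ * trace ℂ _ τ' = 1 := by
    have := sum_trace_irr h1 hθ hi hτ'
    rw [Finset.sum_congr rfl (g := fun _ => trace ℂ _ τ * trace ℂ _ τ') fun q _ => ?_] at this
    · simpa using this
    obtain ⟨n, hn, z, hz, e⟩ := surj_mod hZ hZN htN htZ hfpf q.2
    obtain ⟨c, c1, c2⟩ := hsc' z hz
    have e1 : θ q * τ = c • (θ n⁻¹ * τ * θ n) := by
      rw [e, hθ _ (mul_mem (inv_mem hn) (htN n hn)) z (hZ hz), hθ _ (inv_mem hn) _ (htN n hn), c2, mul_assoc _ τ,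
        hτ n hn]
      simp [mul_assoc]
    have e2 : τ' * θ (q : Γ)⁻¹ = c • (θ n⁻¹ * τ' * θ n) := by
      refine left_inv_eq_right_inv (a := θ q * τ) ?_ ?_
      · rw [mul_assoc, ← mul_assoc (θ _), hinv' _ q.2, one_mul, hτ'']
      · rw [e1, smul_mul_smul_comm, c1, one_smul, mul_assoc, mul_assoc, mul_assoc, ← mul_assoc (θ n), hinv n hn, one_mul,
          ← mul_assoc τ, hτ', one_mul, hinv' n hn]
    rw [trace_mul_comm, e1, trace_mul_comm ℂ (θ _) τ', e2, map_smul, map_smul, trace_mul_comm, ← mul_assoc, hinv n hn,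
      trace_mul_comm ℂ _ (θ n), ← mul_assoc, hinv n hn, one_mul, one_mul, smul_eq_mul, smul_eq_mul]
    linear_combination trace ℂ _ τ * trace ℂ _ τ' * c1
  obtain ⟨tp, J, nn, Js, Jsurj, Jnd, Jtp, tpτ, tptr, nmul, n1, nsm, ntp⟩ := exists_nn hto.pos hτo hτ' htr hd
  have Jext : ∀ f g : End ℂ E, (∀ a b, J a (f b) = J a (g b)) → f = g := fun f g h => LinearMap.ext fun b =>
    sub_eq_zero.1 (Jnd _ fun a => by rw [Js, map_sub, h, sub_self])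
  have tpm : ∀ f g, tp (f * g) = tp g * tp f := fun f g => Jext _ _ fun a b => by
    rw [← Jtp, Module.End.mul_apply, Module.End.mul_apply, Jtp, Jtp]
  have tptp : ∀ f, tp (tp f) = f := fun f => Jext _ _ fun a b => by rw [← Jtp, Js, ← Jtp, Js]
  have tp1 : tp 1 = 1 := Jext _ _ fun a b => by rw [← Jtp]; rfl
  let tw : Γ → Γ → End ℂ E := fun g q => if ε g = 1 then θ (g * q * g⁻¹) else tp (θ (g * q⁻¹ * g⁻¹))
  have twX : ∀ g ∈ EX ε L, ∀ q, tw g q = θ (g * q * g⁻¹) := fun g hg q => if_pos hg.2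
  have twO : ∀ g ∈ EO ε L, ∀ q, tw g q = tp (θ (g * q⁻¹ * g⁻¹)) := fun g hg q => if_neg (by rw [hg.2]; decide)
  have hcm : ∀ g ∈ L, ∀ R, IsUnit R → (∀ q ∈ N, R * θ q = tw g q * R) → Commute R τ := fun g hg R hR h => by
    have hu : IsUnit τ := IsUnit.of_pow_eq_one hτo hto.pos.ne'
    obtain ⟨c, hc⟩ := hi.uniq (ρ := fun q => tw g (t * q * t⁻¹)) (R' := τ * R) (hR.mul hu)
      (fun q hq => by rw [mul_assoc, hτ q hq, ← mul_assoc, h _ (htN q hq), mul_assoc]) fun q hq => by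
      have ht := htL g hg
      rw [mul_assoc, h q hq, ← mul_assoc, ← mul_assoc]
      congr 1
      rcases EX_or_EO (ε := ε) hg with hg' | hg'
      · rw [(mem_EX.1 hg').2, Units.val_one, zpow_one, mul_inv_eq_iff_eq_mul] at ht
        rw [twX g hg', twX g hg', hτ _ (hnorm g hg q hq)]
        congr 2
        calc _ = (t * g) * q * (t * g)⁻¹ := by group
          _ = _ := by rw [← ht]; group
      · rw [hg'.2, Units.val_neg, Units.val_one, zpow_neg_one, mul_inv_eq_iff_eq_mul] at ht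
        rw [twO g hg', twO g hg', ← tpτ, ← tpm, ← tpm, hτ _ (hnorm g hg _ (inv_mem (htN q hq)))]
        congr 3
        calc _ = (g * t⁻¹) * (t * q * t⁻¹)⁻¹ * (g * t⁻¹)⁻¹ := by group
          _ = _ := by rw [ht]; group
    exact comm_of_smul hto hτo hR hd hc
  have hnn : ∀ R, IsUnit R → Commute R τ → nn R ≠ 0 := fun R hR hc => by
    obtain ⟨R, rfl⟩ := hR
    exact left_ne_zero_of_mul_eq_one ((nmul _ _ hc hc.units_inv_left).symm.trans (by rw [Units.mul_inv, n1]))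
  have hR : ∀ g, ∃ R : End ℂ E, g ∈ L → IsUnit R ∧ (∀ q ∈ N, R * θ q = tw g q * R) ∧ nn R = 1 := fun g => by
    by_cases hg : g ∈ L
    swap
    · exact ⟨1, fun h => absurd h hg⟩
    obtain ⟨R, hR, e⟩ : ∃ R : End ℂ E, IsUnit R ∧ ∀ q ∈ N, R * θ q = tw g q * R := by
      rcases EX_or_EO (ε := ε) hg with hg' | hg'
      · simpa only [twX g hg'] using hex g (hnorm g hg) fun z hz => hZL z hz g hg
      · refine exists_itw_irr hθ (fun x hx y hy => ?_) hi ?_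
        · rw [twO g hg', twO g hg', twO g hg', ← tpm, mul_inv_rev, hcj g (hnorm g hg) _ (inv_mem hy) _ (inv_mem hx)]
        · simp only [twO g hg', tptr]
          rw [hsum (fun q => g * q⁻¹ * g⁻¹) fun z h => by
            rw [inv_eq_of_mul_eq_one_right (hZ2 z h), hZL z h g hg, mul_inv_cancel_right]]
          exact hne
    have hc := hcm g hg R hR e
    have h0 := hnn R hR hc
    exact ⟨(nn R)⁻¹ • R, fun _ => ⟨hR.smul (Units.mk0 _ (inv_ne_zero h0)), fun q hq => by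
      rw [smul_mul_assoc, e q hq, mul_smul_comm], by rw [nsm _ _ (inv_ne_zero h0) hc, inv_mul_cancel₀ h0]⟩⟩
  choose R hR using hR
  have hRc : ∀ g ∈ L, Commute (R g) τ := fun g hg => hcm g hg _ (hR g hg).1 (hR g hg).2.1
  have huq : ∀ g ∈ L, ∀ R', IsUnit R' → (∀ q ∈ N, R' * θ q = tw g q * R') → nn R' = 1 → R g = R' :=
    fun g hg R' u h n => by
    obtain ⟨c, hc⟩ := hi.uniq (hR g hg).1 (hR g hg).2.1 h
    have hc0 : c ≠ 0 := fun e => u.ne_zero (by rw [hc, e, zero_smul])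
    rw [hc, nsm _ _ hc0 (hRc g hg), (hR g hg).2.2, mul_one] at n
    rw [hc, n, one_smul]
  have hmul : ∀ g ∈ L, ∀ x ∈ EX ε L, R (g * x) = R g * R x := fun g hg x hx =>
    huq _ (mul_mem hg hx.1) _ ((hR g hg).1.mul (hR x hx.1).1) (fun q hq => by
      rw [mul_assoc, (hR x hx.1).2.1 q hq, twX x hx, ← mul_assoc, (hR g hg).2.1 _ (hnorm x hx.1 q hq), mul_assoc]
      congr 1
      rcases EX_or_EO (ε := ε) hg with hg' | hg'
      · rw [twX g hg', twX _ (mul_mem hg' hx)]; congr 1; group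
      · rw [twO g hg', twO _ (EO_mul_EX hg' hx)]; congr 2; group)
      (by rw [nmul _ _ (hRc g hg) (hRc x hx.1), (hR g hg).2.2, (hR x hx.1).2.2, one_mul])
  refine ⟨R, fun y => J ∘ₗ R y, huq 1 (one_mem _) 1 isUnit_one (fun q hq => by rw [twX 1 (one_mem _)]; simp) n1,
    fun x hx => hmul x hx.1, fun x hx q hq => by rw [(hR x hx.1).2.1 q hq, twX x hx], fun y hy => ?_,
    fun y hy x hx a b => by beta_reduce; rw [hmul y hy.1 x hx]; rfl, fun y hy a b => ?_, fun y hy F hF => ?_⟩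
  · obtain ⟨a, ha⟩ := exists_ne (0 : E)
    obtain ⟨b, hb⟩ : ∃ b, J a b ≠ 0 := by_contra fun h => ha (Jnd a (by simpa using h))
    obtain ⟨a', rfl⟩ := ((Module.End.isUnit_iff _).1 (hR y hy.1).1).2 a
    exact ⟨a', (J (R y a') b)⁻¹ • b, by simp [hb]⟩
  · obtain ⟨R', e1, e2⟩ := isUnit_iff_exists.1 (hR y hy.1).1
    beta_reduce
    rw [huq _ (inv_mem hy.1) (tp (R y)) (isUnit_iff_exists.2 ⟨tp R', by rw [← tpm, e2, tp1], by rw [← tpm, e1, tp1]⟩)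
      (fun q hq => ?_) (by rw [ntp _ (hRc y hy.1), (hR y hy.1).2.2])]
    · exact (Js _ _).trans (Jtp _ _ _).symm
    · rw [twO _ (EO_inv hy), ← tpm, (hR y hy.1).2.1 _ (hnorm _ (inv_mem hy.1) _ (inv_mem hq)), tpm, twO y hy, tptp]
      congr 2; group
  · obtain ⟨A, hA⟩ := Jsurj F
    obtain ⟨c, hc⟩ := hi.uniq (R' := A) (hR y hy.1).1 (hR y hy.1).2.1 fun q hq => Jext _ _ fun a b => by
      rw [twO y hy, Module.End.mul_apply, Module.End.mul_apply, ← Jtp, Js, ← hA, hF q hq, hA, Js]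
    exact ⟨c, fun a b => by rw [hA, hc]; simp⟩

theorem Iso.of_weil {Γ : Type*} [Group Γ] [Finite Γ] {ε : Γ →* ℤˣ} {Y N L Z : Subgroup Γ} {t : Γ}
    (hN : N ≤ EX ε Y) (hL : L ≤ Y) (hZ : Z ≤ N) (hnorm : ∀ y ∈ Y, ∀ n ∈ N, y * n * y⁻¹ ∈ N)
    (hdec : ∀ y ∈ Y, ∃ l ∈ L, ∃ n ∈ N, y = l * n) (h2 : IsPGroup 2 N)
    (hZc : ∀ z ∈ Z, ∀ y ∈ Y, y * z = z * y) (hZ2 : ∀ z ∈ Z, z * z = 1)
    (hcomm : ∀ n ∈ N, n ∉ Z → ∀ k ∈ Z, ∃ n' ∈ N, n * n' = k * n' * n)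
    (hto : Odd (orderOf t)) (htN : ∀ n ∈ N, t * n * t⁻¹ ∈ N) (htZ : ∀ z ∈ Z, t * z = z * t)
    (htL : ∀ l ∈ L, l * t ^ ((ε l : ℤˣ) : ℤ) * l⁻¹ = t)
    (hfpf : ∀ n ∈ N, ∀ z ∈ Z, t * n * t⁻¹ = z * n → n ∈ Z) (hP : PP ε L)
    {W : Type} [AddCommGroup W] [Module ℂ W] [FiniteDimensional ℂ W] [Nontrivial W] {ρ : Γ → End ℂ W}
    {B : Γ → W →ₗ[ℂ] W →ₗ[ℂ] ℂ} (hB : EAlt ε Y ρ B) (hsc : ∀ z ∈ Z, ∃ c : ℂ, ρ z = c • 1)
    (hk : ∃ k ∈ Z, ρ k ≠ 1) : Iso ε Y B := by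
  classical
  obtain ⟨U, h0, hU, hi⟩ := exists_irr N ρ
  have : Nontrivial U := Submodule.nontrivial_iff_ne_bot.2 h0
  have hsc' : ∀ z ∈ Z, ∀ c : ℂ, ρ z = c • 1 → rsub ρ U z = c • 1 := fun z hz c hc => by
    ext v; rw [coe_rsub (hU z (hZ hz)), hc]; rfl
  obtain ⟨T, S, T1, Tm, Tθ, S1, Sc, Ss, Su⟩ := weil_core hZ (fun y hy => hnorm y (hL hy)) h2
    (fun z hz y hy => hZc z hz y (hN hy).1) (fun z hz y hy => hZc z hz y (hL hy)) hZ2 hcomm hto htN htZ htL hfpf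
    (rsub_one hB.one) (rsub_mul hU fun x hx y hy => hB.mul x (hN hx) y (hN hy)) hi
    (fun z hz => (hsc z hz).imp (hsc' z hz)) (by
      obtain ⟨k, hk, h⟩ := hk
      obtain ⟨c, hc⟩ := hsc k hk
      refine ⟨k, hk, fun e => h ?_⟩
      rw [hsc' k hk c hc] at e
      rw [hc, smul_left_injective ℂ (one_ne_zero (α := End ℂ U)) (e.trans (one_smul _ _).symm), one_smul])
  generalize hθ : rsub ρ U = θ at *
  let M : Submodule ℂ (U →ₗ[ℂ] W) := ⨅ q ∈ N, ker (lr 1 (θ q) - lr (ρ q) 1)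
  have mM : ∀ φ, φ ∈ M ↔ ∀ q ∈ N, ∀ a, φ (θ q a) = ρ q (φ a) := fun φ => by
    simp [M, sub_eq_zero, lr_apply, LinearMap.ext_iff, -Subtype.forall]
  have : Nontrivial M := Submodule.nontrivial_iff_ne_bot.2 ((Submodule.ne_bot_iff _).2
    ⟨U.subtype, (mM _).2 fun q hq a => by rw [← hθ]; exact coe_rsub (hU q hq) a, fun e => h0 (by
      rw [← U.range_subtype, e, range_zero])⟩)
  have Ti : ∀ x ∈ EX ε L, ∀ a, T x⁻¹ (T x a) = a := fun x hx a => by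
    rw [← Module.End.mul_apply, ← Tm _ (inv_mem hx) x hx, inv_mul_cancel, T1]; rfl
  have hM : Inv (EX ε L) (fun x => lr (ρ x) (T x⁻¹)) M := fun x hx φ hφ => (mM _).2 fun q hq a => by
    have hq' := hnorm _ (hL (inv_mem hx.1)) q hq
    simp only [lr_apply, comp_apply]
    rw [← Module.End.mul_apply (T _), Tθ _ (inv_mem hx) q hq, Module.End.mul_apply, (mM φ).1 hφ _ hq',
      ← hB.mul_apply (EX_mono hL hx) (hN hq'), ← hB.mul_apply (hN hq) (EX_mono hL hx)]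
    congr 2; group
  choose! a b hab using S1
  let B' : Γ → M →ₗ[ℂ] M →ₗ[ℂ] ℂ := fun y => (B y).compl₁₂ (applyₗ (a y) ∘ₗ M.subtype) (applyₗ (b y) ∘ₗ M.subtype)
  have key : ∀ y ∈ EO ε L, ∀ φ φ' : M, ∀ u v, B y (φ.1 u) (φ'.1 v) = B' y φ φ' * S y u v := fun y hy φ φ' u v => by
    obtain ⟨c, hc⟩ := Su y hy ((B y).compl₁₂ φ.1 φ'.1) fun q hq u v => by
      simp only [compl₁₂_apply]
      rw [(mM _).1 φ.2 q hq, (mM _).1 φ'.2 _ (hnorm y (hL hy.1) _ (inv_mem hq)), hB.move (EO_mono hL hy) (hN hq)]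
    have := hc (a y) (b y)
    rw [hab y hy, mul_one] at this
    rw [← this] at hc
    exact hc u v
  obtain ⟨φ, hφ, e⟩ := hP M (rsub (fun x => lr (ρ x) (T x⁻¹)) M) B' ⟨rsub_one (by rw [hB.one, inv_one, T1, lr_one]),
    rsub_mul hM fun x hx y hy => by
      rw [lr_mul, hB.mul x (EX_mono hL hx) y (EX_mono hL hy), mul_inv_rev, Tm _ (inv_mem hy) _ (inv_mem hx)],
    fun y hy x hx φ φ' => by
      have := key y hy (rsub (fun x => lr (ρ x) (T x⁻¹)) M x φ) φ' (T x (a (y * x))) (b (y * x))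
      rw [← Sc y hy x hx, hab _ (EO_mul_EX hy hx), mul_one,
        coe_rsub (ρ := fun x => lr (ρ x) (T x⁻¹)) (hM x hx), lr_apply, comp_apply, comp_apply,
        Ti x hx, ← hB.cov y (EO_mono hL hy) x (EX_mono hL hx)] at this
      exact this,
    fun y hy φ φ' => by
      have := key y hy φ φ' (b y⁻¹) (a y⁻¹)
      rw [← Ss y hy, hab _ (EO_inv hy), mul_one] at this
      rw [← this, ← hB.alt y (EO_mono hL hy)]; rfl⟩
  obtain ⟨u, hu⟩ : ∃ u, φ.1 u ≠ 0 := by_contra fun h => hφ (Subtype.ext (LinearMap.ext (by simpa using h)))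
  refine ⟨_, hu, fun y hy => ?_⟩
  obtain ⟨l, hl, n, hn, rfl⟩ := hdec y hy.1
  have hl' : l ∈ EO ε L := ⟨hl, by simpa using (EO_mul_EX hy (inv_mem (hN hn))).2⟩
  rw [hB.cov l (EO_mono hL hl') n (hN hn), ← (mM _).1 φ.2 n hn, key l hl', e l hl', zero_mul]

end Cfsg.Agent.H65
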