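import Cfsg.Agent.H65.FsG4
import Cfsg.Agent.H65.FsWeil

set_option autoImplicit false
set_option linter.unusedSectionVars false
set_option linter.unusedVariables false
set_option linter.unusedSimpArgs false

/-! Vector stabilisers. -/

namespace Cfsg.Agent.H65.Geo
open Module QuadraticMap

universe u
variable {F A V : Type u} [Field F] [CharP F 2] [CommRing A] [Algebra F A] [AddCommGroup V] [Module F V] [Module A V]
  [IsScalarTower F A V] {G : Geo F A V} [Finite F] [Finite V] {S : Set V} {v w : V}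

/-- admissible states -/
structure St (G : Geo F A V) (S : Set V) (w v : V) : Prop where
  nd : G.ND S
  wU : w ∈ G.U S
  w0 : G.e0 • w = w
  wQ : w = 0 ∨ G.Q w ≠ 0
  vU : v ∈ G.U S
  vt : v = 0 ∨ (∃ e, G.Pr e ∧ e • v = v) ∨ ((∀ x ∈ G.U S, G.e0 • x = x) ∧ G.Q v = 0 ∧ polar G.Q v w = 0)

/-- the induction hypothesis -/
def IH (G : Geo F A V) (S : Set V) : Prop :=
  ∀ S' w v, Nat.card (G.U S') < Nat.card (G.U S) → G.St S' w v → PP (sgn F V) (G.Y (insert w (insert v S')))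

theorem PP_congr {S S' : Set V} (h : PP (sgn F V) (G.Y S)) (e : ∀ γ, γ ∈ G.Y S' ↔ γ ∈ G.Y S) : PP (sgn F V) (G.Y S') :=
  (Subgroup.ext e : G.Y S' = G.Y S) ▸ h

theorem refl_split (hw : w ∈ S) (w0 : G.e0 • w = w) (hQ : G.Q w ≠ 0) (hS : ∀ s ∈ S, polar G.Q s w = 0) :
    ∃ r ∈ EX (sgn F V) (G.Y S), (∀ y ∈ G.Y S, r * y = y * r) ∧ (∀ x, polar G.Q x w = 0 → r.1 x = x) ∧
      ∀ l ∈ G.Y S, ∀ z (c : F), polar G.Q z w ≠ 0 → l.1 z = z + c • w → l.1 z = z ∨ (l * r).1 z = z := by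
  obtain ⟨r, hr, er⟩ := exists_refl w0 hQ
  have h0 : ∀ x, polar G.Q x w = 0 → r.1 x = x := fun x hx => by rw [er, hx]; simp
  refine ⟨r, ⟨mem_Y.2 ⟨hr.1, fun s hs => h0 s (hS s hs)⟩, hr.2⟩, fun y hy => X_ext (mul_comm r.2 y.2) fun x => ?_, h0,
    fun l hl z c hz e => ?_⟩
  · rw [mul_app, mul_app, er, er, map_sub, map_smul, ← Y_h hy x w, Y_fix hy hw]
  · have := Y_Q hl z
    rw [e, G.Q_add, G.Q.map_smul, polar_smul_right, smul_eq_mul, smul_eq_mul] at this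
    by_cases hc : c = 0
    · left; rw [e, hc, zero_smul, add_zero]
    · right
      have h1 : polar G.Q z w / G.Q w = c := by
        rw [div_eq_iff hQ]
        exact mul_left_cancel₀ hc (by linear_combination this - c * c * G.Q w * twoF F)
      rw [mul_app, er, h1, map_sub, map_smul, e, Y_fix hl hw, add_sub_cancel_right]

theorem nd_wz (hS : G.ND S) (hw : w ∈ G.U S) {z : V} (hz : z ∈ G.U S) (w0 : G.e0 • w = w) (z0 : G.e0 • z = z)
    (h : polar G.Q z w ≠ 0) : G.St (insert z (insert w S)) 0 0 :=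
  ⟨hS.pair hw hz (by rw [H_triv w w0, h_self, zero_smul]) (by rw [H_triv z z0, h_self, zero_smul]) G.σe0
    (k := algebraMap F A (polar G.Q z w)⁻¹) (by rw [H_triv z w0, ← Algebra.smul_def, smul_smul, inv_mul_cancel₀ h, one_smul])
    w0 z0, zero_mem _, smul_zero _, Or.inl rfl, zero_mem _, Or.inl rfl⟩

theorem H_ne {x w : V} (h : polar G.Q x w ≠ 0) : G.H x w ≠ 0 := fun e => h (G.h_of_H e)

theorem ctx_of (st : G.St S w v) {u : V} {e : A} (p : G.Pair v u e) (hu : u ∈ G.U S) (hvw : G.H v w = 0)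
    (huw : G.H u w = 0) : G.Ctx (insert w (insert v S)) v u e :=
  ⟨p, Or.inr (Or.inl rfl), by
    rintro s (rfl | rfl | hs)
    · exact ⟨G.H_comm0 hvw, by rw [huw, map_zero]⟩
    · exact ⟨p.tv.H, by rw [p.Huv, p.σe]⟩
    · exact ⟨G.H_comm0 (mem_U.1 st.vU s hs), by rw [mem_U.1 hu s hs, map_zero]⟩⟩

theorem pp_pr [Finite A] (ih : G.IH S) (st : G.St S w v) (hv : v ≠ 0) {e : A} (he : G.Pr e) (ev : e • v = v) :
    PP (sgn F V) (G.Y (insert w (insert v S))) := by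
  by_cases ho : ∀ y ∈ G.Y (insert w (insert v S)), sgn F V y = 1
  · exact PP.of_even ho
  push Not at ho
  obtain ⟨y, hy, hy'⟩ := ho
  have hy : y ∈ EO (sgn F V) (G.Y (insert w (insert v S))) := (EX_or_EO hy).resolve_left fun h => hy' h.2
  have hvw := he.H_triv st.w0 ev
  by_cases hvv : G.H v v = 0
  swap
  · obtain ⟨b, -, hb⟩ := (he.1.2.2 _ (G.σH v v)).resolve_left (by rwa [H_mul_e he.1.1 v ev])
    exact PP_congr (ih (insert v S) w 0 (card_lt (Set.subset_insert _ _) st.vU fun h => hvv (U_ins.1 h).2)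
      ⟨st.nd.one st.vU he.1.1 (by rw [mul_comm, hb]) ev, U_ins.2 ⟨st.wU, G.H_comm0 hvw⟩, st.w0, st.wQ, zero_mem _,
        Or.inl rfl⟩) fun γ => by simp only [mem_ins, map_zero, and_true]
  obtain ⟨u0, hu0, e0⟩ : ∃ u0 ∈ G.U S, G.H u0 v = e := by
    obtain ⟨x, hx, h0⟩ : ∃ x ∈ G.U S, G.H x v ≠ 0 := by
      by_contra hn
      push Not at hn
      exact hv (st.nd v st.vU fun y hy => G.H_comm0 (hn y hy))
    have hx' := Y_U (mem_ins.1 (mem_ins.1 hy.1).1).1 hx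
    have e1 : G.H (y.1 x) v = G.σ (G.H x v) := by rw [← O_H hy, (mem_ins.1 (mem_ins.1 hy.1).1).2]
    rcases he.1.inv (H_mul_e he.1.1 x ev) h0 with ⟨b, hb⟩ | ⟨b, hb⟩
    · exact ⟨b • (x + y.1 x), Submodule.smul_mem _ _ (add_mem hx hx'), by rw [G.H_smul, G.H_add, e1, hb]⟩
    · exact ⟨(b * G.H x v) • y.1 x, Submodule.smul_mem _ _ hx', by rw [G.H_smul, e1, mul_assoc, hb]⟩
  obtain ⟨u, hu, p⟩ : ∃ u ∈ G.U S, G.Pair v u e := by
    obtain ⟨δ, hδ⟩ := he.delta
    have h1 : e • e • u0 = e • u0 := by rw [smul_smul, he.1.2.1]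
    have h2 : G.H (e • u0) v = e := by rw [G.H_smul, e0, he.1.2.1]
    generalize hu1 : e • u0 = u1 at h1 h2
    have h3 : e • (u1 - (δ * G.H u1 u1) • v) = u1 - (δ * G.H u1 u1) • v := by rw [smul_sub, h1, smul_comm, ev]
    refine ⟨u1 - (δ * G.H u1 u1) • v, sub_mem (hu1 ▸ Submodule.smul_mem _ _ hu0) (Submodule.smul_mem _ _ st.vU),
      he.1.1, by rw [G.H_sub, G.H_smul, hvv, h2, mul_zero, sub_zero], ev, h3, he.TS ev hvv, he.TS h3 ?_⟩
    have h4 : G.H v u1 = e := by rw [← G.σH, h2, he.1.1]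
    simp only [G.H_sub, G.H_sub', G.H_smul, G.H_smul', hvv, h2, h4, map_mul, G.σH]
    linear_combination -(G.H u1 u1 * e) * hδ - G.H u1 u1 * he.1.2.1 - H_mul_e he.1.1 u1 h1
  have c := ctx_of st p hu hvw (he.H_triv st.w0 p.eu)
  have nd' : G.ND (insert u (insert v S)) := st.nd.pair st.vU hu hvv p.tu.H p.σe (k := 1) (by rw [one_mul, p.Huv]) ev p.eu
  have lt : Nat.card (G.U (insert u (insert v S))) < Nat.card (G.U S) :=
    card_lt (fun _ h => Or.inr (Or.inr h)) st.vU fun h => hv (by rw [← ev, ← p.Hvu, (U_ins.1 h).2, zero_smul])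
  have wU : w ∈ G.U (insert u (insert v S)) :=
    U_ins.2 ⟨U_ins.2 ⟨st.wU, G.H_comm0 hvw⟩, G.H_comm0 (he.H_triv st.w0 p.eu)⟩
  have up : ∀ x ∈ G.U (insert u (insert v S)), e • x ∈ G.U (insert u (insert w (insert v S))) := fun x hx => by
    have := (G.U _).smul_mem e hx
    simp only [U_ins] at this ⊢
    exact ⟨⟨this.1, he.H_triv st.w0 (by rw [smul_smul, he.1.2.1])⟩, this.2⟩
  have dn : ∀ x ∈ G.U (insert u (insert w (insert v S))), x ∈ G.U (insert u (insert v S)) := fun x hx => by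
    simp only [U_ins] at hx ⊢
    exact ⟨hx.1.1, hx.2⟩
  have ee : ∀ x : V, e • e • x = e • x := fun x => by rw [smul_smul, he.1.2.1]
  refine PP.of_irr fun W _ _ _ _ ρ B hB hi => ?_
  by_cases hk : ∃ k ∈ G.Z (insert w (insert v S)) v u, ρ k ≠ 1
  · obtain ⟨t, h1, h2, h3, h4, h5⟩ := c.exists_t he (by
      rintro s (rfl | rfl | hs)
      · exact Or.inr (U_ins.1 wU).2
      · exact Or.inl rfl
      · exact Or.inr (G.H_comm0 (mem_U.1 hu s hs)))
    refine Iso.of_weil (N := G.N (insert w (insert v S)) v) (L := G.Y (insert u (insert w (insert v S))))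
      (Z := G.Z (insert w (insert v S)) v u) (fun n hn => hn.1) (fun l hl => (mem_ins.1 hl).1) (fun z hz => hz.1) (fun y hy n hn => c.norm hy hn)
      (fun y hy => c.dec hy) c.pgroup (fun z hz y hy => c.Z_comm hz hy) (fun z hz => c.Z_sq hz)
      (fun n hn hn' k hk => c.hcomm he (fun z h1 h2 h3 => ?_) hn hn' hk) h1 h2 h3 h4 h5
      (PP_congr (ih _ w 0 lt ⟨nd', wU, st.w0, st.wQ, zero_mem _, Or.inl rfl⟩) fun γ => by
        simp only [mem_ins, map_zero, and_true, true_and, and_assoc, and_comm, and_left_comm]) hB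
      (fun z hz => hB.scalar hi hz.1.1 fun x hx => (c.Z_comm hz hx.1).symm) hk
    by_contra hn
    push Not at hn
    exact h3 (nd' z (dn z h2) fun x hx => G.H_comm0 (by
      rw [← H_mul_e p.σe x h1, mul_comm, ← G.H_smul]; exact hn _ (ee x) (up x hx)))
  push Not at hk
  let I : Submodule F V := ⟨⟨⟨{z | z ∈ G.U (insert u (insert v S)) ∧ e • z = z}, fun h h' =>
    ⟨add_mem h.1 h'.1, by rw [smul_add, h.2, h'.2]⟩⟩, zero_mem _, smul_zero _⟩,
    fun c z h => ⟨U_fsmul c h.1, by rw [smul_comm, h.2]⟩⟩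
  refine c.iso_wt hB hk I (fun z hz => ⟨(U_ins.1 (U_ins.1 hz.1).1).2, (U_ins.1 hz.1).2⟩) (fun z h1 h2 h3 => ?_)
    (fun z h1 h2 => p.lift_pr he h1 (U_ins.1 (U_ins.1 (dn z h2)).1).2 (U_ins.1 h2).2) fun z0 hz0 =>
    ⟨G.Y (insert z0 (insert u (insert w (insert v S)))), fun l hl => (mem_ins.1 hl).1,
      PP_congr (ih _ w z0 lt ⟨nd', wU, st.w0, st.wQ, hz0.1, Or.inr (Or.inl ⟨e, he, hz0.2⟩)⟩) fun γ => by
        simp only [mem_ins, map_zero, and_true, true_and, and_assoc, and_comm, and_left_comm], fun l hl z _ _ => by rw [(mem_ins.1 hl).2], fun l hl h =>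
      ⟨l, mem_ins.2 ⟨hl, ?_⟩, 1, one_mem _, ⟨1, by rw [hB.one, one_smul]⟩, (mul_one l).symm⟩⟩
  · by_contra hn
    push Not at hn
    exact h3 (nd'.h (dn z h2) fun x hx => by
      rw [← h1, G.h_smul, p.σe]; exact hn _ ⟨Submodule.smul_mem _ _ hx, ee x⟩)
  · have hl' : l ∈ G.Y (insert u (insert v S)) := mem_ins.2 ⟨(mem_ins.1 (mem_ins.1 hl).1).1, (mem_ins.1 hl).2⟩
    refine sub_eq_zero.1 (nd'.h (sub_mem (Y_U hl' hz0.1) hz0.1) fun x hx => ?_)
    have : l.1 z0 - z0 = G.σ e • (l.1 z0 - z0) := by rw [p.σe, smul_sub, ← Y_smul0 hl p.σe, hz0.2]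
    rw [polar_comm, this, ← G.h_smul, polar_sub_right, h _ (ee x) (up x hx), sub_self]

theorem pp_triv (ih : G.IH S) (st : G.St S w v) (hv : v ≠ 0) (tr : ∀ x ∈ G.U S, G.e0 • x = x) (hQ : G.Q v = 0)
    (hvw : polar G.Q v w = 0) : PP (sgn F V) (G.Y (insert w (insert v S))) := by
  have v0 := tr v st.vU
  obtain ⟨u, hu, huw, p⟩ : ∃ u ∈ G.U S, polar G.Q u w = 0 ∧ G.Pair v u G.e0 := by
    obtain ⟨x, hx, h1, h2⟩ : ∃ x ∈ G.U S, polar G.Q x w = 0 ∧ polar G.Q x v ≠ 0 := by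
      by_contra hn
      push Not at hn
      obtain ⟨c, hc⟩ := st.nd.perp st.wU st.vU hn
      rcases st.wQ with h | h
      · exact hv (by rw [hc, h, smul_zero])
      · rw [hc, G.Q.map_smul, smul_eq_mul, mul_eq_zero, mul_self_eq_zero] at hQ
        exact hv (by rw [hc, hQ.resolve_right h, zero_smul])
    have h3 : polar G.Q ((polar G.Q x v)⁻¹ • x) v = 1 := by rw [polar_smul_left, smul_eq_mul, inv_mul_cancel₀ h2]
    have h4 : polar G.Q ((polar G.Q x v)⁻¹ • x) w = 0 := by rw [polar_smul_left, h1, smul_zero]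
    have h5 := U_fsmul (polar G.Q x v)⁻¹ hx
    generalize (polar G.Q x v)⁻¹ • x = u at h3 h4 h5
    have h6 := add_mem h5 (U_fsmul (G.Q u) st.vU)
    refine ⟨u + G.Q u • v, h6, by rw [polar_add_left, polar_smul_left, h4, hvw]; simp, G.σe0, ?_, v0, tr _ h6,
      TS_triv v0 hQ, TS_triv (tr _ h6) ?_⟩
    · rw [H_triv _ v0, polar_add_left, polar_smul_left, h_self, h3]; simp
    · rw [G.Q_add, G.Q.map_smul, hQ, polar_smul_right, h3]; simp [addV F]
  have Hw : ∀ {x}, polar G.Q x w = 0 → G.H x w = 0 := fun h => by rw [H_triv _ st.w0, h, zero_smul]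
  have c := ctx_of st p hu (Hw hvw) (Hw huw)
  have nd' : G.ND (insert u (insert v S)) :=
    st.nd.pair st.vU hu p.tv.H p.tu.H p.σe (k := 1) (by rw [one_mul, p.Huv]) v0 p.eu
  have vn : v ∉ G.U (insert u (insert v S)) := fun h => hv (by rw [← v0, ← p.Hvu, (U_ins.1 h).2, zero_smul])
  have lt : Nat.card (G.U (insert u (insert v S))) < Nat.card (G.U S) := card_lt (fun _ h => Or.inr (Or.inr h)) st.vU vn
  have wU : w ∈ G.U (insert u (insert v S)) := U_ins.2 ⟨U_ins.2 ⟨st.wU, G.H_comm0 (Hw hvw)⟩, G.H_comm0 (Hw huw)⟩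
  have tr' : ∀ x ∈ G.U (insert u (insert v S)), G.e0 • x = x := fun x hx => tr x (U_ins.1 (U_ins.1 hx).1).1
  have dn : ∀ x ∈ G.U (insert u (insert w (insert v S))), x ∈ G.U (insert u (insert v S)) := fun x hx => by
    simp only [U_ins] at hx ⊢
    exact ⟨hx.1.1, hx.2⟩
  have huv : polar G.Q u v = 1 := by rw [← G.τH, p.Huv, G.τe0]
  have Qu : G.Q u = 0 := by simpa using p.tu 1
  refine PP.of_irr fun W _ _ _ _ ρ B hB hi => ?_
  refine c.iso_wt hB (fun z hz => ?_) ((G.U (insert u (insert v S))).restrictScalars F)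
    (fun z hz => ⟨(U_ins.1 (U_ins.1 hz).1).2, (U_ins.1 hz).2⟩) (fun z h1 h2 h3 => ?_) (fun z h1 h2 => ?_) fun z0 hz0 =>
    ⟨G.Y (insert z0 (insert u (insert w (insert v S)))), fun l hl => (mem_ins.1 hl).1, ?_,
      fun l hl z _ _ => by rw [(mem_ins.1 hl).2], fun l hl h => ?_⟩
  · obtain ⟨a, ha⟩ := hz.2
    obtain ⟨k, hk, -⟩ := triv_smul v0 a
    have := Y_Q hz.1.1.1 u
    rw [ha, hk, G.Q_add, G.Q.map_smul, hQ, polar_smul_right, huv] at this
    rw [c.ext hz.1 (one_mem _) (by rw [ha, hk, show k = 0 by simpa using this, zero_smul, add_zero]; rfl), hB.one]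
  · by_contra hn
    push Not at hn
    exact h3 (nd'.h (dn z h2) hn)
  · have h3 := dn z h2
    refine ⟨algebraMap F A (G.Q z), TS_triv (tr _ (add_mem (add_mem hu (U_ins.1 (U_ins.1 h3).1).1)
      (Submodule.smul_mem _ _ st.vU))) ?_⟩
    rw [algebraMap_smul, G.Q_add, G.Q_add, G.Q.map_smul, hQ, polar_smul_right, polar_add_left, huv, Qu,
      G.h_of_H (U_ins.1 (U_ins.1 h3).1).2, G.h_of_H (G.H_comm0 (U_ins.1 h3).2)]
    simp [addV F]
  · by_cases h0 : polar G.Q z0 w = 0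
    · rcases st.wQ with rfl | hw
      · by_cases hz : G.Q z0 = 0
        · exact PP_congr (ih _ 0 z0 lt ⟨nd', wU, st.w0, st.wQ, hz0, Or.inr (Or.inr ⟨tr', hz, h0⟩)⟩) fun γ => by
            simp only [mem_ins, map_zero, and_true, true_and, and_assoc, and_comm, and_left_comm]
        · exact PP_congr (ih _ z0 0 lt ⟨nd', hz0, tr' _ hz0, Or.inr hz, zero_mem _, Or.inl rfl⟩) fun γ => by
            simp only [mem_ins, map_zero, and_true, true_and, and_assoc, and_comm, and_left_comm]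
      · obtain ⟨d, hd⟩ := isSquare_of_charTwo' (G.Q z0 / G.Q w)
        refine PP_congr (ih _ w (z0 + d • w) lt ⟨nd', wU, st.w0, st.wQ, add_mem hz0 (U_fsmul d wU), Or.inr (Or.inr ⟨tr', ?_,
          by rw [polar_add_left, polar_smul_left, h0, h_self]; simp⟩)⟩) fun γ => ?_
        · rw [G.Q_add, G.Q.map_smul, polar_smul_right, h0, ← hd, smul_eq_mul, div_mul_cancel₀ _ hw]; simp [addV F]
        · simp only [mem_ins, map_add, map_smul]
          constructor
          · rintro ⟨⟨⟨h1, h2⟩, h3⟩, h4⟩; exact ⟨⟨⟨h1, h3⟩, by rw [h2, h4]⟩, h2⟩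
          · rintro ⟨⟨⟨h1, h3⟩, h4⟩, h2⟩; exact ⟨⟨⟨h1, h2⟩, h3⟩, by rwa [h2, add_left_inj] at h4⟩
    · exact PP_congr (ih (insert z0 (insert w (insert u (insert v S)))) 0 0 (card_lt (fun _ h => Or.inr (Or.inr (Or.inr (Or.inr h)))) st.vU fun h =>
        vn (U_ins.1 (U_ins.1 h).1).1) (nd_wz nd' wU hz0 st.w0 (tr' _ hz0) h0)) fun γ => by
          simp only [mem_ins, map_zero, and_true, true_and, and_assoc, and_comm, and_left_comm]
  · have hl' : l ∈ G.Y (insert u (insert v S)) := mem_ins.2 ⟨(mem_ins.1 (mem_ins.1 hl).1).1, (mem_ins.1 hl).2⟩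
    obtain ⟨k, hk⟩ := nd'.perp wU (sub_mem (Y_U hl' hz0) hz0) fun y hy h1 => by
      rw [polar_sub_right, h y (tr' y hy) (by simp only [U_ins] at hy ⊢; exact ⟨⟨hy.1, Hw h1⟩, hy.2⟩), sub_self]
    replace hk : l.1 z0 = z0 + k • w := by rw [← hk]; abel
    have fin : l.1 z0 = z0 → ∃ m ∈ G.Y (insert z0 (insert u (insert w (insert v S)))),
        ∃ r ∈ EX (sgn F V) (G.Y (insert w (insert v S))), (∃ c : ℂ, ρ r = c • 1) ∧ l = m * r := fun h =>
      ⟨l, mem_ins.2 ⟨hl, h⟩, 1, one_mem _, ⟨1, by rw [hB.one, one_smul]⟩, (mul_one l).symm⟩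
    rcases st.wQ with rfl | hw
    · exact fin (by rw [hk, smul_zero, add_zero])
    by_cases h0 : polar G.Q z0 w = 0
    · have := Y_Q hl z0
      rw [hk, G.Q_add, G.Q.map_smul, polar_smul_right, h0] at this
      exact fin (by rw [hk, show k = 0 by simpa [hw] using this, zero_smul, add_zero])
    obtain ⟨r, hr, r1, r2, r3⟩ := refl_split (S := insert w (insert v S)) (Or.inl rfl) st.w0 hw (by
      rintro s (rfl | rfl | hs)
      · exact h_self _
      · exact hvw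
      · exact G.h_of_H (G.H_comm0 (mem_U.1 st.wU s hs)))
    refine (r3 l (mem_ins.1 hl).1 z0 k h0 hk).elim fin fun h => ⟨l * r, mem_ins.2 ⟨mul_mem hl (mem_ins.2 ⟨hr.1, r2 u huw⟩), h⟩,
      r⁻¹, inv_mem hr, hB.scalar hi (inv_mem hr) fun x hx => ?_, by group⟩
    exact (Commute.inv_left (r1 x hx.1)).eq

theorem pp_J [Finite A] (ih : G.IH S) (st : G.St S w v) (hv : v ≠ 0) : PP (sgn F V) (G.Y (insert w (insert v S))) := by
  rcases st.vt with h | ⟨e, he, ev⟩ | ⟨h1, h2, h3⟩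
  · exact absurd h hv
  · exact pp_pr ih st hv he ev
  · exact pp_triv ih st hv h1 h2 h3

end Cfsg.Agent.H65.Geo
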