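import Cfsg.Agent.H65.FsTr

set_option autoImplicit false
set_option linter.unusedSectionVars false
set_option linter.unusedVariables false

/-! Orbit sums in the ring of 2-integral numbers. -/

namespace Cfsg.Agent.H65
open Module LinearMap MulAction

/-- numbers that become algebraic integers after multiplication by an odd integer -/
def R2 : Subring ℂ where
  carrier := {z | ∃ m : ℕ, Odd m ∧ IsIntegral ℤ (m * z)}
  mul_mem' := fun {a b} ⟨m, h1, h2⟩ ⟨n, h3, h4⟩ => ⟨m * n, h1.mul h3, by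
    rw [show ((m * n : ℕ) : ℂ) * (a * b) = (m * a) * (n * b) by push_cast; ring]; exact h2.mul h4⟩
  one_mem' := ⟨1, odd_one, by simpa using isIntegral_one⟩
  add_mem' := fun {a b} ⟨m, h1, h2⟩ ⟨n, h3, h4⟩ => ⟨m * n, h1.mul h3, by
    rw [show ((m * n : ℕ) : ℂ) * (a + b) = n * (m * a) + m * (n * b) by push_cast; ring]
    exact ((isIntegral_natCast _).mul h2).add ((isIntegral_natCast _).mul h4)⟩
  zero_mem' := ⟨1, odd_one, by simpa using isIntegral_zero⟩
  neg_mem' := fun {a} ⟨m, h1, h2⟩ => ⟨m, h1, by rw [mul_neg]; exact h2.neg⟩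

theorem R2_of_int {z : ℂ} (h : IsIntegral ℤ z) : z ∈ R2 := ⟨1, odd_one, by simpa using h⟩

theorem R2_inv {m : ℕ} (h : Odd m) : (m : ℂ)⁻¹ ∈ R2 :=
  ⟨m, h, by rw [mul_inv_cancel₀ (Nat.cast_ne_zero.2 h.pos.ne')]; exact isIntegral_one⟩

theorem half_not_R2 : (2 : ℂ)⁻¹ ∉ R2 := by
  rintro ⟨m, ⟨k, hk⟩, h⟩
  have : IsIntegral ℤ (algebraMap ℚ ℂ (m / 2)) := by rwa [map_div₀, map_natCast, map_ofNat, div_eq_mul_inv]
  obtain ⟨n, hn⟩ := IsIntegrallyClosed.isIntegral_iff.1 ((isIntegral_algebraMap_iff (algebraMap ℚ ℂ).injective).1 this)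
  have : (2 * n : ℤ) = m := by
    have : (n : ℚ) = m / 2 := hn
    exact_mod_cast (by rw [this]; ring : (2 * n : ℚ) = m)
  omega

theorem orbit_sum {G Ω : Type*} [Group G] [Finite G] [MulAction G Ω] [Fintype Ω] (F : Ω → ℂ)
    (hF : ∀ (g : G) ω, F (g • ω) = F ω) (h : ∀ ω, F ω / Nat.card (stabilizer G ω) ∈ R2) :
    (∑ ω, F ω) / Nat.card G ∈ R2 := by
  classical
  have := Fintype.ofFinite G
  have := Fintype.ofFinite (orbitRel.Quotient G Ω)
  rw [← Finset.sum_fiberwise Finset.univ (fun ω => (Quotient.mk'' ω : orbitRel.Quotient G Ω)), Finset.sum_div]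
  refine sum_mem fun q _ => ?_
  obtain ⟨a, rfl⟩ := Quotient.exists_rep q
  have e : (Finset.univ.filter fun ω => (Quotient.mk'' ω : orbitRel.Quotient G Ω) = ⟦a⟧) = (orbit G a).toFinset := by
    ext ω
    simp only [Finset.mem_filter, Finset.mem_univ, true_and, Set.mem_toFinset]
    exact Quotient.eq''
  rw [e, Finset.sum_congr rfl (g := fun _ => F a) (by
    intro ω hω
    obtain ⟨g, rfl⟩ := Set.mem_toFinset.1 hω
    exact hF g a), Finset.sum_const, Set.toFinset_card, Nat.card_eq_fintype_card,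
    ← card_orbit_mul_card_stabilizer_eq_card_group G a, nsmul_eq_mul, Nat.cast_mul,
    mul_div_mul_left _ _ (Nat.cast_ne_zero.2 (Fintype.card_pos_iff.2 ⟨⟨a, mem_orbit_self a⟩⟩).ne'), ← Nat.card_eq_fintype_card]
  exact h a

open Classical in
theorem two_sum0 {G : Type*} [Group G] [Fintype G] (f : G → ℂ) (hf : ∀ c, f c ∈ R2)
    (hinv : ∀ g, (∀ c, f (g * c * g⁻¹) = f c) ∨ ∀ c, f (g * c * g⁻¹) = f c⁻¹)
    (hP : ∀ P : Subgroup G, IsPGroup 2 P → (∑ u : P, f u) / Nat.card P ∈ R2) :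
    (∑ u with ∃ j, u ^ 2 ^ j = 1, f u) / Nat.card G ∈ R2 := by
  obtain ⟨P⟩ : Nonempty (Sylow 2 G) := inferInstance
  obtain ⟨a, ha⟩ := IsPGroup.iff_card.1 P.isPGroup'
  have hodd : Odd P.index := Nat.not_even_iff_odd.1 fun h => P.not_dvd_index h.two_dvd
  set k := Nat.totient (2 ^ a)
  have hk : 0 < k := Nat.totient_pos.2 (by positivity)
  have hst : ∀ (c : G) (ω : G ⧸ (P : Subgroup G)), c • ω = ω → ∃ j, c ^ 2 ^ j = 1 := fun c ω h => by
    obtain ⟨x, rfl⟩ := QuotientGroup.mk_surjective ω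
    have h : x⁻¹ * c⁻¹ * x ∈ (P : Subgroup G) := by simpa [mul_assoc] using QuotientGroup.eq.1 h
    obtain ⟨j, hj⟩ := P.isPGroup' ⟨_, h⟩
    have := congrArg Subtype.val hj
    simp only [SubgroupClass.coe_pow, OneMemClass.coe_one] at this
    rw [show x⁻¹ * c⁻¹ * x = x⁻¹ * c⁻¹ * x⁻¹⁻¹ by simp, conj_pow] at this
    exact ⟨j, by simpa [mul_eq_one_iff_eq_inv] using this⟩
  have h1 := orbit_sum (G := G) (Ω := Fin k → G ⧸ (P : Subgroup G)) (fun ω => ∑ c with c • ω = ω, f c) (fun g ω => by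
    rcases hinv g with h | h
    · refine (Finset.sum_equiv (MulAut.conj g).toEquiv (fun c => ?_) fun c _ => (h c).symm).symm
      simp [mul_smul]
    · refine (Finset.sum_equiv ((Equiv.inv G).trans (MulAut.conj g).toEquiv) (fun c => ?_) fun c _ => by
        simpa using (h c⁻¹).symm).symm
      simp [mul_smul, inv_smul_eq_iff, eq_comm (a := ω)]) fun ω => by
    have := hP (stabilizer G ω) fun c => (hst c (ω ⟨0, hk⟩) (congrFun c.2 _)).imp fun j hj => Subtype.ext hj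
    rwa [← Finset.sum_subtype (Finset.univ.filter fun c => c • ω = ω) (by simp)] at this
  have h2 : ∑ ω : Fin k → G ⧸ (P : Subgroup G), ∑ c with c • ω = ω, f c =
      ∑ c, ((Finset.univ.filter fun x : G ⧸ (P : Subgroup G) => c • x = x).card ^ k : ℕ) * f c := by
    simp only [Finset.sum_filter]
    rw [Finset.sum_comm]
    refine Finset.sum_congr rfl fun c _ => ?_
    rw [← Finset.sum_filter, Finset.sum_const, nsmul_eq_mul, ← Fintype.card_piFinset_const]
    congr 3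
    ext ω
    simp [funext_iff]
  rw [h2] at h1
  rw [Finset.sum_filter, ← sub_sub_cancel (_ / (Nat.card G : ℂ)) (_ / _), ← sub_div, ← Finset.sum_sub_distrib]
  refine sub_mem h1 ?_
  rw [Finset.sum_div]
  refine sum_mem fun c _ => ?_
  split_ifs with hc
  · have hz : IsPGroup 2 (Subgroup.zpowers c) := by
      obtain ⟨j, hj⟩ := hc
      rintro ⟨_, i, rfl⟩
      exact ⟨j, Subtype.ext (show (c ^ i) ^ 2 ^ j = 1 by
        rw [← zpow_natCast, ← zpow_mul, mul_comm i, zpow_mul, zpow_natCast, hj, one_zpow])⟩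
    have h3 := hz.card_modEq_card_fixedPoints (G ⧸ (P : Subgroup G))
    have h4 : Nat.card (fixedPoints (Subgroup.zpowers c) (G ⧸ (P : Subgroup G))) =
        (Finset.univ.filter fun x : G ⧸ (P : Subgroup G) => c • x = x).card := by
      rw [Nat.card_eq_fintype_card, Fintype.card_of_subtype]
      intro x
      simp only [Finset.mem_filter, Finset.mem_univ, true_and]
      exact ⟨fun h g => (Subgroup.zpowers_le (H := stabilizer G x)).2 h g.2, fun h => h ⟨c, Subgroup.mem_zpowers c⟩⟩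
    rw [h4, ← Subgroup.index_eq_card] at h3
    generalize (Finset.univ.filter fun x : G ⧸ (P : Subgroup G) => c • x = x).card = n at h3
    have h5 : Odd n := by rw [Nat.odd_iff] at hodd ⊢; exact Eq.trans h3.symm hodd
    obtain ⟨s, hs⟩ := (Nat.ModEq.pow_totient (Nat.Coprime.pow_right a (Nat.coprime_two_right.2 h5))).symm.dvd
    have hs : ((n ^ k : ℕ) : ℂ) - 1 = (2 ^ a : ℕ) * (s : ℂ) := by exact_mod_cast hs
    rw [← sub_one_mul, hs, ← (P : Subgroup G).card_mul_index, ha, Nat.cast_mul, mul_assoc,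
      mul_div_mul_left _ _ (by simp), div_eq_mul_inv]
    exact mul_mem (mul_mem (intCast_mem _ _) (hf c)) (R2_inv hodd)
  · rw [Finset.filter_eq_empty_iff.2 fun x _ h => hc (hst c x h)]
    simp [hk.ne']

open Classical in
theorem two_sum {Γ : Type*} [Group Γ] [Fintype Γ] (C : Subgroup Γ) (f : Γ → ℂ) (hf : ∀ c ∈ C, f c ∈ R2)
    (hinv : ∀ g ∈ C, (∀ c ∈ C, f (g * c * g⁻¹) = f c) ∨ ∀ c ∈ C, f (g * c * g⁻¹) = f c⁻¹)
    (hP : ∀ P ≤ C, IsPGroup 2 P → (∑ u : P, f u) / Nat.card P ∈ R2) :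
    (∑ u with u ∈ C ∧ ∃ j, u ^ 2 ^ j = 1, f u) / Nat.card C ∈ R2 := by
  have := two_sum0 (fun c : C => f c) (fun c => hf c c.2)
    (fun g => (hinv g g.2).imp (fun h c => h c c.2) fun h c => h c c.2) fun P h => by
      have := hP (P.map C.subtype) (Subgroup.map_subtype_le _) (h.map _)
      rwa [← (P.equivMapOfInjective _ C.subtype_injective).toEquiv.sum_comp, Subgroup.card_map_of_injective
        C.subtype_injective] at this
  convert this using 2
  rw [← Finset.filter_filter, Finset.sum_filter, Finset.sum_subtype (p := (· ∈ C)) (F := inferInstance) _ (by simp),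
    Finset.sum_filter]
  simp [Subtype.ext_iff]

variable {Γ : Type*} [Group Γ] [Finite Γ] {ε : Γ →* ℤˣ} {Y M : Subgroup Γ} {W : Type} [AddCommGroup W] [Module ℂ W]
  [FiniteDimensional ℂ W] {ρ : Γ → End ℂ W} {B : Γ → W →ₗ[ℂ] W →ₗ[ℂ] ℂ}

theorem exists_lagr_tw (hB : EAlt ε M ρ B) (hM : PP ε M) {y : Γ} (hy : y ∈ EO ε M)
    (nd : ∀ y ∈ EO ε M, ∀ v, (∀ w, B y v w = 0) → v = 0) :
    ∃ U, Inv (EX ε M) ρ U ∧ ∀ x ∈ EX ε M,
      trace ℂ _ (ρ x) = trace ℂ _ (rsub ρ U x) + trace ℂ _ (rsub ρ U (y⁻¹ * x⁻¹ * y)) := by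
  have := Fintype.ofFinite (EX ε M)
  obtain ⟨U, ⟨hU, iso⟩, hmax⟩ := WellFoundedGT.exists_maximal (α := Submodule ℂ W) inferInstance
    {U | Inv (EX ε M) ρ U ∧ ∀ y ∈ EO ε M, ∀ a ∈ U, ∀ b ∈ U, B y a b = 0}
    ⟨⊥, fun x _ v hv => by simp [(Submodule.mem_bot ℂ).1 hv], fun y _ a ha b _ => by simp [(Submodule.mem_bot ℂ).1 ha]⟩
  obtain ⟨U', hc, hU'⟩ := exists_compl hB.one hB.mul hU
  let K : Submodule ℂ W := U' ⊓ ⨅ y ∈ EO ε M, ⨅ a ∈ U, ker (B y a)
  have mK : ∀ w, w ∈ K ↔ w ∈ U' ∧ ∀ y ∈ EO ε M, ∀ a ∈ U, B y a w = 0 := fun w => by simp [K]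
  have hK : Inv (EX ε M) ρ K := fun x hx w hw => (mK _).2 ⟨hU' x hx w ((mK w).1 hw).1, fun y hy a ha => by
    have := hB.cov' (inv_mem hx) hy a w
    rw [inv_inv] at this
    rw [← this, ((mK w).1 hw).2 _ (EX_mul_EO (inv_mem hx) hy) a ha]⟩
  have K0 : K = ⊥ := by
    by_contra h0
    obtain ⟨v, hv, hv0, e⟩ := hM.sub hB le_rfl h0 hK
    let D := Submodule.span ℂ (Set.range fun x : EX ε M => ρ x v)
    have hDK : D ≤ K := Submodule.span_le.2 (by rintro _ ⟨x, rfl⟩; exact hK x x.2 v hv)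
    have hD : Inv (EX ε M) ρ D := fun x hx d hd => (Submodule.span_le (p := D.comap (ρ x))).2 (by
      rintro _ ⟨x', rfl⟩
      exact Submodule.subset_span ⟨⟨x * x', mul_mem hx x'.2⟩, hB.mul_apply hx x'.2 v⟩) hd
    have hDD : ∀ y ∈ EO ε M, ∀ a ∈ D, ∀ b ∈ D, B y a b = 0 := fun y hy a ha b hb =>
      (Submodule.span_le (p := ker ((B y).flip b))).2 (by
        rintro _ ⟨x, rfl⟩
        exact (Submodule.span_le (p := ker (B y (ρ x v)))).2 (by
          rintro _ ⟨x', rfl⟩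
          have := hB.cov' (inv_mem x'.2) (EO_mul_EX hy x.2) v v
          rw [inv_inv, hB.cov y hy x x.2, e _ (EX_mul_EO (inv_mem x'.2) (EO_mul_EX hy x.2))] at this
          exact this.symm) hb) ha
    have := hmax (y := U ⊔ D) ⟨fun x hx w hw => by
      obtain ⟨a, ha, d, hd, rfl⟩ := Submodule.mem_sup.1 hw
      rw [map_add]; exact add_mem (Submodule.mem_sup_left (hU x hx a ha)) (Submodule.mem_sup_right (hD x hx d hd)),
      fun y hy w hw w' hw' => by
      obtain ⟨a, ha, d, hd, rfl⟩ := Submodule.mem_sup.1 hw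
      obtain ⟨a', ha', d', hd', rfl⟩ := Submodule.mem_sup.1 hw'
      have h1 := hB.alt y hy d a'
      rw [((mK d).1 (hDK hd)).2 _ (EO_inv hy) a' ha', zero_eq_neg] at h1
      simp [iso y hy a ha a' ha', ((mK d').1 (hDK hd')).2 y hy a ha, hDD y hy d hd d' hd', h1]⟩ le_sup_left
    have hvD : v ∈ D := Submodule.subset_span ⟨1, by simp [hB.one]⟩
    exact hv0 ((Submodule.disjoint_def.1 hc.disjoint) v (this (Submodule.mem_sup_right hvD)) ((mK v).1 hv).1)
  refine ⟨U, hU, fun x hx => ?_⟩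
  have hx' := EX_conj' hy.1 (inv_mem hx)
  rw [trace_compl hc hU hU' hx, trace_pairing ((B y).compl₁₂ U.subtype U'.subtype) (fun a ha => ?_) (fun w hw => ?_)
    (f := rsub ρ U (y⁻¹ * x⁻¹ * y)) (g := rsub ρ U' x) fun a w => ?_]
  · refine Subtype.ext (nd y hy a fun w => ?_)
    obtain ⟨a', ha', w', hw', rfl⟩ := Submodule.mem_sup.1 (hc.sup_eq_top ▸ Submodule.mem_top : w ∈ U ⊔ U')
    rw [map_add, iso y hy a a.2 a' ha', zero_add]
    exact ha ⟨w', hw'⟩
  · refine Subtype.ext ((Submodule.mem_bot ℂ).1 (K0 ▸ (mK _).2 ⟨w.2, fun y' hy' a ha => ?_⟩))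
    have h1 := EO_mul_EO (EO_inv hy) hy'
    rw [show y' = y * (y⁻¹ * y') by group, hB.cov y hy _ h1]
    exact hw ⟨_, hU _ h1 a ha⟩
  · simp only [compl₁₂_apply, Submodule.subtype_apply]
    rw [coe_rsub (hU _ hx'), coe_rsub (hU' _ hx), hB.move hy hx']
    congr 2; group

end Cfsg.Agent.H65
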