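import Cfsg.Agent.H65.FsL1

set_option autoImplicit false
set_option linter.unusedSectionVars false
set_option linter.unusedVariables false

/-! The local-global principle. -/

namespace Cfsg.Agent.H65
open Module LinearMap MulAction

section
variable {Γ : Type*} [Group Γ] {ε : Γ →* ℤˣ} {Y M : Subgroup Γ}

theorem card_EX [Finite Γ] {y : Γ} (hy : y ∈ EO ε Y) : Nat.card Y = 2 * Nat.card (EX ε Y) := by
  have h : ((EX ε Y).subgroupOf Y).index = 2 := Subgroup.index_eq_two_iff.2 ⟨⟨y, hy.1⟩, fun b => by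
    simp only [Subgroup.mem_subgroupOf, mem_EX, Subgroup.coe_mul, map_mul, hy.2, SetLike.coe_mem, true_and,
      Y.mul_mem b.2 hy.1]
    rcases Int.units_eq_one_or (ε b) with h | h <;> rw [h] <;> decide⟩
  rw [← ((EX ε Y).subgroupOf Y).index_mul_card, h,
    Nat.card_congr (Subgroup.subgroupOfEquivOfLe (show EX ε Y ≤ Y from inf_le_left)).toEquiv]

theorem tw_X {b x : Γ} (h : x * b ^ ((ε x : ℤˣ) : ℤ) * x⁻¹ = b) (hx : ε x = 1) : x * b = b * x := by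
  rwa [hx, Units.val_one, zpow_one, mul_inv_eq_iff_eq_mul] at h

theorem tw_O {b x : Γ} (h : x * b ^ ((ε x : ℤˣ) : ℤ) * x⁻¹ = b) (hx : ε x = -1) : x * b⁻¹ * x⁻¹ = b := by
  rwa [hx, Units.val_neg, Units.val_one, zpow_neg_one] at h

theorem tw_O' {b x : Γ} (h : x * b ^ ((ε x : ℤˣ) : ℤ) * x⁻¹ = b) (hx : ε x = -1) : x * b * x⁻¹ = b⁻¹ := by
  conv_rhs => rw [← tw_O h hx]
  group

theorem exists_adjoin (hM : PP ε M) (hMY : M ≤ Y) {b : Γ} (hb : b ∈ EX ε Y)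
    (h : ∀ y ∈ M, y * b ^ ((ε y : ℤˣ) : ℤ) * y⁻¹ = b) : ∃ M', M ≤ M' ∧ M' ≤ Y ∧ b ∈ M' ∧ PP ε M' := by
  have key : ∀ m ∈ M, ∀ i : ℤ, b ^ i * m = m * b ^ (((ε m : ℤˣ) : ℤ) * i) := fun m hm i => by
    conv_lhs => rw [← h m hm, conj_zpow, inv_mul_cancel_right, ← zpow_mul]
  let M' : Subgroup Γ :=
    { carrier := {g | ∃ m ∈ M, ∃ i : ℤ, g = m * b ^ i}
      one_mem' := ⟨1, one_mem _, 0, by simp⟩
      mul_mem' := by
        rintro _ _ ⟨m, hm, i, rfl⟩ ⟨m', hm', j, rfl⟩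
        exact ⟨m * m', mul_mem hm hm', _, by rw [mul_assoc, ← mul_assoc (b ^ i), key m' hm', mul_assoc, ← zpow_add, mul_assoc]⟩
      inv_mem' := by
        rintro _ ⟨m, hm, i, rfl⟩
        exact ⟨m⁻¹, inv_mem hm, _, by rw [mul_inv_rev, ← zpow_neg, key _ (inv_mem hm)]⟩ }
  have h1 : M ≤ M' := fun m hm => ⟨m, hm, 0, by simp⟩
  have h2 : b ∈ EX ε M' := ⟨⟨1, one_mem _, 1, by simp⟩, hb.2⟩
  refine ⟨M', h1, ?_, h2.1, hM.of_central h1 ?_⟩
  · rintro _ ⟨m, hm, i, rfl⟩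
    exact mul_mem (hMY hm) (zpow_mem (mem_EX.1 hb).1 i)
  · rintro _ ⟨⟨m, hm, i, rfl⟩, -⟩
    refine ⟨m, hm, b ^ i, zpow_mem h2 i, ?_, rfl⟩
    rintro _ ⟨⟨m', hm', j, rfl⟩, h3⟩
    have : ε m' = 1 := by simpa [(mem_EX.1 hb).2] using h3
    rw [← mul_assoc, key m' hm', this, Units.val_one, one_mul, mul_assoc, mul_assoc, zpow_mul_comm]

variable {W : Type} [AddCommGroup W] [Module ℂ W] [FiniteDimensional ℂ W] {ρ : Γ → End ℂ W}
  {B : Γ → W →ₗ[ℂ] W →ₗ[ℂ] ℂ}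

theorem EAlt.nondeg (hB : EAlt ε Y ρ B) (hi : Irr (EX ε Y) ρ) [Nontrivial W] (h : ¬ Iso ε Y B) :
    ∀ y ∈ EO ε Y, ∀ v, (∀ w, B y v w = 0) → v = 0 := by
  let K : Submodule ℂ W := ⨅ y ∈ EO ε Y, ker (B y)
  have mK : ∀ v, v ∈ K ↔ ∀ y ∈ EO ε Y, ∀ w, B y v w = 0 := fun v => by simp [K, LinearMap.ext_iff]
  have := (hi K fun x hx v hv => (mK _).2 fun y hy w => by
    rw [← hB.cov y hy x hx, (mK v).1 hv _ (EO_mul_EX hy hx)]).resolve_right fun e => h (by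
      obtain ⟨v, hv⟩ := exists_ne (0 : W)
      exact ⟨v, hv, fun y hy => (mK v).1 (e ▸ Submodule.mem_top) y hy v⟩)
  refine fun y hy v hv => (Submodule.mem_bot ℂ).1 (this ▸ (mK v).2 fun y' hy' w => ?_)
  rw [show y' = y' * y⁻¹ * y by group, hB.cov' (EO_mul_EO hy' (EO_inv hy)) hy, hv]

theorem EAlt.trace_O (hB : EAlt ε Y ρ B) (nd : ∀ y ∈ EO ε Y, ∀ v, (∀ w, B y v w = 0) → v = 0) {y x : Γ}
    (hy : y ∈ EO ε Y) (hx : x ∈ EX ε Y) : trace ℂ _ (ρ (y * x⁻¹ * y⁻¹)) = trace ℂ _ (ρ x) :=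
  (trace_pairing (B y) (nd y hy) (fun w hw => nd _ (EO_inv hy) w fun v => by rw [hB.alt y hy, hw, neg_zero])
    (hB.move hy hx)).symm

theorem EAlt.trace_X (hB : EAlt ε Y ρ B) {y x : Γ} (hy : y ∈ EX ε Y) (hx : x ∈ EX ε Y) :
    trace ℂ _ (ρ (y * x * y⁻¹)) = trace ℂ _ (ρ x) := by
  rw [hB.mul _ (mul_mem hy hx) _ (inv_mem hy), trace_mul_comm, ← hB.mul _ (inv_mem hy) _ (mul_mem hy hx),
    inv_mul_cancel_left]

theorem EAlt.trace_int [Finite Γ] (hB : EAlt ε Y ρ B) {x : Γ} (hx : x ∈ EX ε Y) : trace ℂ _ (ρ x) ∈ R2 := by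
  have : ∀ k : ℕ, ρ x ^ k = ρ (x ^ k) := fun k => by
    induction k with
    | zero => simp [hB.one]
    | succ k ih => rw [pow_succ, ih, pow_succ, hB.mul _ (pow_mem hx _) x hx]
  exact R2_of_int (isIntegral_trace (orderOf_pos x) (by rw [this, pow_succ, pow_orderOf_eq_one, one_mul]))

open Classical in
theorem local_sum [Fintype Γ] (hB : EAlt ε Y ρ B) (nd : ∀ y ∈ EO ε Y, ∀ v, (∀ w, B y v w = 0) → v = 0) {b : Γ}
    (hb : b ∈ EX ε Y) {P : Subgroup Γ} (hP : P ≤ Y) (hc : ∀ y ∈ P, y * b ^ ((ε y : ℤˣ) : ℤ) * y⁻¹ = b)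
    (h : (∃ y ∈ P, ε y = -1) → ∃ M, P ≤ M ∧ M ≤ Y ∧ b ∈ M ∧ PP ε M) :
    (∑ u : P, if ε u = 1 then trace ℂ _ (ρ (b * u)) * trace ℂ _ (ρ (b * u)⁻¹) else 0) / Nat.card P ∈ R2 := by
  have e0 : (∑ u : P, if ε u = 1 then trace ℂ _ (ρ (b * u)) * trace ℂ _ (ρ (b * u)⁻¹) else 0) =
      ∑ u : EX ε P, trace ℂ _ (ρ (b * u)) * trace ℂ _ (ρ (b * u)⁻¹) := by
    rw [← Finset.sum_subtype (Finset.univ.filter (· ∈ P)) (by simp) fun u => if ε u = 1 then
      trace ℂ _ (ρ (b * u)) * trace ℂ _ (ρ (b * u)⁻¹) else 0, ← Finset.sum_filter, Finset.filter_filter,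
      Finset.sum_subtype (p := (· ∈ EX ε P)) (F := inferInstance) _ (by simp [mem_EX])]
  have hcm : ∀ n ∈ EX ε P, n * b = b * n := fun n hn => tw_X (hc n hn.1) hn.2
  rw [e0]
  by_cases ho : ∃ y ∈ P, ε y = -1
  swap
  · have : EX ε P = P := inf_eq_left.2 fun y hy => (EX_or_EO hy).elim (·.2) fun h => absurd ⟨y, h⟩ ho
    rw [← congrArg (fun Q : Subgroup Γ => Nat.card Q) this, Nat.card_eq_fintype_card, div_eq_inv_mul]
    exact R2_of_int (isIntegral_avg hB.one hB.mul hB.one hB.mul (fun _ => EX_mono hP) hb (isOfFinOrder_of_finite b) hcm)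
  obtain ⟨M, m1, m2, m3, m4⟩ := h ho
  obtain ⟨y, hy⟩ := ho
  replace hy : y ∈ EO ε P := hy
  obtain ⟨U, hU, tr⟩ := exists_lagr_tw (hB.mono m2) m4 (EO_mono m1 hy) fun y hy => nd y (EO_mono m2 hy)
  have hbM : b ∈ EX ε M := ⟨m3, hb.2⟩
  have hint := isIntegral_avg (N := EX ε P) (rsub_one hB.one) (rsub_mul hU (hB.mono m2).mul) hB.one (hB.mono m2).mul
    (fun _ => EX_mono m1) hbM (isOfFinOrder_of_finite b) hcm
  have hyb : y⁻¹ * b * y = b⁻¹ := by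
    conv_lhs => rw [← tw_O (hc y hy.1) hy.2]
    group
  have e1 : ∑ u : EX ε P, trace ℂ _ (ρ (b * u)) * trace ℂ _ (rsub ρ U (y⁻¹ * (b * u) * y)) =
      ∑ u : EX ε P, trace ℂ _ (ρ (b * u)) * trace ℂ _ (rsub ρ U (b * u)⁻¹) := by
    refine Fintype.sum_bijective (fun u : EX ε P => (⟨y⁻¹ * (u : Γ)⁻¹ * y, EX_conj' hy.1 (inv_mem u.2)⟩ : EX ε P))
      (Finite.injective_iff_bijective.1 fun a c h => Subtype.ext (by simpa using h)) _ _ fun u => ?_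
    have e2 : b * (y⁻¹ * (u : Γ)⁻¹ * y) = y⁻¹ * (b * u)⁻¹ * y⁻¹⁻¹ := by
      rw [← hcm u u.2, mul_inv_rev, inv_inv, ← tw_O' (hc y hy.1) hy.2]; group
    simp only [e2]
    rw [hB.trace_O nd (EO_inv (EO_mono hP hy)) (mul_mem hb (EX_mono hP u.2))]
    congr 3; group
  rw [Finset.sum_congr rfl fun (u : EX ε P) _ => by rw [tr _ (inv_mem (mul_mem hbM (EX_mono m1 u.2))), inv_inv, mul_add],
    Finset.sum_add_distrib, e1, card_EX hy, ← two_mul, Nat.cast_mul, Nat.cast_ofNat, mul_div_mul_left _ _ two_ne_zero,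
    Nat.card_eq_fintype_card, div_eq_inv_mul]
  exact R2_of_int hint

end

theorem PP.of_local {Γ : Type*} [Group Γ] [Finite Γ] {ε : Γ →* ℤˣ} {Y : Subgroup Γ}
    (h : ∀ b ∈ EX ε Y, Odd (orderOf b) → ∀ S : Subgroup Γ, S ≤ Y → IsPGroup 2 S →
      (∀ y ∈ S, y * b ^ ((ε y : ℤˣ) : ℤ) * y⁻¹ = b) → (∃ y ∈ S, ε y = -1) →
      ∃ M : Subgroup Γ, S ≤ M ∧ M ≤ Y ∧ (∀ y ∈ M, y * b ^ ((ε y : ℤˣ) : ℤ) * y⁻¹ = b) ∧ PP ε M) : PP ε Y := by
  classical
  have := Fintype.ofFinite Γ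
  refine PP.of_irr fun W _ _ _ _ ρ B hB hi => by_contra fun hn => ?_
  have nd := hB.nondeg hi hn
  obtain ⟨y0, hy0⟩ : ∃ y, y ∈ EO ε Y := by
    by_contra h0
    obtain ⟨v, hv⟩ := exists_ne (0 : W)
    exact hn ⟨v, hv, fun y hy => absurd ⟨y, hy⟩ h0⟩
  let g : Γ → ℂ := fun x => trace ℂ _ (ρ x) * trace ℂ _ (ρ x⁻¹)
  have hg : ∀ y ∈ Y, ∀ x ∈ EX ε Y, g (y * x ^ ((ε y : ℤˣ) : ℤ) * y⁻¹) = g x := fun y hy x hx => by
    simp only [g]
    rw [show (y * x ^ ((ε y : ℤˣ) : ℤ) * y⁻¹)⁻¹ = y * x⁻¹ ^ ((ε y : ℤˣ) : ℤ) * y⁻¹ by group]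
    rcases EX_or_EO (ε := ε) hy with hy | hy
    · rw [(mem_EX.1 hy).2, Units.val_one, zpow_one, zpow_one, hB.trace_X hy hx, hB.trace_X hy (inv_mem hx)]
    · rw [hy.2, Units.val_neg, Units.val_one, zpow_neg_one, zpow_neg_one, hB.trace_O nd hy hx,
        hB.trace_O nd hy (inv_mem hx)]
  obtain ⟨a, m, hm, hn⟩ := Nat.exists_eq_two_pow_mul_odd (Nat.card_pos (α := Γ)).ne'
  have hco : Nat.Coprime (2 ^ a) m := Nat.Coprime.pow_left _ (Nat.coprime_two_left.2 hm)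
  obtain ⟨E, hE1, hE2⟩ := Nat.chineseRemainder hco 0 1
  obtain ⟨E1, hE1⟩ := (Nat.modEq_zero_iff_dvd).1 hE1
  let : MulAction Y Γ :=
    { smul := fun y x => y * x ^ ((ε y : ℤˣ) : ℤ) * (y : Γ)⁻¹
      one_smul := fun x => show ((1 : Y) : Γ) * x ^ ((ε (1 : Y) : ℤˣ) : ℤ) * ((1 : Y) : Γ)⁻¹ = x by simp
      mul_smul := fun y z x => show ((y * z : Y) : Γ) * x ^ ((ε (y * z : Y) : ℤˣ) : ℤ) * ((y * z : Y) : Γ)⁻¹ =
        y * (z * x ^ ((ε z : ℤˣ) : ℤ) * (z : Γ)⁻¹) ^ ((ε y : ℤˣ) : ℤ) * (y : Γ)⁻¹ by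
          rw [conj_zpow, ← zpow_mul, Subgroup.coe_mul, map_mul, Units.val_mul, mul_comm (ε y : ℤ)]; group }
  have hs : ∀ (y : Y) (x : Γ), y • x = y * x ^ ((ε y : ℤˣ) : ℤ) * (y : Γ)⁻¹ := fun _ _ => rfl
  have hX : ∀ (y : Y) x, x ∈ EX ε Y → y • x ∈ EX ε Y := fun y x hx => EX_conj y.2 (zpow_mem hx _)
  have := orbit_sum (G := Y) (fun b => ∑ x with x ∈ EX ε Y ∧ x ^ E = b, g x) (fun y b => by
    refine Finset.sum_equiv (MulAction.toPerm y).symm (fun x => ?_) fun x hx => ?_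
    · obtain ⟨x, rfl⟩ := (MulAction.toPerm y).surjective x
      simp only [Finset.mem_filter, Finset.mem_univ, true_and, Equiv.symm_apply_apply]
      simp only [MulAction.toPerm_apply]
      refine and_congr ⟨fun h => by simpa using hX y⁻¹ _ h, hX y x⟩ ?_
      rw [show (y • x) ^ E = y • x ^ E by rw [hs, hs, conj_pow, ← zpow_natCast, ← zpow_natCast, zpow_comm],
        smul_left_cancel_iff]
    · exact (hg _ (inv_mem y.2) x (Finset.mem_filter.1 hx).2.1).symm) fun b => by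
    by_cases hb : ∃ x ∈ EX ε Y, x ^ E = b
    swap
    · rw [Finset.sum_eq_zero fun x hx => absurd ⟨x, (Finset.mem_filter.1 hx).2⟩ hb, zero_div]; exact zero_mem _
    obtain ⟨x0, hx0, e0⟩ := hb
    have hb : b ∈ EX ε Y := e0 ▸ pow_mem hx0 _
    have hbm : b ^ m = 1 := by
      rw [← e0, ← pow_mul, hE1, mul_right_comm, ← hn, pow_mul, pow_card_eq_one', one_pow]
    have hbE : b ^ E = b := by
      rw [← pow_one b, ← pow_mul, one_mul, pow_eq_pow_iff_modEq]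
      exact hE2.of_dvd (orderOf_dvd_of_pow_eq_one hbm)
    have hcard : Nat.card (stabilizer Y b) = Nat.card ((stabilizer Y b).map Y.subtype) :=
      (Subgroup.card_map_of_injective Y.subtype_injective).symm
    have mC : ∀ u, u ∈ (stabilizer Y b).map Y.subtype ↔ u ∈ Y ∧ u * b ^ ((ε u : ℤˣ) : ℤ) * u⁻¹ = b := fun u =>
      ⟨by rintro ⟨y, hy, rfl⟩; exact ⟨y.2, hy⟩, fun h => ⟨⟨u, h.1⟩, h.2, rfl⟩⟩
    rw [hcard]
    generalize (stabilizer Y b).map Y.subtype = C at mC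
    have := two_sum C (fun u => if ε u = 1 then g (b * u) else 0) (fun c hc => by
      split_ifs with h1
      · have := mul_mem hb (⟨((mC c).1 hc).1, h1⟩ : c ∈ EX ε Y)
        exact mul_mem (hB.trace_int this) (hB.trace_int (inv_mem this))
      · exact zero_mem _) (fun y hy => by
      obtain ⟨hy, hyb⟩ := (mC y).1 hy
      have key : ∀ c ∈ C, (if ε (y * c * y⁻¹) = 1 then g (b * (y * c * y⁻¹)) else 0) =
          if ε (c ^ ((ε y : ℤˣ) : ℤ)) = 1 then g (b * c ^ ((ε y : ℤˣ) : ℤ)) else 0 := fun c hc => by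
        obtain ⟨hc, hcb⟩ := (mC c).1 hc
        rcases EX_or_EO (ε := ε) hc with h1 | h1
        · rw [if_pos (mem_EX.1 (EX_conj hy h1)).2, if_pos (mem_EX.1 (zpow_mem h1 _)).2, ← hg y hy _ (mul_mem hb (zpow_mem h1 _)),
            ((Commute.symm (tw_X hcb h1.2)).zpow_right _).mul_zpow, ← zpow_mul, ← Units.val_mul, Int.units_mul_self,
            Units.val_one, zpow_one]
          congr 1
          conv_lhs => rw [← hyb]
          group
        · rw [if_neg (by simp [h1.2]), if_neg (by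
            rcases Int.units_eq_one_or (ε y) with h | h <;> simp [h, h1.2])]
      rcases Int.units_eq_one_or (ε y) with h1 | h1
      · exact Or.inl fun c hc => by rw [key c hc, h1, Units.val_one, zpow_one]
      · exact Or.inr fun c hc => by rw [key c hc, h1, Units.val_neg, Units.val_one, zpow_neg_one])
      fun P hP h2 => local_sum hB nd hb (fun y hy => ((mC y).1 (hP hy)).1) (fun y hy => ((mC y).1 (hP hy)).2) fun ho => by
        obtain ⟨M, m1, m2, m3, m4⟩ := h b hb (Odd.of_dvd_nat hm (orderOf_dvd_of_pow_eq_one hbm)) P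
          (fun y hy => ((mC y).1 (hP hy)).1) h2 (fun y hy => ((mC y).1 (hP hy)).2) ho
        obtain ⟨M', n1, n2, n3, n4⟩ := exists_adjoin m4 m2 hb m3
        exact ⟨M', m1.trans n1, n2, n3, n4⟩
    convert this using 2
    rw [← Finset.sum_filter, Finset.filter_filter]
    refine Finset.sum_equiv (Equiv.mulLeft b⁻¹) (fun x => ?_) fun x _ => by simp
    simp only [Finset.mem_filter, Finset.mem_univ, true_and, Equiv.coe_mulLeft, mC]
    constructor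
    · rintro ⟨hx, e⟩
      have h1 := mul_mem (inv_mem hb) hx
      have h2 : Commute x b := e ▸ (Commute.refl x).pow_right E
      refine ⟨⟨⟨h1.1, ?_⟩, a, ?_⟩, h1.2⟩
      · rw [(mem_EX.1 h1).2, Units.val_one, zpow_one, mul_assoc b⁻¹, h2.eq]; group
      · rw [h2.symm.inv_left.mul_pow, inv_pow, inv_mul_eq_one, ← e, ← pow_mul, pow_eq_pow_iff_modEq]
        refine Nat.ModEq.of_dvd (orderOf_dvd_natCard x) ?_
        rw [hn, mul_comm (2 ^ a) m]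
        simpa using hE2.mul_right' (2 ^ a)
    · rintro ⟨⟨⟨h1, h2⟩, j, h3⟩, h4⟩
      obtain ⟨u, rfl⟩ : ∃ u, x = b * u := ⟨b⁻¹ * x, by group⟩
      rw [inv_mul_cancel_left] at h1 h2 h3 h4
      refine ⟨mul_mem hb ⟨h1, h4⟩, ?_⟩
      have : orderOf u ∣ 2 ^ a := (Nat.Coprime.coprime_dvd_left (orderOf_dvd_of_pow_eq_one h3)
        (Nat.Coprime.pow_left _ (Nat.coprime_two_left.2 hm))).dvd_of_dvd_mul_right (hn ▸ orderOf_dvd_natCard u)
      rw [(Commute.symm (tw_X h2 h4)).mul_pow, hbE, hE1, pow_mul, orderOf_dvd_iff_pow_eq_one.1 this, one_pow, mul_one]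
  have e1 : ∑ b, ∑ x with x ∈ EX ε Y ∧ x ^ E = b, g x = ∑ x with x ∈ EX ε Y, g x := by
    simp only [Finset.sum_filter]
    rw [Finset.sum_comm]
    exact Finset.sum_congr rfl fun x _ => by by_cases h : x ∈ EX ε Y <;> simp [h]
  have e := sum_trace_irr hB.one hB.mul hi (A := 1) (A' := 1) (one_mul _)
  simp only [one_mul, mul_one] at e
  rw [e1, Finset.sum_subtype (p := (· ∈ EX ε Y)) (F := inferInstance) _ (by simp), e, card_EX hy0,
    Nat.card_eq_fintype_card, Nat.cast_mul, div_mul_cancel_right₀ (Nat.cast_ne_zero.2 Fintype.card_ne_zero)] at this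
  exact half_not_R2 this

end Cfsg.Agent.H65
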