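import Cfsg.Agent.H65.FsG5
import Cfsg.Agent.H65.FsLoc
import Cfsg.Agent.H65.FsExt

set_option autoImplicit false
set_option linter.unusedSectionVars false
set_option linter.unusedVariables false
set_option linter.unusedSimpArgs false

/-! The main induction. -/

namespace Cfsg.Agent.H65
open Module QuadraticMap

universe u
variable {F A V : Type u} [Field F] [CharP F 2] [CommRing A] [Algebra F A] [AddCommGroup V] [Module F V] [Module A V]
  [IsScalarTower F A V] {G : Geo F A V} [Finite F] [Finite V] {S : Set V} {v w : V}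

namespace Geo

theorem fix_pt {P : Subgroup ((V ≃ₗ[F] V) × ℤˣ)} (hP : IsPGroup 2 P) (T : Set V) (h0 : (0 : V) ∈ T)
    (hT : ∀ y ∈ P, ∀ x ∈ T, y.1 x ∈ T) (ι : V → V) (h1 : ∀ x ∈ T, ι x ∈ T) (h2 : ∀ x ∈ T, ι (ι x) = x)
    (h3 : ∀ x ∈ T, ι x ≠ x) : ∃ x ∈ T, x ≠ 0 ∧ ∀ y ∈ P, y.1 x = x := by
  classical
  let : MulAction P T :=
    { smul := fun y x => ⟨y.1.1 x, hT y y.2 x x.2⟩
      one_smul := fun x => rfl
      mul_smul := fun _ _ _ => rfl }
  have := Fintype.ofFinite T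
  have h := Equiv.Perm.card_fixedPoints_modEq (p := 2) (n := 1) (f := fun x : T => (⟨ι x, h1 x x.2⟩ : T))
    (funext fun x => Subtype.ext (h2 x x.2))
  rw [Fintype.card_eq_zero_iff (α := Function.fixedPoints _).2
    ⟨fun x => h3 _ x.1.2 (congrArg Subtype.val x.2)⟩] at h
  obtain ⟨x, hx, e⟩ := hP.exists_fixed_point_of_prime_dvd_card_of_fixed_point T
    (by rw [Nat.card_eq_fintype_card]; exact (Nat.modEq_zero_iff_dvd).1 h) (a := ⟨0, h0⟩)
    (fun y => Subtype.ext (map_zero y.1.1))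
  exact ⟨x, x.2, fun h => e (Subtype.ext h.symm), fun y hy => congrArg Subtype.val (hx ⟨y, hy⟩)⟩

theorem step [Finite A] (ih : G.IH S) (st : G.St S w 0)
    (hw : w = 0 → ∀ w', w' ≠ 0 → G.St S w' 0 → PP (sgn F V) (G.Y (insert w' (insert 0 S))))
    {P : Subgroup ((V ≃ₗ[F] V) × ℤˣ)} (hP : IsPGroup 2 P) (hY : P ≤ G.Y (insert w (insert 0 S))) :
    ∃ M, P ≤ M ∧ M ≤ G.Y (insert w (insert 0 S)) ∧ PP (sgn F V) M := by
  have hS : ∀ y ∈ P, y ∈ G.Y S := fun y hy => (mem_ins.1 (mem_ins.1 (hY hy)).1).1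
  have hw' : ∀ y ∈ P, y.1 w = w := fun y hy => (mem_ins.1 (hY hy)).2
  have fin : ∀ v, (∀ y ∈ P, y.1 v = v) → PP (sgn F V) (G.Y (insert w (insert v S))) →
      ∃ M, P ≤ M ∧ M ≤ G.Y (insert w (insert 0 S)) ∧ PP (sgn F V) M := fun v h1 h2 =>
    ⟨_, fun y hy => mem_ins.2 ⟨mem_ins.2 ⟨hS y hy, h1 y hy⟩, hw' y hy⟩, fun y hy =>
      mem_ins.2 ⟨mem_ins.2 ⟨(mem_ins.1 (mem_ins.1 hy).1).1, map_zero _⟩, (mem_ins.1 hy).2⟩, h2⟩
  by_cases tr : ∀ x ∈ G.U S, G.e0 • x = x
  swap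
  · obtain ⟨e, he, x0, hx0, h0⟩ := exists_pr tr
    obtain ⟨v, hv, hv0, h⟩ := fix_pt hP {x | x ∈ G.U S ∧ e • x = x} ⟨zero_mem _, smul_zero _⟩
      (fun y hy x hx => ⟨Y_U (hS y hy) hx.1, by rw [← Y_smul0 (hS y hy) he.1.1, hx.2]⟩) (fun x => x + e • x0)
      (fun x hx => ⟨add_mem hx.1 (Submodule.smul_mem _ _ hx0), by rw [smul_add, hx.2, smul_smul, he.1.2.1]⟩)
      (fun x _ => by rw [add_assoc, addV F, add_zero]) (fun x _ => by simpa using h0)
    exact fin v h (pp_J ih ⟨st.nd, st.wU, st.w0, st.wQ, hv.1, Or.inr (Or.inl ⟨e, he, hv.2⟩)⟩ hv0)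
  by_cases hx : ∀ x ∈ G.U S, polar G.Q x w = 0 → ∃ c : F, x = c • w
  · refine ⟨_, hY, le_rfl, ?_⟩
    rcases st.wQ with rfl | hQ
    · refine PP.of_trivial fun x hx' => X_ext hx'.2 fun y => sub_eq_zero.1 ?_
      obtain ⟨c, hc⟩ := hx _ (X_sub ⟨(mem_ins.1 (mem_ins.1 hx'.1).1).1, hx'.2⟩ y) (polar_zero_right _ _)
      rw [smul_zero] at hc; exact hc
    · obtain ⟨z, hz, h0⟩ : ∃ z ∈ G.U S, polar G.Q z w ≠ 0 := by
        by_contra hn
        push Not at hn
        exact hQ (by rw [st.nd.h st.wU fun y hy => by rw [polar_comm]; exact hn y hy, map_zero])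
      obtain ⟨r, hr, r1, -, r3⟩ := refl_split (S := insert w (insert 0 S)) (Or.inl rfl) st.w0 hQ (by
        rintro s (rfl | rfl | hs)
        · exact h_self _
        · exact polar_zero_left _ _
        · exact G.h_of_H (G.H_comm0 (mem_U.1 st.wU s hs)))
      refine PP.of_central (M := G.Y (insert z (insert w (insert 0 S)))) (PP_congr (ih (insert z (insert w S)) 0 0
        (card_lt (fun _ h => Or.inr (Or.inr h)) hz fun h => H_ne h0 (U_ins.1 (U_ins.1 h).1).2)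
        (nd_wz st.nd st.wU hz st.w0 (tr z hz) h0)) fun γ => by
          simp only [mem_ins, map_zero, and_true]) (fun y hy => (mem_ins.1 hy).1) fun y hy => ?_
      obtain ⟨c, hc⟩ := hx (y.1 z - z) (sub_mem (Y_U (mem_ins.1 (mem_ins.1 hy.1).1).1 hz) hz) (by
        rw [polar_sub_left, ← Y_h hy.1 z w, (mem_ins.1 hy.1).2, sub_self])
      rcases r3 y hy.1 z c h0 (by rw [← hc]; abel) with h | h
      · exact ⟨y, mem_ins.2 ⟨hy.1, h⟩, 1, one_mem _, by simp, (mul_one y).symm⟩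
      · exact ⟨y * r, mem_ins.2 ⟨mul_mem hy.1 hr.1, h⟩, r⁻¹, inv_mem hr,
          fun x hx => (Commute.inv_left (r1 x hx.1)).eq, by group⟩
  push Not at hx
  obtain ⟨x0, hx0, h1, h2⟩ := hx
  rcases st.wQ with rfl | hQ
  · obtain ⟨v, hv, hv0, h⟩ := fix_pt hP (G.U S) (zero_mem _) (fun y hy x hx => Y_U (hS y hy) hx) (fun x => x + x0)
      (fun x hx => add_mem hx hx0) (fun x _ => by rw [add_assoc, addV F, add_zero])
      (fun x _ => by simpa using h2 0)
    by_cases hQ : G.Q v = 0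
    · exact fin v h (pp_J ih ⟨st.nd, st.wU, st.w0, st.wQ, hv, Or.inr (Or.inr ⟨tr, hQ, polar_zero_right _ _⟩)⟩ hv0)
    · exact fin v h (PP_congr (hw rfl v hv0 ⟨st.nd, hv, tr v hv, Or.inr hQ, zero_mem _, Or.inl rfl⟩) fun γ => by
        simp only [mem_ins, map_zero, and_true])
  · choose d hd using fun x : V => isSquare_of_charTwo' (G.Q x / G.Q w)
    have hq : ∀ x (c : F), polar G.Q x w = 0 → G.Q (x + c • w) = G.Q x + c * c * G.Q w := fun x c h => by
      rw [G.Q_add, G.Q.map_smul, polar_smul_right, h]; simp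
    have hh : ∀ x (c : F), polar G.Q (x + c • w) w = polar G.Q x w := fun x c => by
      rw [polar_add_left, polar_smul_left, h_self]; simp
    have h3 : ∀ x, polar G.Q x w = 0 → G.Q (x + d x • w) = 0 := fun x h => by
      rw [hq x _ h, ← hd, div_mul_cancel₀ _ hQ, addV F]
    obtain ⟨v, hv, hv0, h⟩ := fix_pt hP {x | x ∈ G.U S ∧ G.Q x = 0 ∧ polar G.Q x w = 0}
      ⟨zero_mem _, map_zero _, polar_zero_left _ _⟩
      (fun y hy x hx => ⟨Y_U (hS y hy) hx.1, by rw [Y_Q (hS y hy), hx.2.1], by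
        rw [← hw' y hy, Y_h (hS y hy), hx.2.2]⟩) (fun x => x + x0 + d (x + x0) • w)
      (fun x hx => ⟨add_mem (add_mem hx.1 hx0) (U_fsmul _ st.wU), h3 _ (by rw [polar_add_left, hx.2.2, h1, add_zero]),
        by rw [hh, polar_add_left, hx.2.2, h1, add_zero]⟩)
      (fun x hx => by
        have e1 := h3 (x + x0 + d (x + x0) • w + x0) (by
          rw [polar_add_left, hh, polar_add_left, hx.2.2, h1, add_zero, add_zero])
        generalize d (x + x0 + d (x + x0) • w + x0) = c at e1 ⊢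
        have e2 : x + x0 + d (x + x0) • w + x0 + c • w = x + (d (x + x0) + c) • w := by
          linear_combination (norm := module) addV F x0
        rw [e2, hq _ _ hx.2.2, hx.2.1, zero_add, mul_eq_zero, mul_self_eq_zero] at e1
        rw [e2, e1.resolve_right hQ, zero_smul, add_zero])
      (fun x _ e => h2 (-d (x + x0)) (by linear_combination (norm := module) e))
    exact fin v h (pp_J ih ⟨st.nd, st.wU, st.w0, st.wQ, hv.1, Or.inr (Or.inr ⟨tr, hv.2⟩)⟩ hv0)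

end Geo

/-- the statement for all algebras -/
def AllP (F V : Type u) [Field F] [AddCommGroup V] [Module F V] (p : ℕ → ℕ → V → V → Prop) : Prop :=
  ∀ (A : Type u) [CommRing A] [Algebra F A] [Finite A] [Module A V] [IsScalarTower F A V] (G : Geo F A V) (S : Set V)
    (w v : V), p (Nat.card (G.U S)) (Nat.card (G.Y (insert w (insert v S)))) w v → G.St S w v →
      PP (sgn F V) (G.Y (insert w (insert v S)))

open Geo in
theorem allP_grp {n : ℕ} (ih : AllP F V fun a _ _ _ => a < n) (q : V → Prop)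
    (hq : q 0 → AllP F V fun a _ w v => a = n ∧ w ≠ 0 ∧ v = 0) : AllP F V fun a _ w v => a = n ∧ q w ∧ v = 0 := by
  suffices h : ∀ k, AllP F V fun a b w v => (a = n ∧ q w ∧ v = 0) ∧ b = k from
    fun A _ _ _ _ _ G S w v h1 st => h _ A G S w v ⟨h1, rfl⟩ st
  intro k
  induction k using Nat.strong_induction_on with
  | _ k ihk =>
  rintro A _ _ _ _ _ G S w v ⟨⟨h1, h2, rfl⟩, h3⟩ st
  refine PP.of_local fun b hb ho P hP h2P hc _ => ?_
  by_cases hall : ∀ y ∈ G.Y (insert w (insert 0 S)), y * b ^ ((sgn F V y : ℤˣ) : ℤ) * y⁻¹ = b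
  · obtain ⟨M, m1, m2, m3⟩ := step (fun S' w' v' h st' => ih A G S' w' v' (h1 ▸ h) st') st
      (fun e w' h' st' => hq (e ▸ h2) A G S w' 0 ⟨h1, h', rfl⟩ st') h2P hP
    exact ⟨M, m1, m2, fun y hy => hall y (m2 hy), m3⟩
  obtain ⟨b, s⟩ := b
  obtain rfl : s = 1 := hb.2
  obtain ⟨A', _, _, _, _, _, G', e1, e2, e3, e4⟩ := G.exists_ext b (mem_Y.1 hb.1).1 (by simpa [Prod.orderOf] using ho)
  have hY : ∀ γ, γ ∈ G'.Y (insert w (insert 0 S)) ↔
      γ ∈ G.Y (insert w (insert 0 S)) ∧ γ * (b, (1 : ℤˣ)) ^ ((sgn F V γ : ℤˣ) : ℤ) * γ⁻¹ = (b, 1) := fun γ => by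
    rw [mem_Y, e2, mem_Y (S := insert w _), Prod.ext_iff]
    simp [and_assoc, and_comm, and_left_comm]
  have hU : ∀ x, x ∈ G'.U S ↔ x ∈ G.U S := fun x => by
    simp only [mem_U]
    exact forall₂_congr fun s hs => e3 x s (Y_fix hb.1 (Or.inr (Or.inr hs)))
  refine ⟨G'.Y (insert w (insert 0 S)), fun y hy => (hY y).2 ⟨hP hy, hc y hy⟩, fun y hy => ((hY y).1 hy).1,
    fun y hy => ((hY y).1 hy).2, ihk _ ?_ A' G' S w 0 ⟨⟨?_, h2, rfl⟩, rfl⟩
      ⟨fun x hx h => st.nd.h ((hU x).1 hx) fun y hy => e1 ▸ G'.h_of_H (h y ((hU y).2 hy)), (hU w).2 st.wU,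
        e4 w (Y_fix hb.1 (Or.inl rfl)) st.w0, e1 ▸ st.wQ, zero_mem _, Or.inl rfl⟩⟩
  · rw [← h3]
    exact Set.ncard_lt_ncard (s := (G'.Y (insert w (insert 0 S)) : Set _)) (t := (G.Y (insert w (insert 0 S)) : Set _))
      ⟨fun y hy => ((hY y).1 hy).1, fun h => hall fun y hy => ((hY y).1 (h hy)).2⟩ (Set.toFinite _)
  · rw [← h1]
    exact Nat.card_congr (Equiv.subtypeEquivRight hU)

theorem allP (n : ℕ) : AllP F V fun a _ _ _ => a = n := by
  induction n using Nat.strong_induction_on with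
  | _ n ihn =>
  have ih : AllP F V fun a _ _ _ => a < n := fun A _ _ _ _ _ G S w v h st => ihn _ h A G S w v rfl st
  have h1 := allP_grp ih (fun w => w ≠ 0) fun h => absurd rfl h
  have h2 := allP_grp ih (fun _ => True) fun _ => h1
  intro A _ _ _ _ _ G S w v h st
  by_cases hv : v = 0
  · exact h2 A G S w v ⟨h, trivial, hv⟩ st
  · exact Geo.pp_J (fun S' w' v' h' st' => ih A G S' w' v' (h ▸ h') st') st hv

theorem pp_orth {F V : Type u} [Field F] [Finite F] [CharP F 2] [AddCommGroup V] [Module F V]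
    [FiniteDimensional F V] (Q : QuadraticForm F V) (hQ : ∀ a, (∀ b, QuadraticMap.polar Q a b = 0) → a = 0)
    {w : V} (hw : w = 0 ∨ Q w ≠ 0) : PP (sgn F V) (OY Q w) := by
  have : Finite V := Module.finite_of_finite F
  let G : Geo F F V :=
    { Q := Q, σ := RingHom.id F, τ := LinearMap.id, H := polar Q, e0 := 1, nondeg := hQ, σσ := fun _ => rfl
      σ_smul := fun _ _ => rfl, τσ := fun _ => rfl, τ_nd := fun c h => by simpa using h 1
      H_add := polar_add_left Q, H_smul := polar_smul_left Q, H_symm := polar_comm Q, τH := fun _ _ => rfl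
      red := fun a => mul_self_eq_zero.1, σe0 := rfl, τe0 := rfl, mul_e0 := fun a => ⟨a, rfl⟩
      dich := fun x => Or.inl (one_smul _ _) }
  have hU : ∀ x, x ∈ G.U ∅ := fun x => Geo.mem_U.2 fun _ h => h.elim
  have := allP (F := F) (V := V) _ F G ∅ w 0 rfl
    ⟨fun x _ h => hQ x fun y => h y (hU y), hU w, one_smul _ _, hw, hU 0, Or.inl rfl⟩
  convert this using 1
  ext γ
  simp only [Geo.mem_ins, map_zero, and_true]
  exact and_congr_left' ⟨fun h => ⟨⟨h, fun a x => by rw [G.sg_fix rfl, map_smul]⟩, fun _ h => h.elim⟩, fun h => h.1.1⟩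

end Cfsg.Agent.H65
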