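import Mathlib

set_option autoImplicit false

/-! Inverting involutions of isometries in characteristic two: the inductive step. -/

namespace Cfsg.Agent.H65
open Module Polynomial Submodule

universe u

variable {F V : Type u} [Field F] [AddCommGroup V] [Module F V]

theorem nd_poly {Z : Type*} [AddCommGroup Z] [Module F Z] {π : F[X]} (hπ : Prime π) {k : ℕ}
    (L1 L2 L3 L4 : F[X] →ₗ[F] Z) (h1 : ∀ q, L1 (π ^ k * q) = 0) (h4 : ∀ q, L4 (π ^ k * q) = 0)
    (h2 : ∀ q, L2 (π ^ (k + 1) * q) = 0) (h3 : ∀ q, L3 (π ^ (k + 1) * q) = 0)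
    (h2' : L2 (π ^ k) ≠ 0) (h3' : L3 (π ^ k) ≠ 0) {f g : F[X]}
    (e1 : ∀ q, L1 (q * f) + L2 (q * g) = 0) (e2 : ∀ q, L4 (q * g) + L3 (q * f) = 0) :
    π ^ (k + 1) ∣ f ∧ π ^ (k + 1) ∣ g := by
  have key : ∀ {L L' : F[X] →ₗ[F] Z} {i j : ℕ} {f g : F[X]}, i + j = k → (∀ q, L' (π ^ k * q) = 0) →
      (∀ q, L (π ^ (k + 1) * q) = 0) → L (π ^ k) ≠ 0 →
      (∀ q, L' (q * (π ^ i * f)) + L (q * (π ^ i * g)) = 0) → π ^ (i + 1) ∣ π ^ i * g := by
    rintro L L' i j f g rfl h1 h2 h3 e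
    refine pow_succ π i ▸ mul_dvd_mul_left _ (by_contra fun h => h3 ?_)
    obtain ⟨a, b, hab⟩ := hπ.irreducible.coprime_iff_not_dvd.2 h
    have := e (π ^ j * b)
    rwa [show π ^ j * b * (π ^ i * f) = π ^ (i + j) * (b * f) by ring, h1, zero_add,
      show π ^ j * b * (π ^ i * g) = π ^ (i + j) - π ^ (i + j + 1) * a by
        linear_combination π ^ (i + j) * hab, map_sub, h2, sub_zero] at this
  have : ∀ i ≤ k + 1, π ^ i ∣ f ∧ π ^ i ∣ g := fun i => by
    induction i with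
    | zero => simp
    | succ i ih =>
      intro hi
      obtain ⟨⟨f, rfl⟩, ⟨g, rfl⟩⟩ := ih (by omega)
      exact ⟨key (j := k - i) (by omega) h4 h3 h3' e2, key (j := k - i) (by omega) h1 h2 h2' e1⟩
  exact this _ le_rfl

variable {Q : QuadraticForm F V}

theorem pb_comm (a b : V) : Q.polarBilin a b = Q.polarBilin b a := QuadraticMap.polar_comm Q a b

theorem exists_gl (hQ : ∀ a, (∀ b, Q.polarBilin a b = 0) → a = 0) {I : Type*} (v v' : I → V)
    (h1 : ∀ i, Q (v' i) = Q (v i))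
    (h2 : ∀ i j, Q.polarBilin (v' i) (v' j) = Q.polarBilin (v i) (v j))
    (hs : span F (Set.range v) = ⊤) (hs' : span F (Set.range v') = ⊤) :
    ∃ y : End F V, (∀ i, y (v i) = v' i) ∧ ∀ u, Q (y u) = Q u := by
  let θ := Finsupp.linearCombination F v
  let θ' := Finsupp.linearCombination F v'
  have e1 : Q.polarBilin.compl₁₂ θ' θ' = Q.polarBilin.compl₁₂ θ θ := by
    ext i j; simpa [θ, θ'] using h2 i j
  have e2 : ∀ m m', Q.polarBilin (θ' m) (θ' m') = Q.polarBilin (θ m) (θ m') := fun m m' =>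
    LinearMap.congr_fun₂ e1 m m'
  have e3 : ∀ m, Q (θ' m) = Q (θ m) := fun m => by
    induction m using Finsupp.induction_linear with
    | zero => simp
    | add a b ha hb =>
      rw [map_add θ', map_add θ, QuadraticMap.map_add Q, QuadraticMap.map_add Q, ha, hb]
      exact congrArg _ (e2 a b)
    | single i c => simp [θ, θ', QuadraticMap.map_smul, h1]
  rw [← Finsupp.range_linearCombination] at hs hs'
  obtain ⟨g, hg⟩ := θ.exists_rightInverse_of_surjective hs
  have e4 : ∀ m, θ' (g (θ m)) = θ' m := fun m => sub_eq_zero.1 (hQ _ fun b => by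
    obtain ⟨b, rfl⟩ := LinearMap.range_eq_top.1 hs' b
    rw [← map_sub, e2, map_sub, show θ (g (θ m)) = θ m from LinearMap.congr_fun hg _]
    simp)
  refine ⟨θ' ∘ₗ g, fun i => by simpa [θ, θ'] using e4 (Finsupp.single i 1), fun u => ?_⟩
  obtain ⟨m, rfl⟩ := LinearMap.range_eq_top.1 hs u
  exact (congrArg Q (e4 m)).trans (e3 m)

theorem exists_rep [FiniteDimensional F V] (hQ : ∀ a, (∀ b, Q.polarBilin a b = 0) → a = 0)
    {M : Type*} [AddCommGroup M] [Module F M] (θ : M →ₗ[F] V) (l : M →ₗ[F] F)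
    (h : ∀ m, θ m = 0 → l m = 0) : ∃ w, ∀ m, Q.polarBilin (θ m) w = l m := by
  obtain ⟨μ, hμ⟩ := (LinearMap.range_dualMap_eq_dualAnnihilator_ker θ).ge
    ((mem_dualAnnihilator l).2 h)
  have hB : LinearMap.BilinForm.Nondegenerate Q.polarBilin :=
    ⟨hQ, fun a h => hQ a fun b => (pb_comm a b).trans (h b)⟩
  exact ⟨(LinearMap.BilinForm.toDual _ hB).symm μ, fun m => by
    rw [pb_comm, LinearMap.BilinForm.apply_toDual_symm_apply, ← hμ]; rfl⟩

variable {x : V ≃ₗ[F] V}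

theorem q_zpow (hx : ∀ v, Q (x v) = Q v) (i : ℤ) : ∀ v, Q ((x ^ i) v) = Q v := by
  induction i using Int.induction_on with
  | zero => simp
  | succ i ih => intro v; rw [zpow_add_one, LinearEquiv.mul_apply, ih, hx]
  | pred i ih =>
    intro v
    rw [zpow_sub_one, LinearEquiv.mul_apply, ih, ← hx]
    exact congrArg Q (x.apply_symm_apply v)

theorem pb_iso {y : V → V} (ha : ∀ a b, y (a + b) = y a + y b) (hy : ∀ v, Q (y v) = Q v) (a b : V) :
    Q.polarBilin (y a) (y b) = Q.polarBilin a b := by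
  simp only [QuadraticMap.polarBilin_apply_apply, QuadraticMap.polar, ← ha, hy]

theorem zpow_zpow_apply (i j : ℤ) (v : V) : (x ^ i) ((x ^ j) v) = (x ^ (i + j)) v := by
  rw [zpow_add, LinearEquiv.mul_apply]

theorem pb_zpow (hx : ∀ v, Q (x v) = Q v) (i j : ℤ) (a b : V) :
    Q.polarBilin ((x ^ i) a) ((x ^ j) b) = Q.polarBilin ((x ^ (i - j)) a) b := by
  rw [← pb_iso (map_add _) (q_zpow hx (-j)), zpow_zpow_apply, zpow_zpow_apply, neg_add_cancel,
    neg_add_eq_sub]
  rfl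

variable (Q x) in
/-- there is a good inverting involution -/
def GoodInv : Prop := ∃ y : End F V, (∀ v, y (y v) = v) ∧ (∀ v, Q (y v) = Q v) ∧
  (∀ v, x (y (x v)) = y v) ∧ ∀ v, y v = v → ∃ a, v = y a + a

variable (Q) in
/-- the induction hypothesis -/
def GoodIH : Prop := ∀ U : Submodule F V, U ≠ ⊤ →
  (∀ a : U, (∀ b : U, Q.polarBilin a b = 0) → a = 0) →
    ∀ x' : U ≃ₗ[F] U, (∀ v, Q (x' v) = Q v) → GoodInv (Q.comp U.subtype) x'

theorem semi_aeval {y T T' : End F V} (h : y * T = T' * y) (f : F[X]) (a : V) :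
    y (aeval T f a) = aeval T' f (y a) := by
  refine LinearMap.congr_fun (show y * aeval T f = aeval T' f * y from ?_) a
  induction f using Polynomial.induction_on' with
  | add f g h1 h2 => simp only [map_add, mul_add, add_mul, h1, h2]
  | monomial m a =>
    rw [aeval_monomial, aeval_monomial, ← mul_assoc, ← Algebra.commutes, mul_assoc, mul_assoc,
      (SemiconjBy.pow_right h m).eq]

theorem add_self_two (F : Type u) [Field F] [CharP F 2] [Module F V] (v : V) : v + v = 0 := by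
  rw [← two_smul F v, CharTwo.two_eq_zero, zero_smul]

theorem good_step [CharP F 2] [FiniteDimensional F V]
    (hQ : ∀ a, (∀ b, Q.polarBilin a b = 0) → a = 0) (hx : ∀ v, Q (x v) = Q v)
    (ih : GoodIH Q) {T : End F V} {p π : F[X]}
    (hp : ∀ y : End F V, (∀ v, x (y (x v)) = y v) → y * T = aeval T p * y)
    (hT : ∀ U : Submodule F V, (∀ i : ℤ, ∀ v ∈ U, (x ^ i) v ∈ U) → ∀ v ∈ U, T v ∈ U) {w w' : V}
    (hw : Q w = Q w') (ha : ∀ i : ℤ, Q.polarBilin ((x ^ i) w) w = Q.polarBilin ((x ^ i) w') w')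
    (hπ : Prime π) {k : ℕ} (z : aeval T (π ^ (k + 1)) w = 0) (z' : aeval T (π ^ (k + 1)) w' = 0)
    (d : ∀ q, Q.polarBilin (aeval T (π ^ k * q) w) w = 0)
    (d' : ∀ q, Q.polarBilin (aeval T (π ^ k * q) w') w' = 0)
    (n : Q.polarBilin (aeval T (π ^ k) w) w' ≠ 0) (n' : Q.polarBilin (aeval T (π ^ k) w') w ≠ 0)
    (hs : ∀ i : ℤ, ∃ f g : F[X], (x ^ i) w = aeval T f w + aeval T g w')
    (hs' : ∀ i : ℤ, ∃ f g : F[X], (x ^ i) w' = aeval T f w + aeval T g w') : GoodInv Q x := by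
  let v : ℤ ⊕ ℤ → V := Sum.elim (fun i => (x ^ i) w) fun i => (x ^ i) w'
  let v' : ℤ ⊕ ℤ → V := Sum.elim (fun i => (x ^ (-i)) w') fun i => (x ^ (-i)) w
  let C := span F (Set.range v)
  let U := LinearMap.BilinForm.orthogonal Q.polarBilin C
  have hv : ∀ i, v i ∈ C := fun i => subset_span ⟨i, rfl⟩
  have hv' : ∀ i, v' i ∈ C := by rintro (i | i); exacts [hv (.inr (-i)), hv (.inl (-i))]
  have hCx : ∀ i : ℤ, ∀ c ∈ C, (x ^ i) c ∈ C := fun i c hc =>
    mem_comap.1 (span_le (p := comap ((x ^ i : V ≃ₗ[F] V) : V →ₗ[F] V) C).2 (by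
      rintro _ ⟨j | j, rfl⟩
      · change (x ^ i) ((x ^ j) w) ∈ C
        rw [zpow_zpow_apply]; exact hv (.inl (i + j))
      · change (x ^ i) ((x ^ j) w') ∈ C
        rw [zpow_zpow_apply]; exact hv (.inr (i + j))) hc)
  have hUx : ∀ i : ℤ, ∀ u ∈ U, (x ^ i) u ∈ U := fun i u hu c hc =>
    (pb_zpow hx 0 i c u).trans (hu _ (hCx _ c hc))
  have hC : ∀ c ∈ C, ∃ f g : F[X], c = aeval T f w + aeval T g w' := fun c hc => by
    induction hc using span_induction with
    | mem _ h => obtain ⟨j | j, rfl⟩ := h; exacts [hs j, hs' j]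
    | zero => exact ⟨0, 0, by simp⟩
    | add _ _ _ _ h1 h2 =>
      obtain ⟨f, g, rfl⟩ := h1
      obtain ⟨f', g', rfl⟩ := h2
      exact ⟨f + f', g + g', by simp only [map_add, LinearMap.add_apply]; abel⟩
    | smul a _ _ h1 =>
      obtain ⟨f, g, rfl⟩ := h1
      exact ⟨a • f, a • g, by simp⟩
  have kill : ∀ {a : V} {f : F[X]}, aeval T (π ^ (k + 1)) a = 0 → π ^ (k + 1) ∣ f →
      aeval T f a = 0 := by
    rintro a _ h ⟨q, rfl⟩
    rw [mul_comm, map_mul, End.mul_apply, h, map_zero]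
  have free : ∀ f g : F[X], aeval T f w + aeval T g w' ∈ U → aeval T f w = 0 ∧ aeval T g w' = 0 := by
    intro f g h
    let L : V → V → F[X] →ₗ[F] F := fun a b =>
      Q.polarBilin.flip b ∘ₗ LinearMap.applyₗ a ∘ₗ (aeval T).toLinearMap
    have hL : ∀ a b q, L a b q = Q.polarBilin (aeval T q a) b := fun _ _ _ => rfl
    have e : ∀ q, ∀ c ∈ C, L w c (q * f) + L w' c (q * g) = 0 := fun q c hc => by
      rw [hL, hL, map_mul, map_mul, End.mul_apply, End.mul_apply, ← LinearMap.add_apply, ← map_add,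
        ← map_add, pb_comm]
      exact aeval_apply_smul_mem_of_le_comap h q T (hT U hUx) c hc
    have := nd_poly hπ (L w w) (L w' w) (L w w') (L w' w') d d'
      (fun q => by rw [hL, kill z' (dvd_mul_right _ _)]; simp)
      (fun q => by rw [hL, kill z (dvd_mul_right _ _)]; simp) n' n (f := f) (g := g)
      (fun q => e q w (hv (.inl 0))) fun q => (add_comm _ _).trans (e q w' (hv (.inr 0)))
    exact ⟨kill z this.1, kill z' this.2⟩
  have hc : IsCompl C U := (LinearMap.BilinForm.isCompl_orthogonal_iff_disjoint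
    fun a b h => (pb_comm b a).trans h).2 (disjoint_def.2 fun c h1 h2 => by
      obtain ⟨f, g, rfl⟩ := hC c h1
      rw [(free f g h2).1, (free f g h2).2, add_zero])
  have dec : ∀ a, ∃ c ∈ C, ∃ u ∈ U, c + u = a := fun a => mem_sup.1 (hc.sup_eq_top ▸ mem_top)
  obtain ⟨y', y1, y2, y3, y4⟩ := ih U (fun h => n ((pb_comm _ _).trans
    ((h ▸ mem_top : _ ∈ U) w' (hv (.inr 0))))) (fun a h => Subtype.ext (hQ _ fun b => by
      obtain ⟨c, h1, u, h2, rfl⟩ := dec b
      rw [map_add, h ⟨u, h2⟩, pb_comm, a.2 c h1, add_zero]))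
    (.ofInjectiveEndo ((x : V →ₗ[F] V).restrict (hUx 1)) fun a b h =>
      Subtype.ext (x.injective (congrArg Subtype.val h))) fun v => hx v
  have sp : ∀ {a : (ℤ ⊕ ℤ) ⊕ U → V}, (∀ i, ∃ j, a j = v i) → (∀ u : U, ∃ j, a j = u) →
      span F (Set.range a) = ⊤ := fun h1 h2 => top_unique (hc.sup_eq_top ▸ sup_le
    (span_mono (by rintro _ ⟨i, rfl⟩; exact h1 i)) fun u hu => subset_span (h2 ⟨u, hu⟩))
  have sp1 := sp (a := Sum.elim v Subtype.val) (fun i => ⟨.inl i, rfl⟩) fun u => ⟨.inr u, rfl⟩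
  have sw : ∀ (i j : ℤ) (a b : V), Q.polarBilin ((x ^ (-i)) a) ((x ^ (-j)) b) =
      Q.polarBilin ((x ^ (i - j)) b) a := fun i j a b => by
    rw [pb_comm, pb_zpow hx, neg_sub_neg]
  obtain ⟨y, hy, hyQ⟩ := exists_gl hQ (Sum.elim v Subtype.val) (Sum.elim v' fun u => y' u)
    (by
      rintro ((i | i) | u)
      · exact (q_zpow hx _ _).trans (hw.symm.trans (q_zpow hx _ _).symm)
      · exact (q_zpow hx _ _).trans (hw.trans (q_zpow hx _ _).symm)
      · exact y2 u)
    (by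
      rintro (i | u) (j | u')
      · rcases i with i | i <;> rcases j with j | j
        · exact (sw ..).trans ((ha _).symm.trans (pb_zpow hx ..).symm)
        · exact (sw ..).trans (pb_zpow hx ..).symm
        · exact (sw ..).trans (pb_zpow hx ..).symm
        · exact (sw ..).trans ((ha _).trans (pb_zpow hx ..).symm)
      · exact ((y' u').2 _ (hv' i)).trans (u'.2 _ (hv i)).symm
      · exact ((pb_comm _ _).trans ((y' u).2 _ (hv' j))).trans
          ((pb_comm _ _).trans (u.2 _ (hv j))).symm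
      · simp only [Sum.elim_inr, QuadraticMap.polarBilin_apply_apply, QuadraticMap.polar,
          ← Submodule.coe_add, ← map_add]
        exact congrArg₂ _ (congrArg₂ _ (y2 _) (y2 _)) (y2 _)) sp1
    (sp (by
      rintro (i | i)
      · exact ⟨.inl (.inr (-i)), congrArg (fun j : ℤ => (x ^ j) w) (neg_neg i)⟩
      · exact ⟨.inl (.inl (-i)), congrArg (fun j : ℤ => (x ^ j) w') (neg_neg i)⟩)
      fun u => ⟨.inr (y' u), congrArg Subtype.val (y1 u)⟩)
  have a1 : ∀ i : ℤ, y ((x ^ i) w) = (x ^ (-i)) w' := fun i => hy (.inl (.inl i))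
  have a2 : ∀ i : ℤ, y ((x ^ i) w') = (x ^ (-i)) w := fun i => hy (.inl (.inr i))
  have a3 : ∀ u : U, y u = y' u := fun u => hy (.inr u)
  have b1 : ∀ v, y (y v) = v := LinearMap.congr_fun (LinearMap.ext_on_range sp1
    (f := y ∘ₗ y) (g := .id) (by
      rintro ((i | i) | u)
      · exact (congrArg y (a1 i)).trans (by rw [a2, neg_neg]; rfl)
      · exact (congrArg y (a2 i)).trans (by rw [a1, neg_neg]; rfl)
      · exact (congrArg y (a3 u)).trans ((a3 _).trans (congrArg _ (y1 u)))))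
  have x1 : ∀ (i : ℤ) (a : V), x ((x ^ i) a) = (x ^ (1 + i)) a := zpow_zpow_apply 1
  have b2 : ∀ v, x (y (x v)) = y v := LinearMap.congr_fun (LinearMap.ext_on_range sp1
    (f := (x : V →ₗ[F] V) ∘ₗ y ∘ₗ (x : V →ₗ[F] V)) (g := y) (by
      rintro ((i | i) | u)
      · change x (y (x ((x ^ i) w))) = y ((x ^ i) w)
        rw [x1, a1, a1, x1]; simp
      · change x (y (x ((x ^ i) w'))) = y ((x ^ i) w')
        rw [x1, a2, a2, x1]; simp
      · exact (congrArg x (a3 ⟨_, hUx 1 u u.2⟩)).trans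
          ((congrArg Subtype.val (y3 u)).trans (a3 u).symm)))
  refine ⟨y, b1, hyQ, b2, fun a h => ?_⟩
  obtain ⟨c, h1, u, h2, rfl⟩ := dec a
  have h3 : y c ∈ C := mem_comap.1 (span_le (p := comap y C).2 (by
    rintro _ ⟨j, rfl⟩
    exact (show y (v j) = v' j from hy (.inl j)).symm ▸ (hv' j) |> mem_comap.2) h1)
  have h4 : y c - c = u - y' ⟨u, h2⟩ := by
    rw [← a3, sub_eq_sub_iff_add_eq_add, ← map_add, h, add_comm]
  have h5 := disjoint_def.1 hc.disjoint _ (sub_mem h3 h1) (h4 ▸ sub_mem h2 (y' _).2)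
  obtain ⟨u', hu'⟩ := y4 ⟨u, h2⟩ (Subtype.ext (sub_eq_zero.1 (h4.symm.trans h5)).symm)
  obtain ⟨f, g, rfl⟩ := hC c h1
  have h6 : ∀ (f : F[X]) a, y (aeval T f a) = aeval T (f.comp p) (y a) := fun f a => by
    rw [aeval_comp, semi_aeval (hp y b2)]
  have h7 := (free (g.comp p - f) (f.comp p - g) (by
    rw [map_add, h6, h6, show y w = w' from a1 0, show y w' = w from a2 0] at h5
    rw [map_sub, map_sub, LinearMap.sub_apply, LinearMap.sub_apply]
    convert U.zero_mem using 1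
    rw [← h5]; abel)).2
  rw [map_sub, LinearMap.sub_apply, sub_eq_zero] at h7
  refine ⟨aeval T f w + u', ?_⟩
  rw [map_add, h6, show y w = w' from a1 0, h7, a3, show u = y' u' + u' from congrArg Subtype.val hu']
  abel

end Cfsg.Agent.H65
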