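import Cfsg.Agent.H65.FsDef

set_option autoImplicit false
set_option linter.unusedSectionVars false
set_option linter.unusedVariables false

/-! Trace tools. -/

namespace Cfsg.Agent.H65
open Module LinearMap

section
variable {U W : Type*} [AddCommGroup U] [Module ℂ U] [AddCommGroup W] [Module ℂ W]

/-- two-sided multiplication -/
noncomputable def lr (A : End ℂ W) (C : End ℂ U) : End ℂ (U →ₗ[ℂ] W) := llcomp ℂ U W W A ∘ₗ lcomp ℂ W C

theorem lr_apply (A : End ℂ W) (C : End ℂ U) (f : U →ₗ[ℂ] W) : lr A C f = A ∘ₗ f ∘ₗ C := rfl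

theorem lr_mul (A A' : End ℂ W) (C C' : End ℂ U) : lr A C * lr A' C' = lr (A * A') (C' * C) := rfl

theorem lr_one : lr (1 : End ℂ W) (1 : End ℂ U) = 1 := rfl

variable [FiniteDimensional ℂ U] [FiniteDimensional ℂ W]

theorem trace_lr (A : End ℂ W) (C : End ℂ U) : trace ℂ _ (lr A C) = trace ℂ _ A * trace ℂ _ C := by
  have : lr A C = (dualTensorHomEquiv ℂ U W).conj (TensorProduct.map (Dual.transpose C) A) := by
    rw [LinearEquiv.conj_apply, LinearEquiv.eq_comp_toLinearMap_symm]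
    ext φ w u
    simp [lr_apply, Dual.transpose_apply]
  rw [this, trace_conj', trace_tensorProduct', trace_transpose', mul_comm]

theorem trace_pairing (β : U →ₗ[ℂ] W →ₗ[ℂ] ℂ) (h1 : ∀ a, (∀ w, β a w = 0) → a = 0) (h2 : ∀ w, (∀ a, β a w = 0) → w = 0)
    {f : End ℂ U} {g : End ℂ W} (h : ∀ a w, β (f a) w = β a (g w)) : trace ℂ _ f = trace ℂ _ g := by
  have i1 : Function.Injective β := (injective_iff_map_eq_zero _).2 fun a ha => h1 a fun w => by rw [ha]; rfl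
  have i2 : Function.Injective β.flip := (injective_iff_map_eq_zero _).2 fun w hw => h2 w fun a => congr($hw a)
  have d1 := finrank_le_finrank_of_injective i1
  have d2 := finrank_le_finrank_of_injective i2
  rw [Subspace.dual_finrank_eq] at d1 d2
  let e := LinearEquiv.ofBijective β ⟨i1, (injective_iff_surjective_of_finrank_eq_finrank (by
    rw [Subspace.dual_finrank_eq]; omega)).1 i1⟩
  rw [← trace_conj' f e, ← trace_transpose' g]
  congr 1
  ext φ w
  obtain ⟨a, rfl⟩ := e.surjective φ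
  rw [LinearEquiv.conj_apply_apply, e.symm_apply_apply]
  exact h a w

theorem isIntegral_trace {T : End ℂ W} {m : ℕ} (hm : 0 < m) (h : T ^ (m + 1) = T) : IsIntegral ℤ (trace ℂ _ T) := by
  rw [Module.End.trace_eq_sum_roots_charpoly_of_splits (IsAlgClosed.splits _)]
  refine IsIntegral.multiset_sum fun c hc => ?_
  obtain ⟨v, hv⟩ := ((Module.End.hasEigenvalue_iff_isRoot_charpoly T c).2 (Polynomial.isRoot_of_mem_roots hc)).exists_hasEigenvector
  have := hv.pow_apply (m + 1)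
  rw [h, hv.apply_eq_smul] at this
  have e := smul_left_injective ℂ hv.2 this
  refine ⟨Polynomial.X ^ (m + 1) - Polynomial.X, ?_, by simp [← e]⟩
  exact Polynomial.Monic.sub_of_left (Polynomial.monic_X_pow _) (by
    rw [Polynomial.degree_X, Polynomial.degree_X_pow]; exact_mod_cast (by omega))

end

variable {Γ : Type*} [Group Γ] {N : Subgroup Γ} [Fintype N]

theorem avg_comm {U W : Type*} [AddCommGroup U] [Module ℂ U] [AddCommGroup W] [Module ℂ W] {θ : Γ → End ℂ U}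
    {ρ : Γ → End ℂ W} (hθ : ∀ x ∈ N, ∀ y ∈ N, θ (x * y) = θ x * θ y) (hρ : ∀ x ∈ N, ∀ y ∈ N, ρ (x * y) = ρ x * ρ y)
    (f : U →ₗ[ℂ] W) {q : Γ} (hq : q ∈ N) :
    (∑ n : N, lr (ρ n) (θ (n : Γ)⁻¹)) f ∘ₗ θ q = ρ q ∘ₗ (∑ n : N, lr (ρ n) (θ (n : Γ)⁻¹)) f := by
  ext u
  simp only [LinearMap.sum_apply, comp_apply, lr_apply, map_sum]
  refine (Fintype.sum_equiv (Equiv.mulLeft (⟨q, hq⟩ : N)) _ _ fun n => ?_).symm
  simp only [Equiv.coe_mulLeft, Subgroup.coe_mul]
  rw [hρ q hq n n.2, ← Module.End.mul_apply (θ _), ← hθ _ (inv_mem (mul_mem hq n.2)) q hq]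
  simp

variable {W : Type} [AddCommGroup W] [Module ℂ W] [FiniteDimensional ℂ W] {θ ρ : Γ → End ℂ W}

theorem sum_trace_irr [Nontrivial W] (h1 : θ 1 = 1) (hθ : ∀ x ∈ N, ∀ y ∈ N, θ (x * y) = θ x * θ y) (hi : Irr N θ)
    {A A' : End ℂ W} (hA : A * A' = 1) :
    ∑ q : N, trace ℂ _ (A * θ q) * trace ℂ _ (θ (q : Γ)⁻¹ * A') = Fintype.card N := by
  have hN : (Fintype.card N : ℂ) ≠ 0 := Nat.cast_ne_zero.2 Fintype.card_ne_zero
  have : IsProj (Submodule.span ℂ {(1 : End ℂ W)})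
      ((Fintype.card N : ℂ)⁻¹ • (lr A A' * ∑ n : N, lr (θ n) (θ (n : Γ)⁻¹))) := by
    refine ⟨fun f => ?_, fun f hf => ?_⟩
    · obtain ⟨c, hc⟩ := hi.schur (f := (∑ n : N, lr (θ n) (θ (n : Γ)⁻¹)) f) fun q hq => avg_comm hθ hθ f hq
      rw [LinearMap.smul_apply, Module.End.mul_apply, hc, map_smul, show lr A A' 1 = 1 from hA]
      exact Submodule.smul_mem _ _ (Submodule.smul_mem _ _ (Submodule.mem_span_singleton_self _))
    · obtain ⟨c, rfl⟩ := Submodule.mem_span_singleton.1 hf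
      have : ∀ n : N, lr (θ n) (θ (n : Γ)⁻¹) 1 = 1 := fun n => by
        show θ n * θ (n : Γ)⁻¹ = 1
        rw [← hθ _ n.2 _ (inv_mem n.2), mul_inv_cancel, h1]
      rw [map_smul, LinearMap.smul_apply, Module.End.mul_apply, LinearMap.sum_apply]
      simp only [this, Finset.sum_const, Finset.card_univ, map_nsmul, show lr A A' 1 = 1 from hA]
      rw [← Nat.cast_smul_eq_nsmul ℂ, inv_smul_smul₀ hN]
  have h := this.trace
  rw [finrank_span_singleton one_ne_zero, map_smul, Finset.mul_sum, map_sum] at h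
  simp only [lr_mul, trace_lr, smul_eq_mul, Nat.cast_one] at h
  exact ((inv_mul_eq_one₀ hN).1 h).symm

theorem exists_itw_irr (hθ : ∀ x ∈ N, ∀ y ∈ N, θ (x * y) = θ x * θ y) (hρ : ∀ x ∈ N, ∀ y ∈ N, ρ (x * y) = ρ x * ρ y)
    (hi : Irr N θ) (h : ∑ q : N, trace ℂ _ (ρ q) * trace ℂ _ (θ (q : Γ)⁻¹) ≠ 0) :
    ∃ R : End ℂ W, IsUnit R ∧ ∀ q ∈ N, R * θ q = ρ q * R := by
  have : ∃ f, (∑ n : N, lr (ρ n) (θ (n : Γ)⁻¹)) f ≠ 0 := by
    by_contra hn
    push Not at hn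
    have := congrArg (trace ℂ _) (LinearMap.ext hn : ∑ n : N, lr (ρ n) (θ (n : Γ)⁻¹) = 0)
    simp only [map_sum, trace_lr, map_zero] at this
    exact h this
  obtain ⟨f, hf⟩ := this
  refine ⟨_, (isUnit_iff_ker_eq_bot _).2 ((hi _ fun q hq v hv => ?_).resolve_right (by rwa [ker_eq_top])),
    fun q hq => avg_comm hθ hρ f hq⟩
  rw [mem_ker] at hv ⊢
  rw [← comp_apply, avg_comm hθ hρ f hq, comp_apply, hv, map_zero]

theorem exists_compl (h1 : ρ 1 = 1) (hρ : ∀ x ∈ N, ∀ y ∈ N, ρ (x * y) = ρ x * ρ y) {U : Submodule ℂ W}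
    (hU : Inv N ρ U) : ∃ U', IsCompl U U' ∧ Inv N ρ U' := by
  have hN : (Fintype.card N : ℂ) ≠ 0 := Nat.cast_ne_zero.2 Fintype.card_ne_zero
  obtain ⟨U0, h0⟩ := U.exists_isCompl
  let π := U.projection U0 h0
  have hp : IsProj U ((Fintype.card N : ℂ)⁻¹ • (∑ n : N, lr (ρ n) (ρ (n : Γ)⁻¹)) π) := by
    refine ⟨fun x => Submodule.smul_mem _ _ ?_, fun x hx => ?_⟩
    · simp only [LinearMap.sum_apply, lr_apply, comp_apply]
      exact sum_mem fun n _ => hU n n.2 _ (Submodule.projection_apply_mem _ _)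
    · have : ∀ n : N, ρ n (π (ρ (n : Γ)⁻¹ x)) = x := fun n => by
        rw [Submodule.projection_apply_of_mem_left _ (hU _ (inv_mem n.2) x hx), ← Module.End.mul_apply,
          ← hρ _ n.2 _ (inv_mem n.2), mul_inv_cancel, h1]; rfl
      simp only [LinearMap.smul_apply, LinearMap.sum_apply, lr_apply, comp_apply, this, Finset.sum_const, Finset.card_univ]
      rw [← Nat.cast_smul_eq_nsmul ℂ, smul_smul, inv_mul_cancel₀ hN, one_smul]
  refine ⟨_, hp.isCompl, fun q hq v hv => ?_⟩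
  rw [mem_ker, LinearMap.smul_apply, smul_eq_zero_iff_right (inv_ne_zero hN)] at hv ⊢
  rw [← comp_apply, avg_comm hρ hρ π hq, comp_apply, hv, map_zero]

omit [Fintype N] in
theorem trace_compl {U U' : Submodule ℂ W} (h : IsCompl U U') (hU : Inv N ρ U) (hU' : Inv N ρ U') {x : Γ} (hx : x ∈ N) :
    trace ℂ _ (ρ x) = trace ℂ _ (rsub ρ U x) + trace ℂ _ (rsub ρ U' x) := by
  rw [← trace_prodMap', ← trace_conj' _ (Submodule.prodEquivOfIsCompl U U' h)]
  congr 1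
  ext v
  obtain ⟨⟨a, b⟩, rfl⟩ := (Submodule.prodEquivOfIsCompl U U' h).surjective v
  rw [LinearEquiv.conj_apply_apply, LinearEquiv.symm_apply_apply]
  simp [coe_rsub (hU x hx), coe_rsub (hU' x hx)]

theorem isIntegral_avg {U : Type} [AddCommGroup U] [Module ℂ U] [FiniteDimensional ℂ U] {X : Subgroup Γ}
    {θ : Γ → End ℂ U} (h1 : θ 1 = 1) (hθ : ∀ x ∈ X, ∀ y ∈ X, θ (x * y) = θ x * θ y) (h1' : ρ 1 = 1)
    (hρ : ∀ x ∈ X, ∀ y ∈ X, ρ (x * y) = ρ x * ρ y) (hN : N ≤ X) {b : Γ} (hb : b ∈ X) (hfin : IsOfFinOrder b)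
    (hc : ∀ n ∈ N, n * b = b * n) :
    IsIntegral ℤ ((Fintype.card N : ℂ)⁻¹ * ∑ n : N, trace ℂ _ (ρ (b * n)) * trace ℂ _ (θ (b * n)⁻¹)) := by
  have hN0 : (Fintype.card N : ℂ) ≠ 0 := Nat.cast_ne_zero.2 Fintype.card_ne_zero
  let L : Γ → End ℂ (U →ₗ[ℂ] W) := fun x => lr (ρ x) (θ x⁻¹)
  have hL : ∀ x ∈ X, ∀ y ∈ X, L (x * y) = L x * L y := fun x hx y hy => by
    simp only [L, lr_mul, mul_inv_rev, hρ x hx y hy, hθ _ (inv_mem hy) _ (inv_mem hx)]
  let T : Γ → End ℂ (U →ₗ[ℂ] W) := fun x => (Fintype.card N : ℂ)⁻¹ • ∑ n : N, L (x * n)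
  have hT : ∀ k : ℕ, T b ^ (k + 1) = T (b ^ (k + 1)) := fun k => by
    induction k with
    | zero => simp
    | succ k ih =>
      rw [pow_succ', ih]
      have : ∀ n : N, L (b * n) * ∑ m : N, L (b ^ (k + 1) * m) = ∑ m : N, L (b ^ (k + 1 + 1) * m) := fun n => by
        rw [Finset.mul_sum]
        refine Fintype.sum_equiv (Equiv.mulLeft n) _ _ fun m => ?_
        rw [← hL _ (mul_mem hb (hN n.2)) _ (mul_mem (pow_mem hb _) (hN m.2)), Equiv.coe_mulLeft, Subgroup.coe_mul,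
          mul_assoc, ← mul_assoc (n : Γ), (Commute.pow_right (hc n n.2) _).eq, pow_succ' b (k + 1)]
        simp only [mul_assoc]
      simp only [T, smul_mul_assoc, mul_smul_comm, Finset.sum_mul, this, Finset.sum_const, Finset.card_univ]
      rw [← Nat.cast_smul_eq_nsmul ℂ, smul_smul, smul_smul, mul_assoc, inv_mul_cancel₀ hN0, mul_one]
  have := isIntegral_trace (T := T b) hfin.orderOf_pos (by rw [hT, pow_succ, pow_orderOf_eq_one, one_mul])
  simpa only [T, L, map_smul, map_sum, trace_lr, smul_eq_mul] using this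

end Cfsg.Agent.H65
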