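import Cfsg.Agent.H65.FsTr
import Cfsg.Agent.H5.Eigen

set_option autoImplicit false
set_option linter.unusedSectionVars false
set_option linter.unusedVariables false

/-! Normalising intertwiners by two determinants. -/

namespace Cfsg.Agent.H65
open Module LinearMap Matrix

theorem exists_odd_mult {ι : Type*} [Fintype ι] (μ : ι → ℂ) {o : ℕ} (ho : 0 < o) (h : ∀ i, μ i ^ o = 1)
    (h1 : (∑ i, μ i) * ∑ i, (μ i)⁻¹ = 1) : ∃ ζ, Odd (Set.ncard {i | μ i = ζ}) := by
  classical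
  by_contra hn
  push Not at hn
  have key : ∀ f : ℂ → ℂ, (∀ i, IsIntegral ℤ (f (μ i))) → ∃ a, IsIntegral ℤ a ∧ ∑ i, f (μ i) = 2 * a := fun f hf => by
    choose k hk using fun ζ => Nat.not_odd_iff_even.1 (hn ζ)
    refine ⟨∑ ζ ∈ Finset.univ.image μ, k ζ * f ζ, IsIntegral.sum _ fun ζ hζ => ?_, ?_⟩
    · obtain ⟨i, -, rfl⟩ := Finset.mem_image.1 hζ
      exact (isIntegral_natCast _).mul (hf i)
    · rw [Finset.sum_comp f μ, Finset.mul_sum]
      refine Finset.sum_congr rfl fun ζ _ => ?_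
      have := hk ζ
      rw [Set.ncard_eq_toFinset_card', Set.toFinset_ofPred] at this
      rw [this, nsmul_eq_mul]; push_cast; ring
  have hi : ∀ x : ℂ, x ^ o = 1 → IsIntegral ℤ x := fun x hx => IsIntegral.of_pow ho (hx ▸ isIntegral_one)
  obtain ⟨a, ha, e1⟩ := key (fun x => x) fun i => hi _ (h i)
  obtain ⟨b, hb, e2⟩ := key (·⁻¹) fun i => hi _ (by rw [inv_pow, h i, inv_one])
  rw [e1, e2] at h1
  have : IsIntegral ℤ (algebraMap ℚ ℂ (1 / 4)) := by
    rw [map_div₀, map_one, map_ofNat, show (1 / 4 : ℂ) = a * b by linear_combination -h1 / 4]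
    exact ha.mul hb
  obtain ⟨n, hn⟩ := IsIntegrallyClosed.isIntegral_iff.1 ((isIntegral_algebraMap_iff (algebraMap ℚ ℂ).injective).1 this)
  have : (4 * n : ℤ) = 1 := by
    have : (n : ℚ) = 1 / 4 := hn
    exact_mod_cast (by rw [this]; norm_num : (4 * n : ℚ) = 1)
  omega

variable {E : Type} [AddCommGroup E] [Module ℂ E] [FiniteDimensional ℂ E]

theorem exists_nn {τ τ' : End ℂ E} {o k : ℕ} (ho : 0 < o) (hτ : τ ^ o = 1) (hτ' : τ * τ' = 1)
    (ht : trace ℂ _ τ * trace ℂ _ τ' = 1) (hd : finrank ℂ E ∣ 2 ^ k) :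
    ∃ (tp : End ℂ E → End ℂ E) (J : E →ₗ[ℂ] E →ₗ[ℂ] ℂ) (nn : End ℂ E → ℂ), (∀ a b, J a b = J b a) ∧
      (∀ F : E →ₗ[ℂ] E →ₗ[ℂ] ℂ, ∃ A : End ℂ E, ∀ a b, F a b = J (A a) b) ∧ (∀ a, (∀ b, J a b = 0) → a = 0) ∧
      (∀ (f : End ℂ E) a b, J (f a) b = J a (tp f b)) ∧ tp τ = τ ∧ (∀ f, trace ℂ _ (tp f) = trace ℂ _ f) ∧
      (∀ f g, Commute f τ → Commute g τ → nn (f * g) = nn f * nn g) ∧ nn 1 = 1 ∧
      (∀ f (c : ℂ), c ≠ 0 → Commute f τ → nn (c • f) = c * nn f) ∧ ∀ f, Commute f τ → nn (tp f) = nn f := by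
  classical
  obtain ⟨b, μ, hb, hμ⟩ := H5.exists_eigenbasis_of_pow_eq_one τ o (Nat.cast_ne_zero.2 ho.ne') hτ
  have μ0 : ∀ i, μ i ≠ 0 := fun i h => by simpa [h, ho.ne'] using hμ i
  have hb' : ∀ i, τ' (b i) = (μ i)⁻¹ • b i := fun i => by
    have := congr($(mul_eq_one_comm.1 hτ') (b i))
    rw [Module.End.mul_apply, hb, map_smul, Module.End.one_apply] at this
    rw [eq_inv_smul_iff₀ (μ0 i), this]
  rw [H5.trace_eq_sum_of_eigenbasis τ b μ hb, H5.trace_eq_sum_of_eigenbasis τ' b _ hb'] at ht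
  obtain ⟨ζ, hζ⟩ := exists_odd_mult μ ho hμ ht
  rw [Set.ncard_eq_toFinset_card', Set.toFinset_ofPred] at hζ
  set m := (Finset.univ.filter fun i => μ i = ζ).card with hm
  have hco : IsCoprime (finrank ℂ E : ℤ) (m : ℤ) := Nat.isCoprime_iff_coprime.2
    (Nat.Coprime.coprime_dvd_left hd (Nat.Coprime.pow_left _ (Nat.coprime_two_left.2 hζ)))
  obtain ⟨α, β, hαβ⟩ := hco
  let M := LinearMap.toMatrixAlgEquiv b
  have Mτ : M τ = diagonal μ := by
    ext i j
    simp only [M, toMatrixAlgEquiv_apply, hb, map_smul, Basis.repr_self, Finsupp.smul_apply, Finsupp.single_apply,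
      diagonal_apply, smul_eq_mul]
    by_cases h : i = j <;> simp [h, eq_comm]
  let P : Matrix _ _ ℂ := diagonal fun i => if μ i = ζ then 1 else 0
  have hP : ∀ f, Commute f τ → M f * P = P * M f := fun f hf => by
    have := congrArg M hf.eq
    rw [map_mul, map_mul, Mτ] at this
    ext i j
    have := congrFun (congrFun this i) j
    simp only [P, mul_diagonal, diagonal_mul] at this ⊢
    by_cases h : M f i j = 0
    · simp [h]
    · rw [mul_left_cancel₀ h (this.trans (mul_comm _ _)), mul_comm]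
  have PP : P * P = P := by
    simp only [P, diagonal_mul_diagonal]; congr 1; ext i; split_ifs <;> simp
  let J : E →ₗ[ℂ] E →ₗ[ℂ] ℂ := Matrix.toLinearMap₂ b b 1
  have hJ : ∀ a c, J a c = b.repr a ⬝ᵥ b.repr c := fun a c => by
    simp [J, toLinearMap₂_apply, Matrix.one_apply, dotProduct]
  have hM : ∀ (f : End ℂ E) a, ⇑(b.repr (f a)) = M f *ᵥ b.repr a := fun f a => (toMatrix_mulVec_repr b b f a).symm
  have nd : ∀ a, (∀ c, J a c = 0) → a = 0 := fun a ha => b.ext_elem fun i => by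
    simpa [hJ, dotProduct, Finsupp.single_apply] using ha (b i)
  refine ⟨fun f => M.symm (M f)ᵀ, J, fun f => (M f).det ^ α * (M f * P + (1 - P)).det ^ β,
    fun a c => by rw [hJ, hJ, dotProduct_comm], fun F => ?_, nd, fun f a c => ?_, by
      beta_reduce; rw [Mτ, diagonal_transpose, ← Mτ, M.symm_apply_apply], fun f => ?_,
    fun f g hf hg => ?_, by simp, fun f c hc hf => ?_, fun f hf => ?_⟩
  · have i1 : Function.Injective J := (injective_iff_map_eq_zero _).2 fun a ha => nd a fun w => by rw [ha]; rfl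
    let e := LinearEquiv.ofBijective J ⟨i1, (injective_iff_surjective_of_finrank_eq_finrank
      Subspace.dual_finrank_eq.symm).1 i1⟩
    exact ⟨e.symm.toLinearMap ∘ₗ F, fun a c => (congr($(e.apply_symm_apply (F a)) c)).symm⟩
  · rw [hJ, hJ, hM, hM, M.apply_symm_apply, mulVec_transpose, dotProduct_comm, dotProduct_mulVec, dotProduct_comm]
  · rw [trace_eq_matrix_trace ℂ b, trace_eq_matrix_trace ℂ b, ← trace_transpose (toMatrix b b f)]
    exact congrArg _ (M.apply_symm_apply _)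
  · have : M (f * g) * P + (1 - P) = (M f * P + (1 - P)) * (M g * P + (1 - P)) := by
      have h1 : P * M g * P = M g * P := by rw [← hP g hg, mul_assoc, PP]
      simp only [map_mul, mul_add, add_mul, mul_sub, sub_mul, mul_assoc, PP, mul_one, one_mul]
      rw [← mul_assoc P, h1]; abel
    simp only [this]
    simp only [map_mul, det_mul, mul_zpow]; ring
  · have : M (c • f) * P + (1 - P) = (M f * P + (1 - P)) * diagonal fun i => if μ i = ζ then c else 1 := by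
      ext i j
      simp only [P, map_smul, Matrix.add_apply, mul_diagonal, Matrix.smul_apply, Matrix.sub_apply, diagonal_apply,
        Matrix.one_apply]
      by_cases h : i = j <;> by_cases h' : μ j = ζ <;> simp [h, h', mul_comm]
    simp only [this]
    simp only [map_smul, Matrix.det_smul, det_mul, det_diagonal, Finset.prod_ite, Finset.prod_const, one_pow, mul_one,
      Fintype.card_fin, mul_zpow, ← hm]
    have : (c ^ finrank ℂ E) ^ α * (c ^ m) ^ β = c := by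
      rw [← zpow_natCast, ← zpow_natCast, ← _root_.zpow_mul, ← _root_.zpow_mul, ← zpow_add₀ hc, mul_comm _ α, mul_comm _ β, hαβ, zpow_one]
    linear_combination (M f).det ^ α * (M f * P + (1 - P)).det ^ β * this
  · have : (M f)ᵀ * P + (1 - P) = (M f * P + (1 - P))ᵀ := by
      rw [hP f hf, transpose_add, transpose_mul, transpose_sub, transpose_one, diagonal_transpose]
    simp only [M.apply_symm_apply, this, det_transpose]

theorem comm_of_smul [Nontrivial E] {τ R : End ℂ E} {o k : ℕ} (ho : Odd o) (hτ : τ ^ o = 1) (hR : IsUnit R)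
    (hd : finrank ℂ E ∣ 2 ^ k) {c : ℂ} (h : τ * R = c • (R * τ)) : Commute R τ := by
  have hu : IsUnit τ := IsUnit.of_pow_eq_one hτ ho.pos.ne'
  have h1 : c ^ 2 ^ k = 1 := by
    have := congrArg LinearMap.det h
    rw [LinearMap.det_smul, map_mul, map_mul, mul_comm (LinearMap.det R)] at this
    obtain ⟨j, hj⟩ := hd
    rw [hj, pow_mul, (mul_eq_right₀ (mul_ne_zero (hu.map _).ne_zero (hR.map _).ne_zero)).1 this.symm, one_pow]
  have h2 : ∀ n : ℕ, τ ^ n * R = c ^ n • (R * τ ^ n) := fun n => by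
    induction n with
    | zero => simp
    | succ n ih => rw [pow_succ', mul_assoc, ih, mul_smul_comm, ← mul_assoc, h, smul_mul_assoc, smul_smul, mul_assoc,
        ← pow_succ', ← pow_succ]
  have h3 := h2 o
  rw [hτ, one_mul, mul_one] at h3
  have h4 : c ^ o = 1 := smul_left_injective ℂ hR.ne_zero (by simpa using h3.symm)
  have : c = 1 := by
    have := (pow_gcd_eq_one (a := c)).2 ⟨h1, h4⟩
    rwa [Nat.Coprime.pow_left _ (Nat.coprime_two_left.2 ho), pow_one] at this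
  rw [this, one_smul] at h
  exact h.symm

theorem Irr.uniq {Γ : Type*} [Group Γ] {N : Subgroup Γ} {θ ρ : Γ → End ℂ E} (hi : Irr N θ) {R R' : End ℂ E}
    (hR : IsUnit R) (h : ∀ q ∈ N, R * θ q = ρ q * R) (h' : ∀ q ∈ N, R' * θ q = ρ q * R') : ∃ c : ℂ, R' = c • R := by
  obtain ⟨R, rfl⟩ := hR
  obtain ⟨c, hc⟩ := hi.schur (f := (R⁻¹ : (End ℂ E)ˣ) * R') fun q hq => by
    rw [mul_assoc, h' q hq, Units.inv_mul_eq_iff_eq_mul, ← mul_assoc, ← mul_assoc, h q hq, Units.mul_inv_cancel_right]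
  exact ⟨c, by rw [Units.inv_mul_eq_iff_eq_mul] at hc; rw [hc, mul_smul_comm, mul_one]⟩

theorem surj_mod {Γ : Type*} [Group Γ] [Finite Γ] {N Z : Subgroup Γ} {t : Γ} (hZ : Z ≤ N)
    (hc : ∀ z ∈ Z, ∀ n ∈ N, n * z = z * n) (htN : ∀ n ∈ N, t * n * t⁻¹ ∈ N) (htZ : ∀ z ∈ Z, t * z = z * t)
    (hfpf : ∀ n ∈ N, ∀ z ∈ Z, t * n * t⁻¹ = z * n → n ∈ Z) {q : Γ} (hq : q ∈ N) :
    ∃ n ∈ N, ∃ z ∈ Z, q = n⁻¹ * (t * n * t⁻¹) * z := by
  let f : N → N := fun n => ⟨(n : Γ)⁻¹ * (t * n * t⁻¹), mul_mem (inv_mem n.2) (htN _ n.2)⟩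
  let g : N ⧸ Z.subgroupOf N → N ⧸ Z.subgroupOf N := Quotient.map' f fun a b h => by
    rw [QuotientGroup.leftRel_apply, Subgroup.mem_subgroupOf] at h ⊢
    have : f b = f a := Subtype.ext (by
      obtain ⟨z, hz, e⟩ : ∃ z ∈ Z, (b : Γ) = a * z := ⟨_, h, by simp⟩
      have h1 := hc z hz _ (f a).2
      simp only [f, e] at h1 ⊢
      calc _ = z⁻¹ * (a : Γ)⁻¹ * t * a * (z * t⁻¹) := by group
        _ = z⁻¹ * ((a : Γ)⁻¹ * (t * a * t⁻¹) * z) := by rw [(Commute.inv_left (htZ z hz)).eq.symm]; group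
        _ = _ := by rw [h1]; group)
    rw [this, inv_mul_cancel]; exact one_mem _
  have hg : Function.Injective g := by
    rintro ⟨a⟩ ⟨b⟩ h
    have h := QuotientGroup.eq.1 h
    rw [Subgroup.mem_subgroupOf] at h
    refine QuotientGroup.eq.2 (Subgroup.mem_subgroupOf.2 ?_)
    obtain ⟨z, hz, e⟩ : ∃ z ∈ Z, (b : Γ)⁻¹ * (t * b * t⁻¹) = (a : Γ)⁻¹ * (t * a * t⁻¹) * z := ⟨_, h, by simp [f]; group⟩
    have h1 : (b : Γ) * (a : Γ)⁻¹ ∈ Z := hfpf _ (mul_mem b.2 (inv_mem a.2)) z hz (by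
      rw [hc z hz _ (f a).2] at e
      calc _ = b * ((b : Γ)⁻¹ * (t * b * t⁻¹)) * (t * a * t⁻¹)⁻¹ := by group
        _ = b * z * (a : Γ)⁻¹ := by rw [e]; simp only [f]; group
        _ = _ := by rw [hc z hz _ b.2, mul_assoc])
    have := hc _ h1 _ a.2
    rw [inv_mul_cancel_right] at this
    rwa [← inv_mul_eq_of_eq_mul this.symm] at h1
  obtain ⟨⟨n⟩, hn⟩ := Finite.injective_iff_surjective.1 hg (QuotientGroup.mk ⟨q, hq⟩)
  have h := Subgroup.mem_subgroupOf.1 (QuotientGroup.eq.1 hn)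
  exact ⟨n, n.2, _, h, by simp [f]; group⟩

end Cfsg.Agent.H65
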