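import Cfsg.Agent.H65.Sesq
set_option autoImplicit false

/-! The Siegel unipotent radical of an isometry group; a Heisenberg lower bound. -/

namespace Cfsg.Agent.H65

open Module

variable {F W X : Type*} [Field F] [AddCommGroup W] [Module F W] [AddCommGroup X] [Module F X]

theorem exists_dual_pair {v v' : W} (hv : v ≠ 0) (h : ∀ c : F, v' ≠ c • v) :
    ∃ φ : Dual F W, φ v = 1 ∧ φ v' = 1 := by
  have h1 : v ∉ Submodule.span F {v' - v} := by
    rw [Submodule.mem_span_singleton]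
    rintro ⟨a, ha⟩
    have ha0 : a ≠ 0 := by
      rintro rfl
      exact hv (by rw [← ha, zero_smul])
    refine h (a⁻¹ + 1) ?_
    rw [add_smul, one_smul, ← sub_eq_iff_eq_add]
    nth_rewrite 2 [← ha]
    rw [smul_smul, inv_mul_cancel₀ ha0, one_smul]
  obtain ⟨f, hf, h0⟩ := Submodule.exists_dual_map_eq_bot_of_notMem h1 inferInstance
  have h2 : f (v' - v) = 0 := by
    have := Submodule.mem_map_of_mem (f := f) (Submodule.mem_span_singleton_self (v' - v))
    rwa [h0] at this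
  rw [map_sub, sub_eq_zero] at h2
  exact ⟨(f v)⁻¹ • f, by simp [hf], by simp [h2, hf]⟩

theorem big_of {Γ : Set (W →ₗ[F] W)} (tv : ∀ v (φ : Dual F W), φ v = 0 → LinearMap.id + φ.smulRight v ∈ Γ)
    (hs : ∀ v, v ≠ 0 → ∀ c : F, c ≠ 0 → ∃ g ∈ Γ, g v = c • v) : Big Γ := by
  refine ⟨fun v hv v' hv' => ?_, tv⟩
  by_cases h : ∃ c : F, v' = c • v
  · obtain ⟨c, rfl⟩ := h
    exact hs v hv c (left_ne_zero_of_smul hv')
  · push Not at h
    obtain ⟨φ, h1, h2⟩ := exists_dual_pair hv h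
    exact ⟨_, tv (v' - v) φ (by simp [h1, h2]), by simp [h1]⟩

theorem big_of_two {Γ : Set (W →ₗ[F] W)} (tv : ∀ v (φ : Dual F W), φ v = 0 → LinearMap.id + φ.smulRight v ∈ Γ)
    (hc : ∀ g ∈ Γ, ∀ g' ∈ Γ, g ∘ₗ g' ∈ Γ) (h2 : 2 ≤ finrank F W) : Big Γ := by
  refine big_of tv fun v hv c hc0 => ?_
  obtain ⟨w, hw⟩ : ∃ w, ∀ a : F, w ≠ a • v := by
    by_contra! h
    have := finrank_le_one v fun w => (h w).imp fun _ e => e.symm
    omega
  have hw0 : w ≠ 0 := by simpa using hw 0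
  obtain ⟨φ, h1, h2⟩ := exists_dual_pair hv hw
  obtain ⟨φ', h1', h2'⟩ := exists_dual_pair (F := F) (v' := c • v) hw0 fun a e => by
    have ha : a ≠ 0 := by
      rintro rfl
      exact smul_ne_zero hc0 hv (by rw [e, zero_smul])
    exact hw (a⁻¹ * c) (by rw [mul_smul, e, smul_smul, inv_mul_cancel₀ ha, one_smul])
  exact ⟨_, hc _ (tv (c • v - w) φ' (by rw [map_sub, h1', h2', sub_self])) _ (tv (w - v) φ (by simp [h1, h2])),
    by simp [h1, h1']⟩

/-- a group of isometries that contains the Siegel transformations -/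
structure Isom {G : Type*} [Group G] (σ : F →+* F) (ε : F) (h : X → X → F) (r : G →* End F X) : Prop where
  sq : Sq σ (-ε) h
  inj : Function.Injective r
  iso : ∀ g x y, h (r g x) (r g y) = h x y
  ex : ∀ u y, h u u = 0 → h y y = 0 → h u y = 0 → ∃ g, ∀ x, r g x = x + h x y • u + (ε * h x u) • y
  inv : ∀ x, σ (σ x) = x
  eps : σ ε = ε
  eps2 : ε * ε = 1
  rep : ∀ l : Dual F X, ∃ y, ∀ x, h x y = l x
  sub : ∀ e y, h e e = 0 → h e y ≠ 0 → ∃ b : F, h (y - b • e) (y - b • e) = 0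

/-- the maps induced on `W` -/
def Levi {G : Type*} [Group G] (r : G →* End F X) (ι : W →ₗ[F] X) : Set (W →ₗ[F] W) :=
  {g | ∃ x, ∀ u, r x (ι u) = ι (g u)}

namespace Isom
variable {G : Type*} [Group G] {σ : F →+* F} {ε : F} {h : X → X → F} {r : G →* End F X} (H : Isom σ ε h r)
variable {ι : W →ₗ[F] X} (hι : ∀ u v, h (ι u) (ι v) = 0)

/-- the Siegel transformation -/
noncomputable def sg (u v : W) : G := (H.ex (ι u) (ι v) (hι _ _) (hι _ _) (hι _ _)).choose

theorem sg_apply (u v : W) (x : X) : r (H.sg hι u v) x = x + h x (ι v) • ι u + (ε * h x (ι u)) • ι v :=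
  (H.ex (ι u) (ι v) (hι _ _) (hι _ _) (hι _ _)).choose_spec x

include H in
theorem ext {g g' : G} (e : ∀ x, r g x = r g' x) : g = g' := H.inj (LinearMap.ext e)

include H in
theorem iso_inv (g : G) (x y : X) : h (r g⁻¹ x) y = h x (r g y) := by
  rw [← H.iso g, ← End.mul_apply, ← map_mul, mul_inv_cancel, map_one, End.one_apply]

theorem sieg : Sieg σ ε (H.sg hι) where
  add u u' v := H.ext fun x => by
    simp only [map_mul, End.mul_apply, sg_apply, H.sq.smul, H.sq.add', hι, map_add]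
    module
  comm u v u' v' := H.ext fun x => by
    simp only [map_mul, End.mul_apply, sg_apply, H.sq.add, H.sq.smul, hι]
    module
  symm a u v := H.ext fun x => by
    simp only [sg_apply, map_smul, H.sq.smul', map_mul, H.inv, H.eps]
    have := H.eps2
    match_scalars
    · ring
    · linear_combination (-(h x (ι v) * a)) * this
    · ring
  inv := H.inv
  eps := H.eps

theorem conj_sg {g : W →ₗ[F] W} {x : G} (hx : ∀ u, r x (ι u) = ι (g u)) (u v : W) :
    x * H.sg hι u v * x⁻¹ = H.sg hι (g u) (g v) := H.ext fun y => by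
  simp only [map_mul, End.mul_apply, sg_apply, map_add, map_smul, H.iso_inv, hx]
  rw [← End.mul_apply, ← map_mul, mul_inv_cancel, map_one, End.one_apply]

include H hι in
theorem tv_mem (hi : Function.Injective ι) (v : W) (φ : Dual F W) (h0 : φ v = 0) :
    LinearMap.id + φ.smulRight v ∈ Levi r ι := by
  by_cases hφ : φ = 0
  · exact ⟨1, fun u => by simp [hφ]⟩
  obtain ⟨w, hw⟩ := DFunLike.ne_iff.1 hφ
  obtain ⟨l, rfl⟩ := LinearMap.dualMap_surjective_of_injective hi φ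
  obtain ⟨y, hy⟩ := H.rep l
  obtain ⟨b, hb⟩ := H.sub (ι w) y (hι _ _) (by rw [hy]; exact hw)
  have h1 : ∀ u, h (ι u) (y - b • ι w) = l (ι u) := fun u => by
    rw [sub_eq_add_neg, ← neg_smul, H.sq.add', H.sq.smul', hι, hy, mul_zero, add_zero]
  obtain ⟨g, hg⟩ := H.ex (ι v) _ (hι _ _) hb (by rw [h1]; exact h0)
  exact ⟨g, fun u => by simp [hg, h1, hι]⟩

include H hι in
theorem big (hi : Function.Injective ι) (h2 : 2 ≤ finrank F W) : Big (Levi r ι) :=
  big_of_two (H.tv_mem hι hi) (fun g ⟨x, hx⟩ g' ⟨x', hx'⟩ => ⟨x * x', fun u => by simp [hx, hx']⟩) h2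

include H hι in
theorem bound [Finite F] [Finite W] {K V : Type*} [Field K] [AddCommGroup V] [Module K V] [IsAlgClosed K]
    [FiniteDimensional K V] (ρ : G →* End K V) (hp : ((ringChar F : ℕ) : K) ≠ 0)
    {ψ : AddChar F K} (hψ : ψ ≠ 1) (hσ : ∀ x, ψ (σ x) = ψ x) (hΓ : Big (Levi r ι)) {e d : ℕ}
    (he : ∀ d : F, Nat.card {a // a * σ a = d} ≤ e)
    (hd : ∀ b, Sq σ ε b → ∀ v, b v v ≠ 0 →
      ws (fun i : W × W => ρ (H.sg hι i.1 i.2)) (fun i => ψ (b i.1 i.2)) ≠ ⊥ →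
      d ≤ finrank K (ws (fun i : W × W => ρ (H.sg hι i.1 i.2)) fun i => ψ (b i.1 i.2)))
    {a : F} {v : W} (hne : ρ (H.sg hι (a • v) v) ≠ 1) : (Nat.card W - 1) * d ≤ e * finrank K V :=
  (H.sieg hι).bound ρ hp hψ hσ hΓ (fun _ ⟨x, hx⟩ => ⟨x, H.conj_sg hι hx⟩) he hd hne

end Isom

/-- the Heisenberg bound -/
theorem heis_bound {K V : Type*} [Field K] [AddCommGroup V] [Module K V] [IsAlgClosed K] [FiniteDimensional K V]
    {I J : Type*} [Finite J] {Y : I → End K V} (hc : ∀ i j, Commute (Y i) (Y j)) {m : ℕ} (hm : (m : K) ≠ 0)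
    (hf : ∀ i, Y i ^ m = 1) {U : Submodule K V} (hU : ∀ i, ∀ v ∈ U, Y i v ∈ U) (h0 : U ≠ ⊥)
    {Z : J → End K V} (hZ : ∀ j, Function.Injective (Z j)) (hZU : ∀ j, ∀ v ∈ U, Z j v ∈ U) {c : J → I → K}
    (hcj : Function.Injective c) (hYZ : ∀ i j, ∀ v ∈ U, Y i (Z j v) = c j i • Z j (Y i v)) :
    Nat.card J ≤ finrank K U := by
  obtain ⟨γ, v, hv, hv0, hvU⟩ := exists_mem_ws hc hm hf hU h0
  have hγ : ∀ i, γ i ≠ 0 := fun i e => by
    have h1 := mem_ws.1 hv i
    rw [e, zero_smul] at h1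
    obtain ⟨k, rfl⟩ : ∃ k, m = k + 1 := Nat.exists_eq_succ_of_ne_zero (by rintro rfl; simp at hm)
    refine hv0 ?_
    rw [← End.one_apply (R := K) v, ← hf i, pow_succ, End.mul_apply, h1, map_zero]
  refine card_le_finrank_sub hc (γ := fun j i => c j i * γ i) (v := fun j => Z j v)
    (fun j j' e => hcj (funext fun i => mul_right_cancel₀ (hγ i) (congrFun e i)))
    (fun j e => hv0 (hZ j (by rw [e, map_zero]))) (fun j => mem_ws.2 fun i => ?_) fun j => hZU j v hvU
  rw [hYZ i j v hvU, mem_ws.1 hv i, map_smul, smul_smul]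

theorem finrank_le_one_of_trivial {G V : Type*} [Monoid G] [AddCommGroup V] [Module ℂ V]
    (ρ : Representation ℂ G V) (hρ : ρ.IsIrreducible) (h : ∀ g, ρ g = 1) : finrank ℂ V ≤ 1 := by
  rcases subsingleton_or_nontrivial V with h0 | h0
  · rw [finrank_zero_of_subsingleton]; exact zero_le_one
  obtain ⟨v, hv⟩ := exists_ne (0 : V)
  rcases hρ.eq_bot_or_eq_top ⟨Submodule.span ℂ {v}, fun g x hx => by rwa [h]⟩ with e | e
  · have : v ∈ (⊥ : Subrepresentation ρ).toSubmodule := e ▸ Submodule.mem_span_singleton_self v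
    exact absurd this hv
  · refine finrank_le_one v fun w => Submodule.mem_span_singleton.1 ?_
    have : w ∈ (⊤ : Subrepresentation ρ).toSubmodule := trivial
    rwa [← e] at this

end Cfsg.Agent.H65
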