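import Cfsg.Agent.H65.Wt
set_option autoImplicit false

/-! Orbits of `GL(W)` on quadratic forms of rank at least two are large. -/

namespace Cfsg.Agent.H65

open Module QuadraticMap Finset

section plane
variable {F : Type*} [Field F] [Fintype F] [DecidableEq F] {α β γ : F}

omit [Fintype F] [DecidableEq F] in
theorem grad_ne (hΔ : γ ^ 2 ≠ 4 * α * β) {x y : F} (h : ¬ (x = 0 ∧ y = 0)) :
    2 * α * x + γ * y ≠ 0 ∨ γ * x + 2 * β * y ≠ 0 := by
  by_contra! h'
  refine h ⟨mul_left_cancel₀ (sub_ne_zero.2 hΔ) ?_, mul_left_cancel₀ (sub_ne_zero.2 hΔ) ?_⟩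
  · linear_combination γ * h'.2 - 2 * β * h'.1
  · linear_combination γ * h'.1 - 2 * α * h'.2

theorem card_conic (hΔ : γ ^ 2 ≠ 4 * α * β) {a : F} (ha : a ≠ 0) :
    #{p : F × F | α * p.1 ^ 2 + γ * p.1 * p.2 + β * p.2 ^ 2 = a} ≤ Fintype.card F + 1 := by
  rcases (univ.filter fun p : F × F => α * p.1 ^ 2 + γ * p.1 * p.2 + β * p.2 ^ 2 = a).eq_empty_or_nonempty with
    h | ⟨⟨x, y⟩, h0⟩
  · simp [h]
  rw [← card_erase_add_one h0, add_le_add_iff_right, ← card_univ]
  have h0 : α * x ^ 2 + γ * x * y + β * y ^ 2 = a := (mem_filter.1 h0).2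
  obtain ⟨s, s', hs⟩ : ∃ s s', (2 * α * x + γ * y) * s' - (γ * x + 2 * β * y) * s ≠ 0 := by
    rcases grad_ne hΔ (x := x) (y := y) (by rintro ⟨rfl, rfl⟩; exact ha (by simpa using h0.symm)) with h | h
    · exact ⟨0, 1, by simpa using h⟩
    · exact ⟨-1, 0, by simpa using h⟩
  have hL : ∀ p ∈ (univ.filter fun p : F × F => α * p.1 ^ 2 + γ * p.1 * p.2 + β * p.2 ^ 2 = a).erase (x, y),
      ∃ L w₁ w₂, L ≠ 0 ∧ p.1 = x + L * w₁ ∧ p.2 = y + L * w₂ ∧
        (2 * α * x + γ * y) * w₁ + (γ * x + 2 * β * y) * w₂ = 1 ∧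
        L * (α * w₁ ^ 2 + γ * w₁ * w₂ + β * w₂ ^ 2) = -1 := by
    rintro ⟨x', y'⟩ hp
    obtain ⟨h1, h2⟩ := mem_erase.1 hp
    have h2 : α * x' ^ 2 + γ * x' * y' + β * y' ^ 2 = a := (mem_filter.1 h2).2
    obtain ⟨d, rfl⟩ : ∃ d, x' = x + d := ⟨x' - x, by ring⟩
    obtain ⟨e, rfl⟩ : ∃ e, y' = y + e := ⟨y' - y, by ring⟩
    obtain ⟨L, hL⟩ : ∃ L, L = (2 * α * x + γ * y) * d + (γ * x + 2 * β * y) * e := ⟨_, rfl⟩
    have h3 : α * d ^ 2 + γ * d * e + β * e ^ 2 = -L := by linear_combination h2 - h0 + hL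
    have hL0 : L ≠ 0 := by
      rintro rfl
      have h4 : (d * y - e * x) ^ 2 = 0 := mul_left_cancel₀ (sub_ne_zero.2 hΔ) (by
        linear_combination -(4 * (α * x ^ 2 + γ * x * y + β * y ^ 2)) * h3 -
          ((2 * α * x + γ * y) * d + (γ * x + 2 * β * y) * e) * hL)
      have h4 := pow_eq_zero_iff two_ne_zero |>.1 h4
      have hd : d ^ 2 = 0 := mul_left_cancel₀ ha (by
        linear_combination x ^ 2 * h3 - d ^ 2 * h0 + (γ * d * x + β * (d * y + e * x)) * h4)
      have he : e ^ 2 = 0 := mul_left_cancel₀ ha (by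
        linear_combination y ^ 2 * h3 - e ^ 2 * h0 - (γ * e * y + α * (d * y + e * x)) * h4)
      exact h1 (by rw [pow_eq_zero_iff two_ne_zero |>.1 hd, pow_eq_zero_iff two_ne_zero |>.1 he, add_zero, add_zero])
    refine ⟨L, d / L, e / L, hL0, by field_simp, by field_simp, ?_, ?_⟩
    · field_simp
      linear_combination -hL
    · field_simp
      linear_combination h3
  choose! L w₁ w₂ hL using hL
  refine card_le_card_of_injOn (fun p => s * w₁ p + s' * w₂ p) (fun _ _ => mem_univ _) fun p hp p' hp' e => ?_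
  obtain ⟨-, h2, h3, h4, h5⟩ := hL p hp
  obtain ⟨-, h2', h3', h4', h5'⟩ := hL p' hp'
  have e : s * w₁ p + s' * w₂ p = s * w₁ p' + s' * w₂ p' := e
  have e1 : w₁ p = w₁ p' := mul_left_cancel₀ hs (by linear_combination s' * (h4 - h4') - (γ * x + 2 * β * y) * e)
  have e2 : w₂ p = w₂ p' := mul_left_cancel₀ hs (by linear_combination (2 * α * x + γ * y) * e - s * (h4 - h4'))
  rw [← e1, ← e2] at h5'
  have e3 : L p = L p' := by linear_combination L p * h5' - L p' * h5
  exact Prod.ext (by rw [h2, h2', e1, e3]) (by rw [h3, h3', e2, e3])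

theorem card_line (hΔ : γ ^ 2 ≠ 4 * α * β) {x y : F} (ha : α * x ^ 2 + γ * x * y + β * y ^ 2 ≠ 0) (b c : F) :
    #{p : F × F | α * p.1 ^ 2 + γ * p.1 * p.2 + β * p.2 ^ 2 = b ∧
      (2 * α * x + γ * y) * p.1 + (γ * x + 2 * β * y) * p.2 = c} ≤ 2 := by
  rcases (univ.filter fun p : F × F => α * p.1 ^ 2 + γ * p.1 * p.2 + β * p.2 ^ 2 = b ∧
      (2 * α * x + γ * y) * p.1 + (γ * x + 2 * β * y) * p.2 = c).eq_empty_or_nonempty with h | ⟨⟨x₀, y₀⟩, h0⟩
  · simp [h]
  obtain ⟨h1, h2⟩ := (mem_filter.1 h0).2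
  obtain ⟨A, hA⟩ : ∃ A, A = 2 * α * x + γ * y := ⟨_, rfl⟩
  obtain ⟨B, hB⟩ : ∃ B, B = γ * x + 2 * β * y := ⟨_, rfl⟩
  have hN : α * B ^ 2 - γ * B * A + β * A ^ 2 ≠ 0 := fun e => mul_ne_zero (sub_ne_zero.2 hΔ) ha (by
    rw [hA, hB] at e
    linear_combination -e)
  have hAB := grad_ne hΔ (x := x) (y := y) (by rintro ⟨rfl, rfl⟩; simp at ha)
  rw [← hA, ← hB] at hAB h2 ⊢
  set t := -((2 * α * x₀ + γ * y₀) * B - (γ * x₀ + 2 * β * y₀) * A) / (α * B ^ 2 - γ * B * A + β * A ^ 2) with ht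
  refine le_trans (card_le_card (t := {(x₀, y₀), (x₀ + t * B, y₀ - t * A)}) ?_) card_le_two
  rintro ⟨x', y'⟩ hp
  obtain ⟨h3, h4⟩ := (mem_filter.1 hp).2
  simp only at h1 h2 h3 h4
  obtain ⟨s, rfl, rfl⟩ : ∃ s, x' = x₀ + s * B ∧ y' = y₀ - s * A := by
    rcases hAB with h | h
    · refine ⟨(y₀ - y') / A, ?_, ?_⟩ <;> field_simp
      · linear_combination h4 - h2
      · ring
    · refine ⟨(x' - x₀) / B, ?_, ?_⟩ <;> field_simp
      · ring
      · linear_combination h4 - h2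
  by_cases hs : s = 0
  · simp [hs]
  · have : s = t := by
      rw [ht, eq_div_iff hN]
      exact mul_left_cancel₀ hs (by linear_combination h3 - h1)
    simp [this]

theorem card_plane (hΔ : γ ^ 2 ≠ 4 * α * β) {a : F}
    (ha : a ≠ 0 ∨ ∀ x y, α * x ^ 2 + γ * x * y + β * y ^ 2 = 0 → x = 0 ∧ y = 0) (b c : F) :
    #{p : (F × F) × F × F | α * p.1.1 ^ 2 + γ * p.1.1 * p.1.2 + β * p.1.2 ^ 2 = a ∧
      α * p.2.1 ^ 2 + γ * p.2.1 * p.2.2 + β * p.2.2 ^ 2 = b ∧
      (2 * α * p.1.1 + γ * p.1.2) * p.2.1 + (γ * p.1.1 + 2 * β * p.1.2) * p.2.2 = c} ≤ 2 * (Fintype.card F + 1) := by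
  by_cases h0 : a = 0
  · have ha := ha.resolve_left (not_not.2 h0)
    refine le_trans (card_le_card_of_injOn (t := {p : F × F | α * p.1 ^ 2 + γ * p.1 * p.2 + β * p.2 ^ 2 = b})
      Prod.snd (fun p hp => by simpa using (mem_filter.1 hp).2.2.1) fun p hp p' hp' e => Prod.ext ?_ e) ?_
    · have h1 := ha _ _ ((mem_filter.1 hp).2.1.trans h0)
      have h2 := ha _ _ ((mem_filter.1 hp').2.1.trans h0)
      exact Prod.ext (h1.1.trans h2.1.symm) (h1.2.trans h2.2.symm)
    · by_cases hb : b = 0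
      · refine le_trans (card_le_one.2 fun p hp p' hp' => ?_) (by omega)
        have h1 := ha _ _ ((mem_filter.1 hp).2.trans hb)
        have h2 := ha _ _ ((mem_filter.1 hp').2.trans hb)
        exact Prod.ext (h1.1.trans h2.1.symm) (h1.2.trans h2.2.symm)
      · exact (card_conic hΔ hb).trans (by omega)
  · refine le_trans (card_le_mul_card_image_of_maps_to (f := Prod.fst)
      (t := {p : F × F | α * p.1 ^ 2 + γ * p.1 * p.2 + β * p.2 ^ 2 = a})
      (fun p hp => by simpa using (mem_filter.1 hp).2.1) 2 fun p hp => ?_) (Nat.mul_le_mul_left 2 (card_conic hΔ h0))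
    refine le_trans (card_le_card_of_injOn Prod.snd (fun p' hp' => ?_) fun p' hp' p'' hp'' e => Prod.ext ?_ e)
      (card_line hΔ (x := p.1) (y := p.2) (by rw [(mem_filter.1 hp).2]; exact h0) b c)
    · obtain ⟨h1, rfl⟩ := mem_filter.1 hp'
      simpa using (mem_filter.1 h1).2.2
    · exact (mem_filter.1 hp').2.trans (mem_filter.1 hp'').2.symm

omit [DecidableEq F] in
theorem exists_irred : ∃ r : F, ∀ x, x ^ 2 + x + r ≠ 0 := by
  by_contra! h
  have : Function.Surjective fun x : F => x ^ 2 + x := fun r => (h (-r)).imp fun x hx => by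
    linear_combination hx
  have := Finite.injective_iff_surjective.2 this (a₁ := 0) (a₂ := -1) (by ring)
  simp at this

end plane

variable {F W : Type*} [Field F] [AddCommGroup W] [Module F W]

theorem quad_comb (Q : QuadraticForm F W) (u v : W) (x y : F) :
    Q (x • u + y • v) = Q u * x ^ 2 + polar Q u v * x * y + Q v * y ^ 2 := by
  rw [QuadraticMap.map_add Q, QuadraticMap.map_smul, QuadraticMap.map_smul, polar_smul_left, polar_smul_right]
  simp only [smul_eq_mul]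
  ring

theorem polar_self' (Q : QuadraticForm F W) (u : W) : polar Q u u = 2 * Q u := by rw [polar_self, nsmul_eq_mul]; simp

/-- `u`, `v` span an elliptic plane -/
def Ell (Q : QuadraticForm F W) (u v : W) : Prop :=
  polar Q u v ^ 2 ≠ 4 * Q u * Q v ∧ ∀ x y, Q u * x ^ 2 + polar Q u v * x * y + Q v * y ^ 2 = 0 → x = 0 ∧ y = 0

theorem eq_zero_of_not_ell [Fintype F] {Q : QuadraticForm F W} (h : ∀ u v, ¬ Ell Q u v) {u v z : W}
    (hΔ : polar Q u v ^ 2 ≠ 4 * Q u * Q v) (hu : polar Q z u = 0) (hv : polar Q z v = 0) : Q z = 0 := by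
  by_contra hz
  obtain ⟨x, y, h1, h2⟩ : ∃ x y, Q u * x ^ 2 + polar Q u v * x * y + Q v * y ^ 2 = 0 ∧ ¬ (x = 0 ∧ y = 0) := by
    by_contra! h'
    exact h u v ⟨hΔ, h'⟩
  obtain ⟨e, he⟩ : ∃ e, e = x • u + y • v := ⟨_, rfl⟩
  have he0 : Q e = 0 := by rw [he, quad_comb, h1]
  have hze : polar Q z e = 0 := by simp [he, hu, hv]
  obtain ⟨f, hf, hzf⟩ : ∃ f, polar Q e f = 1 ∧ polar Q z f = 0 := by
    rcases grad_ne hΔ h2 with h3 | h3
    · refine ⟨(2 * Q u * x + polar Q u v * y)⁻¹ • u, ?_, by simp [hu]⟩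
      simp only [he, polar_smul_right, polar_add_left, polar_smul_left, polar_self', polar_comm Q v u, smul_eq_mul]
      field_simp
    · refine ⟨(polar Q u v * x + 2 * Q v * y)⁻¹ • v, ?_, by simp [hv]⟩
      simp only [he, polar_smul_right, polar_add_left, polar_smul_left, polar_self', smul_eq_mul]
      field_simp
  obtain ⟨r, hr⟩ := exists_irred (F := F)
  have h3 : Q (z + e) = Q z := by rw [QuadraticMap.map_add Q, he0, hze, add_zero, add_zero]
  have h4 : Q ((r - Q z * Q f) • e + Q z • f) = Q z * r := by rw [quad_comb, he0, hf]; ring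
  have h5 : polar Q (z + e) ((r - Q z * Q f) • e + Q z • f) = Q z := by
    simp [polar_add_left, polar_add_right, hze, hzf, hf, he0]
  refine h (z + e) ((r - Q z * Q f) • e + Q z • f) ?_
  rw [Ell, h3, h4, h5]
  refine ⟨fun e => hr (-2 * r) (mul_left_cancel₀ (pow_ne_zero 2 hz) (by linear_combination -r * e)), fun x y e => ?_⟩
  have e : x ^ 2 + x * y + r * y ^ 2 = 0 := mul_left_cancel₀ hz (by linear_combination e)
  by_cases hy : y = 0
  · simpa [hy] using e
  · exact absurd (show (x / y) ^ 2 + x / y + r = 0 by field_simp; linear_combination e) (hr _)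

theorem indep_of_disc {Q : QuadraticForm F W} {u v : W} (hΔ : polar Q u v ^ 2 ≠ 4 * Q u * Q v) :
    LinearIndependent F ![u, v] := by
  refine LinearIndependent.pair_iff.2 fun x y e => ?_
  by_contra h
  have h1 := congrArg (polar Q u) e
  have h2 := congrArg (polar Q v) e
  simp only [polar_add_right, polar_smul_right, polar_self', polar_comm Q v u, smul_eq_mul, polar_zero_right] at h1 h2
  rcases grad_ne hΔ h with h3 | h3
  · exact h3 (by linear_combination h1)
  · exact h3 (by linear_combination h2)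

theorem exists_equiv_family {ι : Type*} [Finite ι] {u v : ι → W} (hu : LinearIndependent F u)
    (hv : LinearIndependent F v) : ∃ g : W ≃ₗ[F] W, ∀ i, g (u i) = v i := by
  have : FiniteDimensional F (Submodule.span F (Set.range u)) := FiniteDimensional.span_of_finite F (Set.finite_range _)
  obtain ⟨g, hg⟩ := Submodule.exists_linearEquiv_restrict_eq
    (hu.linearCombinationEquiv.symm ≪≫ₗ hv.linearCombinationEquiv)
  refine ⟨g, fun i => ?_⟩
  have := hg (hu.linearCombinationEquiv (Finsupp.single i 1))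
  simpa using this.symm

end Cfsg.Agent.H65
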