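import Cfsg.Agent.H65.QOrb
set_option autoImplicit false

/-! The orbit bound for quadratic forms of rank at least two. -/

namespace Cfsg.Agent.H65

open Module QuadraticMap Finset

variable {F W : Type*} [Field F] [AddCommGroup W] [Module F W]

theorem card_pairs_le [Fintype F] [Fintype W] [DecidableEq F] {Q : QuadraticForm F W} {u v : W}
    (hΔ : polar Q u v ^ 2 ≠ 4 * Q u * Q v)
    (h : Ell Q u v ∨ (Q u ≠ 0 ∧ ∀ z, polar Q z u = 0 → polar Q z v = 0 → Q z = 0)) :
    #{s : Fin 2 → W | Q (s 0) = Q u ∧ Q (s 1) = Q v ∧ polar Q (s 0) (s 1) = polar Q u v} ≤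
      2 * (Fintype.card F + 1) * (Fintype.card W / Fintype.card F ^ 2) ^ 2 := by
  classical
  have hd : ∀ w, ∃ z x y, polar Q z u = 0 ∧ polar Q z v = 0 ∧ w = z + (x • u + y • v) := fun w => by
    have := mul_inv_cancel₀ (sub_ne_zero.2 hΔ)
    generalize (polar Q u v ^ 2 - 4 * Q u * Q v)⁻¹ = d at this
    refine ⟨w - (((polar Q u v * polar Q w v - 2 * Q v * polar Q w u) * d) • u +
      ((polar Q u v * polar Q w u - 2 * Q u * polar Q w v) * d) • v), _, _, ?_, ?_,
      (sub_add_cancel _ _).symm⟩ <;>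
    simp only [polar_sub_left, polar_add_left, polar_smul_left, polar_self', polar_comm Q v u, smul_eq_mul]
    · linear_combination -polar Q w u * this
    · linear_combination -polar Q w v * this
  choose z x y hu hv hw using hd
  have hK : #{z | polar Q z u = 0 ∧ polar Q z v = 0} ≤ Fintype.card W / Fintype.card F ^ 2 := by
    rw [Nat.le_div_iff_mul_le (by positivity), pow_two, ← card_univ (α := F), ← card_product, ← card_product, ← card_univ]
    refine card_le_card_of_injOn (fun p => p.1 + (p.2.1 • u + p.2.2 • v)) (fun _ _ => mem_univ _) ?_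
    rintro ⟨z, x, y⟩ hp ⟨z', x', y'⟩ hp' e
    have h1 := (mem_filter.1 (mem_product.1 hp).1).2
    have h2 := (mem_filter.1 (mem_product.1 hp').1).2
    have e1 := congrArg (polar Q · u) e
    have e2 := congrArg (polar Q · v) e
    simp only [polar_add_left, polar_smul_left, polar_self', polar_comm Q v u, smul_eq_mul] at e1 e2 h1 h2
    rw [h1.1, h2.1] at e1
    rw [h1.2, h2.2] at e2
    have : x - x' = 0 ∧ y - y' = 0 := by
      by_contra h3
      rcases grad_ne hΔ h3 with h3 | h3
      · exact h3 (by linear_combination e1)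
      · exact h3 (by linear_combination e2)
    obtain rfl := sub_eq_zero.1 this.1
    obtain rfl := sub_eq_zero.1 this.2
    obtain rfl : z = z' := add_right_cancel e
    rfl
  refine le_trans (card_le_mul_card_image_of_maps_to (f := fun s => (z (s 0), z (s 1)))
    (t := (univ.filter fun z => polar Q z u = 0 ∧ polar Q z v = 0) ×ˢ
      (univ.filter fun z => polar Q z u = 0 ∧ polar Q z v = 0))
    (fun s _ => by simp [hu, hv]) (2 * (Fintype.card F + 1)) ?_) (Nat.mul_le_mul_left _ ?_)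
  · rintro ⟨z₀, z₁⟩ hz
    have h0 := (mem_filter.1 (mem_product.1 hz).1).2
    have h1 := (mem_filter.1 (mem_product.1 hz).2).2
    simp only at h0 h1
    refine le_trans (card_le_card_of_injOn (fun s => ((x (s 0), y (s 0)), x (s 1), y (s 1))) (fun s hs => ?_)
      fun s hs s' hs' e => ?_) (card_plane hΔ (a := Q u - Q z₀)
        (h.symm.imp (fun h => by rw [h.2 _ h0.1 h0.2, sub_zero]; exact h.1) fun h => h.2) (Q v - Q z₁)
        (polar Q u v - polar Q z₀ z₁))
    · obtain ⟨h2, h3⟩ := mem_filter.1 hs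
      obtain ⟨h4, h5, h6⟩ := (mem_filter.1 h2).2
      obtain ⟨h7, h8⟩ := Prod.ext_iff.1 h3
      simp only at h7 h8
      rw [hw (s 0), h7] at h4 h6
      rw [hw (s 1), h8] at h5 h6
      simp only [QuadraticMap.map_add Q z₀, QuadraticMap.map_add Q z₁, quad_comb, polar_add_left, polar_add_right,
        polar_smul_left, polar_smul_right, h0, h1, polar_comm Q u z₁, polar_comm Q v z₁, polar_comm Q v u, polar_self',
        smul_eq_mul] at h4 h5 h6
      simp only [coe_filter, mem_univ, true_and, Set.mem_ofPred_eq]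
      exact ⟨by linear_combination h4, by linear_combination h5, by linear_combination h6⟩
    · have h2 := Prod.ext_iff.1 ((mem_filter.1 hs).2.trans (mem_filter.1 hs').2.symm)
      simp only [Prod.mk.injEq] at e h2
      ext1 i
      fin_cases i
      · change s 0 = s' 0
        rw [hw (s 0), hw (s' 0), h2.1, e.1.1, e.1.2]
      · change s 1 = s' 1
        rw [hw (s 1), hw (s' 1), h2.2, e.2.1, e.2.2]
  · rw [card_product, pow_two (_ / _)]
    exact Nat.mul_le_mul hK hK

theorem card_ann [Fintype F] [Fintype W] (u v : W) :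
    Fintype.card W / Fintype.card F ^ 2 ≤ Nat.card {φ : Dual F W // φ u = 0 ∧ φ v = 0} := by
  have : Finite (Dual F W) := DFunLike.finite _
  let L := (Dual.eval F W u).prod (Dual.eval F W v)
  refine Nat.div_le_of_le_mul ?_
  rw [← Nat.card_eq_fintype_card, ← card_dual (F := F), Submodule.card_eq_card_quotient_mul_card (LinearMap.ker L),
    mul_comm, Nat.card_congr L.quotKerEquivRange.toEquiv]
  refine Nat.mul_le_mul ((Nat.card_le_card_of_injective _ Subtype.val_injective).trans (by simp [pow_two])) (le_of_eq ?_)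
  exact Nat.card_congr (Equiv.subtypeEquivRight fun φ => by simp [L])

theorem quad_orbit_aux [Fintype F] [Finite W] {O : Set (QuadraticForm F W)}
    (hO : ∀ Q ∈ O, ∀ g : W →ₗ[F] W, Function.Injective g → Q.comp g ∈ O) {Q₀ : QuadraticForm F W} (h₀ : Q₀ ∈ O)
    {u v : W} (hΔ : polar Q₀ u v ^ 2 ≠ 4 * Q₀ u * Q₀ v)
    (h : Ell Q₀ u v ∨ (Q₀ u ≠ 0 ∧ ∀ Q ∈ O, ∀ u v, ¬ Ell Q u v)) :
    (Fintype.card F ^ finrank F W - 1) * (Fintype.card F ^ finrank F W - Fintype.card F) ≤
      2 * (Fintype.card F + 1) * Nat.card O := by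
  classical
  have := Fintype.ofFinite W
  have : Finite (QuadraticForm F W) := DFunLike.finite _
  have := Fintype.ofFinite (QuadraticForm F W)
  have hi := indep_of_disc hΔ
  have h2 : 2 ≤ finrank F W := by simpa using hi.fintype_card_le_finrank
  have hk : 0 < Fintype.card W / Fintype.card F ^ 2 := by
    rw [Module.card_eq_pow_finrank (K := F)]
    exact Nat.div_pos (Nat.pow_le_pow_right Fintype.card_pos h2) (by positivity)
  have key := card_mul_le_card_mul (fun (s : Fin 2 → W) (Q : QuadraticForm F W) =>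
      Q (s 0) = Q₀ u ∧ Q (s 1) = Q₀ v ∧ polar Q (s 0) (s 1) = polar Q₀ u v)
    (s := {s | LinearIndependent F s}) (t := {Q | Q ∈ O}) (m := (Fintype.card W / Fintype.card F ^ 2) ^ 2)
    (n := 2 * (Fintype.card F + 1) * (Fintype.card W / Fintype.card F ^ 2) ^ 2) (fun s hs => ?_) fun Q hQ => ?_
  · rw [← mul_assoc] at key
    have key := Nat.le_of_mul_le_mul_right key (by positivity)
    rw [← Fintype.card_subtype, ← Fintype.card_subtype, ← Nat.card_eq_fintype_card, ← Nat.card_eq_fintype_card,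
      card_linearIndependent h2, mul_comm] at key
    simpa using key
  · obtain ⟨g, hg⟩ := exists_equiv_family (mem_filter.1 hs).2 hi
    obtain ⟨Q, hQ, h1, h2, h3⟩ : ∃ Q ∈ O, Q (s 0) = Q₀ u ∧ Q (s 1) = Q₀ v ∧ polar Q (s 0) (s 1) = polar Q₀ u v :=
      ⟨_, hO _ h₀ g g.injective, by simp [hg], by simp [hg], by simp [polar, hg]⟩
    let A := {φ : Dual F W // φ (s 0) = 0 ∧ φ (s 1) = 0}
    let T : A × A → W →ₗ[F] W := fun p => LinearMap.id + p.1.1.smulRight (s 0) + p.2.1.smulRight (s 1)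
    have hT : ∀ p x, T p x = x + p.1.1 x • s 0 + p.2.1 x • s 1 := fun p x => rfl
    have hT0 : ∀ p, T p (s 0) = s 0 := fun p => by simp [hT, p.1.2.1, p.2.2.1]
    have hT1 : ∀ p, T p (s 1) = s 1 := fun p => by simp [hT, p.1.2.2, p.2.2.2]
    have hP : ∀ p x y, polar (Q.comp (T p)) x y = polar Q (T p x) (T p y) := fun p x y => by simp [polar]
    refine le_trans (Nat.pow_le_pow_left (card_ann (s 0) (s 1)) 2) ?_
    rw [pow_two, ← Nat.card_prod, ← Fintype.card_coe, ← Nat.card_eq_fintype_card]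
    refine Nat.card_le_card_of_injective (fun p : A × A => ⟨Q.comp (T p), ?_⟩) fun p p' e => ?_
    · simp only [mem_bipartiteAbove, mem_filter, mem_univ, true_and, hP, QuadraticMap.comp_apply, hT0, hT1]
      refine ⟨hO _ hQ _ ((injective_iff_map_eq_zero _).2 fun x hx => ?_), h1, h2, h3⟩
      have e1 := congrArg p.1.1 hx
      have e2 := congrArg p.2.1 hx
      simp only [hT, map_add, map_smul, p.1.2.1, p.1.2.2, p.2.2.1, p.2.2.2, smul_zero, add_zero, map_zero] at e1 e2
      simpa [hT, e1, e2] using hx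
    · have e : Q.comp (T p) = Q.comp (T p') := congrArg Subtype.val e
      have : ∀ x, p.1.1 x - p'.1.1 x = 0 ∧ p.2.1 x - p'.2.1 x = 0 := fun x => by
        have e1 := hP p x (s 0)
        have e2 := hP p x (s 1)
        rw [e, hP] at e1 e2
        simp only [hT0, hT1] at e1 e2
        simp only [hT, polar_add_left, polar_smul_left, polar_self', polar_comm Q (s 1) (s 0), h1, h2, h3,
          smul_eq_mul] at e1 e2
        by_contra h3
        rcases grad_ne hΔ h3 with h3 | h3
        · exact h3 (by linear_combination -e1)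
        · exact h3 (by linear_combination -e2)
      exact Prod.ext (Subtype.ext (LinearMap.ext fun x => sub_eq_zero.1 (this x).1))
        (Subtype.ext (LinearMap.ext fun x => sub_eq_zero.1 (this x).2))
  · rcases (bipartiteBelow (fun (s : Fin 2 → W) (Q : QuadraticForm F W) =>
      Q (s 0) = Q₀ u ∧ Q (s 1) = Q₀ v ∧ polar Q (s 0) (s 1) = polar Q₀ u v)
        {s | LinearIndependent F s} Q).eq_empty_or_nonempty with h0 | ⟨s, hs⟩
    · simp [h0]
    obtain ⟨h1, h2, h3⟩ := (mem_bipartiteBelow _ |>.1 hs).2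
    have hΔ' : polar Q (s 0) (s 1) ^ 2 ≠ 4 * Q (s 0) * Q (s 1) := by rwa [h1, h2, h3]
    refine le_trans (card_le_card fun s' hs' => ?_) (card_pairs_le hΔ' (h.imp (fun h => ?_) fun h => ⟨h1 ▸ h.1,
      fun z => eq_zero_of_not_ell (h.2 Q (mem_filter.1 hQ).2) hΔ'⟩))
    · rw [h1, h2, h3]
      exact mem_filter.2 ⟨mem_univ _, (mem_bipartiteBelow _ |>.1 hs').2⟩
    · rwa [Ell, h1, h2, h3]

theorem quad_orbit [Fintype F] [Finite W] {O : Set (QuadraticForm F W)}
    (hO : ∀ Q ∈ O, ∀ g : W →ₗ[F] W, Function.Injective g → Q.comp g ∈ O) {Q₀ : QuadraticForm F W} (h₀ : Q₀ ∈ O)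
    {u v : W} (hΔ : polar Q₀ u v ^ 2 ≠ 4 * Q₀ u * Q₀ v) :
    (Fintype.card F ^ finrank F W - 1) * (Fintype.card F ^ finrank F W - Fintype.card F) ≤
      2 * (Fintype.card F + 1) * Nat.card O := by
  by_cases h : ∃ u v, Ell Q₀ u v
  · obtain ⟨u, v, h⟩ := h
    exact quad_orbit_aux hO h₀ h.1 (.inl h)
  push Not at h
  have : Finite (QuadraticForm F W) := DFunLike.finite _
  obtain ⟨u, v, hΔ, hu⟩ : ∃ u v, polar Q₀ u v ^ 2 ≠ 4 * Q₀ u * Q₀ v ∧ Q₀ u ≠ 0 := by
    by_cases hu : Q₀ u = 0
    · by_cases hv : Q₀ v = 0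
      · rw [hu, hv, mul_zero] at hΔ
        refine ⟨u + v, v, ?_, ?_⟩
        · simpa [hv] using hΔ
        · simpa [QuadraticMap.map_add Q₀, hu, hv] using hΔ
      · exact ⟨v, u, by rwa [polar_comm, mul_right_comm], hv⟩
    · exact ⟨u, v, hΔ, hu⟩
  refine (quad_orbit_aux (O := {Q ∈ O | ∀ u v, ¬ Ell Q u v}) (fun Q hQ g hg => ⟨hO Q hQ.1 g hg, fun u v e =>
    hQ.2 (g u) (g v) (by simpa [Ell, polar] using e)⟩) ⟨h₀, h⟩ hΔ (.inr ⟨hu, fun Q hQ => hQ.2⟩)).trans ?_
  exact Nat.mul_le_mul_left _ (Nat.card_mono (Set.toFinite _) (Set.sep_subset _ _))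

end Cfsg.Agent.H65
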