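import Cfsg.Agent.H65.WeilR1
import Cfsg.Agent.H9.SLBasic
set_option autoImplicit false

/-! Projections onto weight spaces; transvection groups of `SL_n`. -/

namespace Cfsg.Agent.H65

open Module Matrix

theorem exists_dual_char {F K A : Type*} [Field F] [Finite F] [Field K] [AddCommGroup A] [Module F A]
    {ψ : AddChar F K} (hψ : ψ ≠ 1) (χ : AddChar A K) : ∃ l : Dual F A, ∀ x, χ x = ψ (l x) := by
  choose l hl using fun x : A => exists_mulShift hψ
    (χ.compAddMonoidHom (LinearMap.toSpanSingleton F A x).toAddMonoidHom)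
  have hl : ∀ x (c : F), χ (c • x) = ψ (c * l x) := hl
  refine ⟨⟨⟨l, fun x y => eq_of_char hψ fun c => ?_⟩, fun a x => eq_of_char hψ fun c => ?_⟩, fun x => by
    simpa using hl x 1⟩
  · rw [← hl, smul_add, AddChar.map_add_eq_mul, hl, hl, mul_add, AddChar.map_add_eq_mul]
  · simp only [RingHom.id_apply, smul_eq_mul]
    rw [← hl, smul_smul, hl, mul_assoc]

section prj
variable {A V : Type*} [AddCommGroup A] [Fintype A] [AddCommGroup V] [Module ℂ V]

/-- the projection onto a weight space -/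
noncomputable def prj (T : A → End ℂ V) (χ : AddChar A ℂ) : End ℂ V := (Fintype.card A : ℂ)⁻¹ • ∑ a, χ (-a) • T a

theorem prj_of_mem {T : A → End ℂ V} {χ χ' : AddChar A ℂ} [Decidable (χ' = χ)] {x : V} (hx : x ∈ ws T χ') :
    prj T χ x = if χ' = χ then x else 0 := by
  classical
  simp only [prj, LinearMap.smul_apply, LinearMap.sum_apply, mem_ws.1 hx, smul_smul, ← Finset.sum_smul]
  have : ∑ a, χ (-a) * χ' a = ∑ a, (χ' - χ) a := Finset.sum_congr rfl fun a _ => by
    rw [AddChar.sub_apply, mul_comm]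
  rw [this, AddChar.sum_eq_ite]
  simp only [sub_eq_zero]
  split_ifs <;> simp

theorem isProj_prj {T : A → End ℂ V} (hT : ∀ a b, T (a + b) = T a * T b) (χ : AddChar A ℂ) :
    LinearMap.IsProj (ws T χ) (prj T χ) where
  map_mem x := mem_ws.2 fun b => by
    rw [prj, LinearMap.smul_apply, map_smul, smul_comm (χ b)]
    congr 1
    simp only [LinearMap.smul_apply, LinearMap.sum_apply, map_smul, map_sum, Finset.smul_sum]
    refine Fintype.sum_equiv (Equiv.addLeft b) _ _ fun a => ?_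
    rw [Equiv.coe_addLeft, hT, End.mul_apply, smul_smul, ← AddChar.map_add_eq_mul, neg_add, add_neg_cancel_left]
  map_id x hx := by
    classical
    rw [prj_of_mem hx, if_pos rfl]

theorem trace_of_range [FiniteDimensional ℂ V] {f : End ℂ V} {U : Submodule ℂ V} (h : ∀ x, f x ∈ U) {c : ℂ}
    (hc : ∀ x ∈ U, f x = c • x) : LinearMap.trace ℂ V f = c * finrank ℂ U := by
  rw [← LinearMap.trace_restrict_eq_of_forall_mem U f h, show f.restrict (fun x _ => h x) = c • LinearMap.id from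
    LinearMap.ext fun x => Subtype.ext (hc x x.2)]
  simp

end prj

variable {F : Type*} [Field F] {n : ℕ}

local notation "X" => Fin n → F
local notation "G" => SpecialLinearGroup (Fin n) F

theorem sl_ext {g g' : G} (h : ∀ x, g.1 *ᵥ x = g'.1 *ᵥ x) : g = g' :=
  Subtype.ext (toLin'.injective (LinearMap.ext h))

theorem sl_mul (g g' : G) (x : X) : (g * g').1 *ᵥ x = g.1 *ᵥ (g'.1 *ᵥ x) := by simp

theorem sl_inv_mul (g : G) (x : X) : (g⁻¹).1 *ᵥ (g.1 *ᵥ x) = x := by rw [← sl_mul, inv_mul_cancel]; simp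

theorem sl_mul_inv (g : G) (x : X) : g.1 *ᵥ ((g⁻¹).1 *ᵥ x) = x := by rw [← sl_mul, mul_inv_cancel]; simp

theorem exists_sl (f : End F X) (h : LinearMap.det f = 1) : ∃ g : G, ∀ x, g.1 *ᵥ x = f x :=
  ⟨⟨LinearMap.toMatrix' f, by rwa [LinearMap.det_toMatrix']⟩, fun x => LinearMap.toMatrix'_mulVec f x⟩

open Classical in
/-- the transvection `x ↦ x + φ x • u` -/
noncomputable def slT (u : X) (φ : Dual F X) : G :=
  if h : φ u = 0 then (exists_sl (LinearMap.transvection φ u) (by simp [h])).choose else 1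

theorem slT_mulVec {u : X} {φ : Dual F X} (h : φ u = 0) (x : X) : (slT u φ).1 *ᵥ x = x + φ x • u := by
  rw [slT, dif_pos h]
  exact (exists_sl (LinearMap.transvection φ u) (by simp [h])).choose_spec x

theorem slT_add {u : X} {φ φ' : Dual F X} (h : φ u = 0) (h' : φ' u = 0) : slT u (φ + φ') = slT u φ * slT u φ' :=
  sl_ext fun x => by
    rw [sl_mul, slT_mulVec h, slT_mulVec h', slT_mulVec (by simp [h, h'])]
    simp only [map_add, map_smul, h, LinearMap.add_apply]
    module

theorem slT_zero (u : X) : slT u 0 = 1 := sl_ext fun x => by simp [slT_mulVec]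

theorem slT_smul (a : F) {u : X} {φ : Dual F X} (h : φ u = 0) : slT (a • u) φ = slT u (a • φ) :=
  sl_ext fun x => by rw [slT_mulVec (by simp [h]), slT_mulVec (by simp [h])]; simp [smul_smul, mul_comm]

theorem conj_slT (g : G) {u : X} {φ φ' : Dual F X} (h : φ u = 0) (e : ∀ x, φ' (g.1 *ᵥ x) = φ x) :
    g * slT u φ = slT (g.1 *ᵥ u) φ' * g := sl_ext fun x => by
  rw [sl_mul, sl_mul, slT_mulVec h, slT_mulVec (by rw [e, h]), e, mulVec_add, mulVec_smul]

theorem exists_not_mem_span (hn : 3 ≤ n) (u w : X) : ∃ z, ∃ α : Dual F X, α u = 0 ∧ α w = 0 ∧ α z = 1 := by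
  obtain ⟨z, hz⟩ : ∃ z, z ∉ Submodule.span F (Set.range ![u, w]) := by
    by_contra! h
    have := finrank_range_le_card (R := F) ![u, w]
    rw [Set.finrank, show Submodule.span F (Set.range ![u, w]) = ⊤ from eq_top_iff.2 fun z _ => h z] at this
    simp at this
    omega
  obtain ⟨α, h1, h2, -⟩ := H27.exists_dual_ne_zero_two _ hz hz
  exact ⟨z, α, h1 _ (Submodule.subset_span ⟨0, rfl⟩), h1 _ (Submodule.subset_span ⟨1, rfl⟩), h2⟩

theorem exists_sl_pair (hn : 3 ≤ n) {u w u' w' : X} (h : LinearIndependent F ![u, w])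
    (h' : LinearIndependent F ![u', w']) : ∃ g : G, g.1 *ᵥ u = u' ∧ g.1 *ᵥ w = w' := by
  obtain ⟨e, he⟩ := exists_equiv_family h h'
  obtain ⟨z, α, h1, h2, h3⟩ := exists_not_mem_span hn u w
  have hd : LinearMap.det (e : X →ₗ[F] X) ≠ 0 := (LinearEquiv.isUnit_det' e).ne_zero
  obtain ⟨g, hg⟩ := exists_sl ((e : X →ₗ[F] X) ∘ₗ LinearMap.transvection α (((LinearMap.det (e : X →ₗ[F] X))⁻¹ - 1) • z))
    (by simp [h3, hd])
  exact ⟨g, by simpa [hg, LinearMap.transvection.apply, h1] using he 0,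
    by simpa [hg, LinearMap.transvection.apply, h2] using he 1⟩

/-- the functionals vanishing on `u` -/
abbrev Ann (u : X) : Submodule F (Dual F X) := LinearMap.ker (Dual.eval F X u)

variable {K V : Type*} [Field K] [AddCommGroup V] [Module K V] (ρ : SpecialLinearGroup (Fin n) F →* End K V)
  (ψ : AddChar F K)

/-- the transvections with centre `u` -/
noncomputable def tS (u : X) (φ : Ann u) : End K V := ρ (slT u φ)

/-- the character of the transvection group given by a vector -/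
def chS (u w : X) : AddChar (Ann u) K := ψ.compAddMonoidHom (Dual.eval F X w ∘ₗ (Ann u).subtype).toAddMonoidHom

/-- the weight space -/
noncomputable def VS (u w : X) : Submodule K V := ws (tS ρ u) (chS ψ u w)

variable {ρ ψ}

theorem mem_VS {u w : X} {x : V} : x ∈ VS ρ ψ u w ↔ ∀ φ : Dual F X, φ u = 0 → ρ (slT u φ) x = ψ (φ w) • x :=
  mem_ws.trans Subtype.forall

theorem tS_add (u : X) (φ φ' : Ann u) : tS ρ u (φ + φ') = tS ρ u φ * tS ρ u φ' := by
  rw [tS, tS, tS, ← map_mul, ← slT_add (φ := φ.1) (φ' := φ'.1) φ.2 φ'.2]; rfl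

theorem tS_comm (u : X) (φ φ' : Ann u) : Commute (tS ρ u φ) (tS ρ u φ') := by
  rw [Commute, SemiconjBy, ← tS_add, ← tS_add, add_comm]

theorem tS_pow (u : X) (φ : Ann u) : tS ρ u φ ^ ringChar F = 1 := by
  have : ∀ k : ℕ, tS ρ u φ ^ k = tS ρ u (k • φ) := fun k => by
    induction k with
    | zero => simp [tS, slT_zero]
    | succ k ih => rw [pow_succ, ih, succ_nsmul, tS_add]
  rw [this, ← Nat.cast_smul_eq_nsmul F, ringChar.Nat.cast_ringChar, zero_smul]
  simp [tS, slT_zero]

theorem map_VS (g : G) {u w : X} {x : V} (hx : x ∈ VS ρ ψ u w) : ρ g x ∈ VS ρ ψ (g.1 *ᵥ u) (g.1 *ᵥ w) :=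
  mem_VS.2 fun φ hφ => by
    rw [← End.mul_apply, ← map_mul, ← conj_slT g (φ := φ ∘ₗ toLin' g.1) hφ fun _ => rfl, map_mul, End.mul_apply,
      mem_VS.1 hx (φ ∘ₗ toLin' g.1) hφ, map_smul]
    rfl

theorem VS_smul {a : F} (ha : a ≠ 0) (u w : X) (c : F) : VS ρ ψ (a • u) (a • w + c • u) = VS ρ ψ u w := by
  have key : ∀ (a : F), a ≠ 0 → ∀ (u w : X) (c : F), VS ρ ψ u w ≤ VS ρ ψ (a • u) (a • w + c • u) :=
    fun a ha u w c x hx => mem_VS.2 fun φ hφ => by
      have : φ u = 0 := by simpa [ha] using hφ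
      rw [slT_smul a this, mem_VS.1 hx _ (by simp [this])]
      simp [this]
  refine le_antisymm ((key a⁻¹ (inv_ne_zero ha) _ _ (-(c * a⁻¹ * a⁻¹))).trans (le_of_eq ?_)) (key a ha u w c)
  congr 1 <;> match_scalars <;> field_simp
  ring

theorem finrank_VS_le [FiniteDimensional K V] (g : G) (u w : X) :
    finrank K (VS ρ ψ u w) ≤ finrank K (VS ρ ψ (g.1 *ᵥ u) (g.1 *ᵥ w)) :=
  LinearMap.finrank_le_finrank_of_injective (f := (ρ g).restrict fun _ => map_VS g) fun x y e =>
    Subtype.ext (sub_eq_zero.1 (by_contra fun h => map_ne_zero_of_rep ρ g h (by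
      rw [map_sub, sub_eq_zero]; exact congrArg Subtype.val e)))

theorem chS_eq_iff [Finite F] (hψ : ψ ≠ 1) {u w w' : X} : chS ψ u w = chS ψ u w' ↔ w - w' ∈ Submodule.span F {u} := by
  refine ⟨fun h => by_contra fun h' => ?_, fun h => AddChar.ext _ _ fun φ => ?_⟩
  · obtain ⟨φ, h1, h2, -⟩ := H27.exists_dual_ne_zero_two _ h' h'
    have h1 := h1 u (Submodule.mem_span_singleton_self u)
    have : φ w = φ w' := eq_of_char hψ fun c => DFunLike.congr_fun h ⟨c • φ, by simp [h1]⟩
    simp [this] at h2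
  · obtain ⟨c, hc⟩ := Submodule.mem_span_singleton.1 h
    have : φ.1 w = φ.1 w' := by rw [← sub_eq_zero, ← map_sub, ← hc, map_smul, show φ.1 u = 0 from φ.2, smul_zero]
    exact congrArg ψ this

theorem trivial_of_slT (hn : 3 ≤ n) {u : X} (hu : u ≠ 0) (h : ∀ φ : Dual F X, φ u = 0 → ρ (slT u φ) = 1) (g : G) :
    ρ g = 1 := by
  refine (H9.sl_subgroup_eq_top_of_transvection ρ.ker (fun i j hij c => ?_) ▸ Subgroup.mem_top g : g ∈ ρ.ker)
  obtain ⟨z, α, h1, -, h2⟩ := exists_not_mem_span hn u u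
  obtain ⟨g, hg, -⟩ := exists_sl_pair hn (u := u) (w := z) (u' := Pi.single i 1) (w' := Pi.single j 1)
    (LinearIndependent.pair_iff.2 fun s t e => by
      have : t = 0 := by simpa [h1, h2] using congrArg α e
      simpa [this, hu] using e)
    (LinearIndependent.pair_iff.2 fun s t e => ⟨by simpa [hij] using congrFun e i, by simpa [hij] using congrFun e j⟩)
  have h3 : SpecialLinearGroup.transvection hij c = slT (Pi.single i 1) (c • LinearMap.proj j) := sl_ext fun x => by
    rw [slT_mulVec (by simp [hij.symm])]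
    ext k
    simp [SpecialLinearGroup.transvection, Matrix.transvection, add_mulVec, single_mulVec, Function.update_apply,
      Pi.single_apply]
  have h4 := conj_slT g (u := u) (φ := (c • LinearMap.proj j) ∘ₗ toLin' g.1) (φ' := c • LinearMap.proj j)
    (by simp [hg, hij.symm]) fun _ => rfl
  rw [MonoidHom.mem_ker, h3, ← hg, eq_mul_inv_of_mul_eq h4.symm, map_mul, map_mul, h _ (by simp [hg, hij.symm]),
    mul_one, ← map_mul, mul_inv_cancel, map_one]

theorem indep_of_not_mem {u w : X} (hu : u ≠ 0) (hw : w ∉ Submodule.span F {u}) : LinearIndependent F ![u, w] :=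
  (LinearIndependent.pair_iff' hu).2 fun a e => hw (Submodule.mem_span_singleton.2 ⟨a, e⟩)

theorem exists_eval (u : X) (l : Dual F (Ann u)) : ∃ w : X, ∀ φ : Ann u, l φ = φ.1 w := by
  obtain ⟨l, rfl⟩ := LinearMap.exists_extend l
  obtain ⟨w, rfl⟩ := (evalEquiv F X).surjective l
  exact ⟨w, fun _ => rfl⟩

instance finite_dual [Finite F] : Finite (Dual F X) := DFunLike.finite _

theorem card_Ann [Finite F] {u : X} (hu : u ≠ 0) : Nat.card (Ann u) = Nat.card F ^ (n - 1) := by
  refine Nat.eq_of_mul_eq_mul_right (Nat.card_pos (α := F)) ?_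
  obtain ⟨i, -⟩ := Function.ne_iff.1 hu
  rw [exists_k hu, ← pow_succ, Nat.sub_add_cancel i.pos, Nat.card_fun]
  simp

theorem sl_bound [Finite F] [IsAlgClosed K] [FiniteDimensional K V] (hn : 3 ≤ n) (hp : ((ringChar F : ℕ) : K) ≠ 0)
    {g : G} (hg : ρ g ≠ 1) : Nat.card F ^ (n - 1) - 1 ≤ finrank K V := by
  classical
  obtain ⟨ψ, hψ⟩ := exists_addChar (F := F) hp
  let u : X := Pi.single ⟨0, by omega⟩ 1
  have hu : u ≠ 0 := by simp [u]
  obtain ⟨φ, h1, h2⟩ : ∃ φ : Dual F X, φ u = 0 ∧ ρ (slT u φ) ≠ 1 := by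
    by_contra! h
    exact hg (trivial_of_slT hn hu h g)
  obtain ⟨γ, x, hx, hx0, h3⟩ := exists_ws_ne (tS_comm (ρ := ρ) u) hp (tS_pow u) (i := ⟨φ, h1⟩) h2
  obtain ⟨l, hl⟩ := exists_dual_char hψ (A := Ann u) ⟨γ, smul_left_injective K hx0 (by
      simp only [← mem_ws.1 hx, tS, ZeroMemClass.coe_zero, slT_zero, map_one, End.one_apply, one_smul]),
    fun a b => smul_left_injective K hx0 (by
      simp only
      rw [← mem_ws.1 hx, tS_add, End.mul_apply, mem_ws.1 hx b, map_smul, mem_ws.1 hx a, smul_smul, mul_comm])⟩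
  have key : ∀ l : Dual F (Ann u), l ≠ 0 → ∃ w, LinearIndependent F ![u, w] ∧
      (fun φ => ψ (l φ)) = chS ψ u w := fun l h => by
    obtain ⟨w, hw⟩ := exists_eval u l
    refine ⟨w, indep_of_not_mem hu fun e => h (LinearMap.ext fun φ => ?_), funext fun φ => congrArg ψ (hw φ)⟩
    obtain ⟨c, rfl⟩ := Submodule.mem_span_singleton.1 e
    rw [hw, map_smul, show φ.1 u = 0 from φ.2, smul_zero, LinearMap.zero_apply]
  obtain ⟨w, hw, e⟩ := key l (by rintro rfl; exact h3 (by simpa using hl ⟨φ, h1⟩))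
  have : Finite (Dual F (Ann u)) := DFunLike.finite _
  have := card_mul_le_finrank (tS_comm (ρ := ρ) u) (J := {l : Dual F (Ann u) // l ≠ 0}) (γ := fun l φ => ψ (l.1 φ))
    (fun l l' e => Subtype.ext (LinearMap.ext fun φ => eq_of_char hψ fun c => by simpa using congrFun e (c • φ)))
    (d := 1) fun l => by
      obtain ⟨w', hw', e'⟩ := key l.1 l.2
      obtain ⟨g, h4, h5⟩ := exists_sl_pair hn hw hw'
      have := map_VS g (show x ∈ VS ρ ψ u w by rw [VS, ← e]; convert hx using 2; exact (funext hl).symm)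
      rw [h4, h5] at this
      rw [e']
      exact one_le_finrank ((Submodule.ne_bot_iff _).2 ⟨_, this, map_ne_zero_of_rep ρ g hx0⟩)
  have h6 := Fintype.ofFinite (Dual F (Ann u))
  have h7 : Nat.card (Dual F (Ann u)) = Nat.card F ^ (n - 1) := (card_dual (F := F) (W := Ann u)).trans (card_Ann hu)
  rwa [mul_one, Nat.card_eq_fintype_card, Fintype.card_subtype_compl, Fintype.card_subtype_eq,
    ← Nat.card_eq_fintype_card, h7] at this

end Cfsg.Agent.H65
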