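import Cfsg.Agent.H65.Wt
set_option autoImplicit false

/-! Orbits of sesquilinear forms and the lower bound for degrees from an abelian unipotent radical. -/

namespace Cfsg.Agent.H65

open Module

variable {F W : Type*} [Field F] [AddCommGroup W] [Module F W]

/-- `ε`-Hermitian forms -/
structure Sq (σ : F →+* F) (ε : F) (b : W → W → F) : Prop where
  add : ∀ u u' v, b (u + u') v = b u v + b u' v
  smul : ∀ (c : F) u v, b (c • u) v = c * b u v
  symm : ∀ u v, b u v = ε * σ (b v u)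

namespace Sq
variable {σ : F →+* F} {ε : F} {b : W → W → F} (h : Sq σ ε b)
include h

theorem add' (u v v' : W) : b u (v + v') = b u v + b u v' := by
  rw [h.symm, h.add, map_add, mul_add, ← h.symm, ← h.symm]

theorem smul' (c : F) (u v : W) : b u (c • v) = σ c * b u v := by
  rw [h.symm, h.smul, map_mul, h.symm u v]; ring

/-- the functional `b(·, v)` -/
def fn (v : W) : W →ₗ[F] F where
  toFun u := b u v
  map_add' u u' := h.add u u' v
  map_smul' c u := h.smul c u v

theorem comp (g : W →ₗ[F] W) : Sq σ ε fun u v => b (g u) (g v) :=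
  ⟨fun u u' v => by rw [map_add, h.add], fun c u v => by rw [map_smul, h.smul], fun u v => h.symm _ _⟩

theorem card_le [Fintype W] [DecidableEq F] {e k : ℕ} (he : ∀ d : F, Nat.card {a // a * σ a = d} ≤ e)
    (hk : k * Nat.card F = Nat.card W) [Finite F] {c : F} (hc : c ≠ 0) :
    (Finset.univ.filter fun v => b v v = c).card ≤ e * k := by
  classical
  rcases (Finset.univ.filter fun v => b v v = c).eq_empty_or_nonempty with h0 | ⟨v₀, h0⟩
  · simp [h0]
  have h0 : b v₀ v₀ = c := (Finset.mem_filter.1 h0).2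
  have hf : h.fn v₀ ≠ 0 := fun e => hc (h0 ▸ LinearMap.congr_fun e v₀)
  have hk' : (Finset.univ.filter fun v => v ∈ LinearMap.ker (h.fn v₀)).card = k := by
    refine Nat.eq_of_mul_eq_mul_right (Nat.card_pos (α := F)) ?_
    rw [hk, ← card_ker_mul hf, ← Fintype.card_subtype, Nat.card_eq_fintype_card (α := LinearMap.ker _)]
  rw [← hk']
  have hz : ∀ v, b (v - (b v v₀ / c) • v₀) v₀ = 0 := fun v => by
    have := (h.fn v₀).map_sub v ((b v v₀ / c) • v₀)
    simp only [fn, LinearMap.coe_mk, AddHom.coe_mk] at this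
    rw [this, h.smul, h0, div_mul_cancel₀ _ hc, sub_self]
  refine Finset.card_le_mul_card_image_of_maps_to (f := fun v => v - (b v v₀ / c) • v₀)
    (fun v _ => Finset.mem_filter.2 ⟨Finset.mem_univ _, hz v⟩) e fun y hy => ?_
  have hy : b y v₀ = 0 := (Finset.mem_filter.1 hy).2
  refine le_trans ?_ (he ((c - b y y) / c))
  rw [← Fintype.card_coe, ← Nat.card_eq_fintype_card]
  refine Nat.card_le_card_of_injective (fun v => ⟨b v.1 v₀ / c, ?_⟩) fun v v' e => Subtype.ext ?_
  · obtain ⟨h1, h2⟩ := Finset.mem_filter.1 v.2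
    have h1 := (Finset.mem_filter.1 h1).2
    generalize b v.1 v₀ / c = a at h2
    rw [eq_add_of_sub_eq h2, h.add, h.add', h.add', h.smul', h.smul, h.smul, h.smul',
      h.symm v₀ y, hy, h0] at h1
    rw [eq_div_iff hc]
    simp only [map_zero, mul_zero] at h1
    linear_combination h1
  · have h2 := (Finset.mem_filter.1 v.2).2
    have h2' := (Finset.mem_filter.1 v'.2).2
    have e : b v.1 v₀ / c = b v'.1 v₀ / c := congrArg Subtype.val e
    rw [← e] at h2'
    exact sub_left_inj.1 (h2.trans h2'.symm)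

end Sq

/-- a set of linear maps that is transitive on the non-zero vectors and contains the transvections -/
structure Big (Γ : Set (W →ₗ[F] W)) : Prop where
  trans : ∀ v, v ≠ 0 → ∀ v', v' ≠ 0 → ∃ g ∈ Γ, g v = v'
  tv : ∀ v (φ : Dual F W), φ v = 0 → LinearMap.id + φ.smulRight v ∈ Γ

theorem exists_k [Finite F] [Finite W] {v : W} (hv : v ≠ 0) :
    Nat.card (LinearMap.ker (Dual.eval F W v)) * Nat.card F = Nat.card W := by
  rw [card_ker_mul, card_dual]
  exact fun e => hv ((Module.forall_dual_apply_eq_zero_iff F v).1 fun φ => LinearMap.congr_fun e φ)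

theorem orbit_bound [Finite F] [Finite W] {σ : F →+* F} {ε : F} {O : Set (W → W → F)} (hO : ∀ b ∈ O, Sq σ ε b)
    {Γ : Set (W →ₗ[F] W)} (hΓ : Big Γ) (hcl : ∀ b ∈ O, ∀ g ∈ Γ, (fun u v => b (g u) (g v)) ∈ O) {e : ℕ}
    (he : ∀ d : F, Nat.card {a // a * σ a = d} ≤ e) {b₀ : W → W → F} (hb : b₀ ∈ O) {v₀ : W}
    (h0 : b₀ v₀ v₀ ≠ 0) : Nat.card W - 1 ≤ e * Nat.card {b // b ∈ O ∧ ∃ v, b v v ≠ 0} := by
  classical
  have := Fintype.ofFinite W
  have := Fintype.ofFinite F
  have hv₀ : v₀ ≠ 0 := by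
    rintro rfl
    exact h0 (((hO _ hb).fn 0).map_zero)
  have hk := exists_k (F := F) hv₀
  set k := Nat.card (LinearMap.ker (Dual.eval F W v₀))
  have hk0 : 0 < k := Nat.pos_of_mul_pos_right (hk ▸ Nat.card_pos)
  have key := Finset.card_mul_le_card_mul (fun (v : W) (b : W → W → F) => b v v = b₀ v₀ v₀)
    (s := Finset.univ.erase 0) (t := Finset.univ.filter fun b => b ∈ O ∧ ∃ v, b v v ≠ 0) (m := k) (n := e * k)
    (fun v hv => ?_) fun b hb => ?_
  · rw [Finset.card_erase_of_mem (Finset.mem_univ _), Finset.card_univ, ← Fintype.card_subtype,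
      ← Nat.card_eq_fintype_card, ← Nat.card_eq_fintype_card, ← mul_assoc] at key
    rw [mul_comm]
    exact Nat.le_of_mul_le_mul_right key hk0
  · have hv := Finset.ne_of_mem_erase hv
    obtain ⟨g, hg, e⟩ := hΓ.trans v hv v₀ hv₀
    have h1 := hcl _ hb g hg
    have h2 := hO _ h1
    obtain ⟨b, h1, h2, h3⟩ : ∃ b ∈ O, Sq σ ε b ∧ b v v = b₀ v₀ v₀ := ⟨_, h1, h2, by simp only [e]⟩
    have hk' : Nat.card (LinearMap.ker (Dual.eval F W v)) = k :=
      Nat.eq_of_mul_eq_mul_right (Nat.card_pos (α := F)) (by rw [hk, exists_k hv])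
    have hfix : ∀ φ : LinearMap.ker (Dual.eval F W v),
        (LinearMap.id + φ.1.smulRight v : W →ₗ[F] W) v = v := fun φ => by
      simp [show φ.1 v = 0 from φ.2]
    rw [← hk', ← Fintype.card_coe, ← Nat.card_eq_fintype_card]
    refine Nat.card_le_card_of_injective (fun φ => ⟨fun x y => b ((LinearMap.id + φ.1.smulRight v : W →ₗ[F] W) x)
      ((LinearMap.id + φ.1.smulRight v : W →ₗ[F] W) y), ?_⟩) fun φ φ' e => Subtype.ext (LinearMap.ext fun x => ?_)
    · simp only [Finset.mem_bipartiteAbove, Finset.mem_filter, Finset.mem_univ, true_and, hfix]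
      exact ⟨⟨hcl _ h1 _ (hΓ.tv v _ φ.2), v, by rw [hfix, h3]; exact h0⟩, h3⟩
    · have e := congrFun (congrFun (congrArg Subtype.val e) x) v
      simp only [hfix] at e
      simp only [LinearMap.add_apply, LinearMap.id_apply, LinearMap.smulRight_apply, h2.add, h2.smul, h3] at e
      exact mul_right_cancel₀ h0 (add_left_cancel e)
  · refine le_trans (Finset.card_le_card fun v hv => ?_)
      ((hO b (Finset.mem_filter.1 hb).2.1).card_le he hk h0)
    exact Finset.mem_filter.2 ⟨Finset.mem_univ _, (Finset.mem_bipartiteBelow _ |>.1 hv).2⟩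

/-- an abelian unipotent radical, given by the elements attached to pairs of vectors -/
structure Sieg {G : Type*} [Group G] (σ : F →+* F) (ε : F) (s : W → W → G) : Prop where
  add : ∀ u u' v, s (u + u') v = s u v * s u' v
  comm : ∀ u v u' v', Commute (s u v) (s u' v')
  symm : ∀ (a : F) u v, s (a • u) v = s ((σ a * ε) • v) u
  inv : ∀ x, σ (σ x) = x
  eps : σ ε = ε

namespace Sieg
variable {G : Type*} [Group G] {σ : F →+* F} {ε : F} {s : W → W → G} (h : Sieg σ ε s)
variable {K V : Type*} [Field K] [AddCommGroup V] [Module K V] (ρ : G →* End K V)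
include h

theorem zero (v : W) : s 0 v = 1 := by simpa using h.add 0 0 v

theorem pow_char (u v : W) : s u v ^ ringChar F = 1 := by
  have : ∀ n : ℕ, s (n • u) v = s u v ^ n := fun n => by
    induction n with
    | zero => simp [h.zero]
    | succ n ih => rw [succ_nsmul, h.add, ih, pow_succ]
  rw [← this, ← Nat.cast_smul_eq_nsmul F, ringChar.Nat.cast_ringChar, zero_smul, h.zero]

theorem commT (i j : W × W) : Commute (ρ (s i.1 i.2)) (ρ (s j.1 j.2)) := (h.comm _ _ _ _).map ρ

theorem exists_sq [Finite F] {ψ : AddChar F K} (hψ : ψ ≠ 1) (hσ : ∀ x, ψ (σ x) = ψ x) {γ : W × W → K} {w : V}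
    (hw : w ∈ ws (fun i : W × W => ρ (s i.1 i.2)) γ) (h0 : w ≠ 0) :
    ∃ b, Sq σ ε b ∧ γ = fun i => ψ (b i.1 i.2) := by
  have hw := mem_ws.1 hw
  have hadd : ∀ u u' v, γ (u + u', v) = γ (u, v) * γ (u', v) := fun u u' v => by
    refine smul_left_injective K h0 ?_
    simp only [← hw, mul_smul, mul_comm (γ (u, v))]
    rw [h.add, map_mul, End.mul_apply, hw (u', v), hw (u, v), map_smul, hw (u, v)]
  have hzero : ∀ v, γ (0, v) = 1 := fun v => by
    refine smul_left_injective K h0 ?_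
    simp only [← hw, h.zero, map_one, End.one_apply, one_smul]
  have hsym : ∀ (a : F) u v, γ (a • u, v) = γ ((σ a * ε) • v, u) := fun a u v => by
    refine smul_left_injective K h0 ?_
    simp only [← hw, h.symm a u v]
  choose b hb using fun u v => exists_mulShift hψ
    ⟨fun a => γ (a • u, v), by rw [zero_smul, hzero], fun a a' => by rw [add_smul, hadd]⟩
  simp only [AddChar.coe_mk] at hb
  refine ⟨b, ⟨fun u u' v => eq_of_char hψ fun x => ?_, fun c u v => eq_of_char hψ fun x => ?_,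
    fun u v => eq_of_char hψ fun x => ?_⟩, funext fun i => by rw [← one_mul (b _ _), ← hb, one_smul]⟩
  · rw [← hb, smul_add, hadd, hb, hb, mul_add, AddChar.map_add_eq_mul]
  · rw [← hb, smul_smul, hb, mul_assoc]
  · rw [← hb, hsym, hb, ← hσ, map_mul σ, map_mul σ, h.inv, h.eps, mul_assoc]

/-- the lower bound -/
theorem bound [Finite F] [Finite W] [IsAlgClosed K] [FiniteDimensional K V] (hp : ((ringChar F : ℕ) : K) ≠ 0)
    {ψ : AddChar F K} (hψ : ψ ≠ 1) (hσ : ∀ x, ψ (σ x) = ψ x) {Γ : Set (W →ₗ[F] W)} (hΓ : Big Γ)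
    (hg : ∀ g ∈ Γ, ∃ x : G, ∀ u v, x * s u v * x⁻¹ = s (g u) (g v)) {e d : ℕ}
    (he : ∀ d : F, Nat.card {a // a * σ a = d} ≤ e)
    (hd : ∀ b, Sq σ ε b → ∀ v, b v v ≠ 0 → ws (fun i : W × W => ρ (s i.1 i.2)) (fun i => ψ (b i.1 i.2)) ≠ ⊥ →
      d ≤ finrank K (ws (fun i : W × W => ρ (s i.1 i.2)) fun i => ψ (b i.1 i.2)))
    {a : F} {v : W} (hne : ρ (s (a • v) v) ≠ 1) : (Nat.card W - 1) * d ≤ e * finrank K V := by
  obtain ⟨γ, w, hw, h0, h1⟩ := exists_ws_ne (h.commT ρ) hp (fun i => by rw [← map_pow, h.pow_char, map_one])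
    (i := (a • v, v)) hne
  obtain ⟨b₀, hb₀, rfl⟩ := h.exists_sq ρ hψ hσ hw h0
  have h2 := orbit_bound (O := {b | Sq σ ε b ∧ ws (fun i : W × W => ρ (s i.1 i.2)) (fun i => ψ (b i.1 i.2)) ≠ ⊥})
    (fun b hb => hb.1) hΓ (fun b hb g hgΓ => ⟨hb.1.comp g, ?_⟩) he (b₀ := b₀) (v₀ := v)
    ⟨hb₀, (Submodule.ne_bot_iff _).2 ⟨w, hw, h0⟩⟩ fun e => h1 (by simp [hb₀.smul, e])
  · refine (Nat.mul_le_mul_right d h2).trans ?_
    rw [mul_assoc]
    refine Nat.mul_le_mul_left e (card_mul_le_finrank (h.commT ρ) (γ := fun b i => ψ (b.1 i.1 i.2))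
      (fun b b' e => Subtype.ext (funext fun u => funext fun v => eq_of_char hψ fun x => ?_)) fun b => ?_)
    · rw [← b.2.1.1.smul, ← b'.2.1.1.smul]
      exact congrFun e (x • u, v)
    · obtain ⟨v, hv⟩ := b.2.2
      exact hd _ b.2.1.1 v hv b.2.1.2
  · obtain ⟨x, hx⟩ := hg g hgΓ
    obtain ⟨w, hw, h0⟩ := (Submodule.ne_bot_iff _).1 hb.2
    refine (Submodule.ne_bot_iff _).2 ⟨ρ x⁻¹ w, mem_ws.2 fun i => ?_, fun e => h0 ?_⟩
    · rw [← map_smul, ← mem_ws.1 hw (g i.1, g i.2), ← hx, ← End.mul_apply, ← End.mul_apply, ← map_mul, ← map_mul]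
      congr 2
      group
    · rw [← End.one_apply (R := K) w, ← map_one ρ, ← mul_inv_cancel x, map_mul, End.mul_apply, e, map_zero]

end Sieg

theorem one_le_finrank {K V : Type*} [Field K] [AddCommGroup V] [Module K V] [FiniteDimensional K V]
    {U : Submodule K V} (h : U ≠ ⊥) : 1 ≤ finrank K U := Submodule.one_le_finrank_iff.2 h

theorem card_norm_le [Finite F] {n : ℕ} (hn : n ≠ 0) (d : F) : Nat.card {a : F // a ^ n = d} ≤ n := by
  classical
  refine le_trans ?_ (Polynomial.card_nthRoots n d)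
  refine le_trans (le_of_eq ?_) (Multiset.toFinset_card_le _)
  rw [← Nat.card_eq_finsetCard]
  exact Nat.card_congr (Equiv.subtypeEquivRight fun a => by
    rw [Multiset.mem_toFinset, Polynomial.mem_nthRoots (Nat.pos_of_ne_zero hn)])

end Cfsg.Agent.H65
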