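import Cfsg.Agent.H65.Isom
import Cfsg.Agent.H10.SpSimple
set_option autoImplicit false

/-! Lower bound for cross-characteristic representations of symplectic groups, odd `q`. -/

namespace Cfsg.Agent.H65

open Module Matrix Cfsg.Agent.H27 Cfsg.Agent.H10

variable {F : Type*} [Field F] {n : ℕ}

theorem sq_sp : Sq (RingHom.id F) (-1) (sympForm n F) :=
  ⟨sympForm_add_left, sympForm_smul_left, fun u v => by rw [sympForm_neg_comm]; simp⟩

theorem isom_sp : Isom (RingHom.id F) 1 (sympForm n F) (spRep n F) where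
  sq := sq_sp
  inj := spRep_injective
  iso := sp_sympForm
  ex u y _ _ h := by
    refine exists_sp_of_isometry (LinearMap.id + (sq_sp.fn y).smulRight u + (sq_sp.fn u).smulRight y) (fun a b => ?_) |>.imp fun g hg x => ?_
    · simp only [LinearMap.add_apply, LinearMap.id_apply, LinearMap.smulRight_apply, Sq.fn,
        LinearMap.coe_mk, AddHom.coe_mk, sympForm_add_left, sympForm_add_right, sympForm_smul_left, sympForm_smul_right,
        sympForm_self, h, sympForm_neg_comm y u, sympForm_neg_comm u b, sympForm_neg_comm y b]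
      ring
    · rw [spRep_apply, hg, one_mul]; rfl
  inv _ := rfl
  eps := rfl
  eps2 := one_mul 1
  rep l := (exists_sympForm_rep (-l)).imp fun y hy x => by rw [sympForm_neg_comm, hy]; simp
  sub _ _ _ _ := ⟨0, sympForm_self _⟩

/-- the standard Lagrangian subspace -/
def lagr (n : ℕ) (F : Type*) [Field F] : (Fin n → F) →ₗ[F] (Fin n ⊕ Fin n → F) where
  toFun u := Sum.elim u 0
  map_add' u v := by ext (i | i) <;> simp
  map_smul' c u := by ext (i | i) <;> simp

theorem lagr_iso (u v : Fin n → F) : sympForm n F (lagr n F u) (lagr n F v) = 0 := by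
  simp [sympForm_eq, lagr]

theorem lagr_inj : Function.Injective (lagr n F) := fun _ _ e => funext fun i => congrFun e (Sum.inl i)

theorem sg_sp (a : F) (v : Fin n → F) :
    isom_sp.sg (ι := lagr n F) lagr_iso (a • v) v = spT (lagr n F v) (2 * a) := by
  refine isom_sp.ext fun x => ?_
  rw [Isom.sg_apply, spRep_apply, spT_mulVec, map_smul, sympForm_smul_right]
  module

theorem spT_not_mem_center {v : Fin n ⊕ Fin n → F} (hv : v ≠ 0) {c : F} (hc : c ≠ 0) :
    spT v c ∉ Subgroup.center (symplecticGroup (Fin n) F) := fun h => by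
  obtain ⟨w, hw⟩ : ∃ w, sympForm n F w v ≠ 0 := by
    by_contra! h0
    exact hv (eq_zero_of_sympForm_right h0)
  obtain ⟨g, hg⟩ := sp_exists_mulVec_eq hv (show w ≠ 0 by rintro rfl; exact hw (sympForm_zero_left _))
  have h1 := conj_spT g v c
  rw [Subgroup.mem_center_iff.1 h g, mul_inv_cancel_right, hg] at h1
  have h2 := spT_mulVec v c w
  rw [h1, spT_mulVec, sympForm_self] at h2
  simp [hc, hw, hv] at h2

theorem sp_bound [Finite F] (h2 : (2 : F) ≠ 0) (hn : 2 ≤ n) {K V : Type*} [Field K] [AddCommGroup V] [Module K V]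
    [IsAlgClosed K] [FiniteDimensional K V] (ρ : symplecticGroup (Fin n) F →* End K V)
    (hp : ((ringChar F : ℕ) : K) ≠ 0) (hne : ∀ g, g ∉ Subgroup.center _ → ρ g ≠ 1) :
    Nat.card F ^ n - 1 ≤ 2 * finrank K V := by
  obtain ⟨ψ, hψ⟩ := exists_addChar (F := F) hp
  have := isom_sp.bound (ι := lagr n F) lagr_iso ρ hp hψ (fun _ => rfl)
    (isom_sp.big (ι := lagr n F) lagr_iso lagr_inj (by simpa using hn))
    (e := 2) (d := 1) (fun d => by simpa [sq] using card_norm_le two_ne_zero d) (fun _ _ _ _ => one_le_finrank)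
    (a := 1) (v := Pi.single ⟨0, by omega⟩ 1) (by
      rw [sg_sp]
      exact hne _ (spT_not_mem_center (fun e => by simpa [lagr] using congrFun e (Sum.inl ⟨0, by omega⟩))
        (by simpa using h2)))
  simpa [Nat.card_fun] using this

theorem two_ne_zero_of_odd [Fintype F] (h : Odd (Fintype.card F)) : (2 : F) ≠ 0 :=
  Ring.two_ne_zero fun e => by
    have := FiniteField.even_card_of_char_two e
    rw [Nat.odd_iff] at h
    omega

theorem ne_one_of_irr {G V : Type*} [Group G] [AddCommGroup V] [Module ℂ V] (ρ : Representation ℂ G V)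
    (hρ : ρ.IsIrreducible) (h2 : 2 ≤ finrank ℂ V)
    (hG : ∀ N : Subgroup G, N.Normal → N ≤ Subgroup.center G ∨ N = ⊤) (g : G) (hg : g ∉ Subgroup.center G) :
    ρ g ≠ 1 := fun e => by
  rcases hG ρ.ker inferInstance with h | h
  · exact hg (h e)
  · have := finrank_le_one_of_trivial ρ hρ fun g => (h ▸ Subgroup.mem_top g : g ∈ ρ.ker)
    omega

theorem cast_ringChar_ne_zero [Finite F] : ((ringChar F : ℕ) : ℂ) ≠ 0 :=
  Nat.cast_ne_zero.2 (CharP.ringChar_ne_zero_of_finite F)

end Cfsg.Agent.H65
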