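import Cfsg.Agent.H65.QOrb2
import Cfsg.Agent.H65.SpLS
set_option autoImplicit false

/-! Weights of the Siegel radical of a symplectic group as quadratic forms. -/

namespace Cfsg.Agent.H65

open Module Matrix QuadraticMap Cfsg.Agent.H27 Cfsg.Agent.H10

variable {F : Type*} [Field F] {n : ℕ} {W : Type*} [AddCommGroup W] [Module F W]
variable {K V : Type*} [Field K] [AddCommGroup V] [Module K V] (ρ : symplecticGroup (Fin n) F →* End K V)

local notation "𝐟" => sympForm n F

theorem spT_comm {u v : Fin n ⊕ Fin n → F} (h : 𝐟 u v = 0) (c d : F) : Commute (spT u c) (spT v d) := by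
  refine sp_ext fun x => ?_
  simp only [sp_mul_mulVec, spT_mulVec, sympForm_add_left, sympForm_smul_left, h, sympForm_neg_comm v u]
  module

theorem spT_pow_char (u : Fin n ⊕ Fin n → F) (c : F) : spT u c ^ ringChar F = 1 := by
  have : ∀ k : ℕ, spT u c ^ k = spT u (k * c) := fun k => by
    induction k with
    | zero => simp [spT_zero]
    | succ k ih => rw [pow_succ, ih, spT_mul]; congr 1; push_cast; ring
  rw [this, ringChar.Nat.cast_ringChar, zero_mul, spT_zero]

/-- the transvections with centre in an isotropic subspace -/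
def tw (ι : W →ₗ[F] (Fin n ⊕ Fin n → F)) (i : W × F) : End K V := ρ (spT (ι i.1) i.2)

variable {ι : W →ₗ[F] (Fin n ⊕ Fin n → F)} (hι : ∀ u v, sympForm n F (ι u) (ι v) = 0)
include hι

theorem tw_comm (i j : W × F) : Commute (tw ρ ι i) (tw ρ ι j) := (spT_comm (hι _ _) _ _).map ρ

omit hι in
theorem tw_pow (i : W × F) : tw ρ ι i ^ ringChar F = 1 := by rw [tw, ← map_pow, spT_pow_char, map_one]

theorem spT_add (u v : W) (c : F) :
    spT (ι (u + v)) c = spT (ι u) c * spT (ι v) c * isom_sp.sg hι (c • u) v := by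
  refine isom_sp.ext fun x => ?_
  simp only [map_mul, End.mul_apply, Isom.sg_apply]
  simp only [spRep_apply, spT_mulVec, map_add, map_smul, sympForm_add_left, sympForm_smul_left, hι,
    sympForm_add_right, sympForm_smul_right]
  module

theorem sg_apply_of_ws {ψ : AddChar F K} {Q : W → F} {w : V} (hw : w ∈ ws (tw ρ ι) fun i => ψ (i.2 * Q i.1))
    (c : F) (u v : W) : ρ (isom_sp.sg hι (c • u) v) w = ψ (c * polar Q u v) • w := by
  have h := mem_ws.1 hw
  have : isom_sp.sg hι (c • u) v = spT (ι v) (-c) * spT (ι u) (-c) * spT (ι (u + v)) c := by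
    rw [spT_add hι, ← spT_inv, ← spT_inv]; group
  have h1 := h (v, -c)
  have h2 := h (u, -c)
  have h3 := h (u + v, c)
  simp only [tw] at h1 h2 h3
  rw [this, map_mul, map_mul, End.mul_apply, End.mul_apply, h3, map_smul, map_smul, h2, map_smul, h1, smul_smul,
    smul_smul, ← AddChar.map_add_eq_mul, ← AddChar.map_add_eq_mul, polar]
  congr 2
  ring

theorem exists_quadWt [Finite F] {ψ : AddChar F K} (hψ : ψ ≠ 1) {γ : W × F → K} {w : V} (hw : w ∈ ws (tw ρ ι) γ)
    (h0 : w ≠ 0) : ∃ Q : QuadraticForm F W, γ = fun i => ψ (i.2 * Q i.1) := by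
  have hw' := mem_ws.1 hw
  simp only [tw] at hw'
  choose Q hQ using fun v => exists_mulShift hψ ⟨fun c => γ (v, c), smul_left_injective K h0 (by
      simp only [← hw', spT_zero, map_one, End.one_apply, one_smul]), fun c d => smul_left_injective K h0 (by
      simp only
      rw [← hw', ← spT_mul, map_mul, End.mul_apply, hw' (v, d), map_smul, hw' (v, c), smul_smul, mul_comm])⟩
  simp only [AddChar.coe_mk] at hQ
  obtain rfl : γ = fun i => ψ (i.2 * Q i.1) := funext fun i => hQ i.1 i.2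
  have h1 := sg_apply_of_ws ρ hι hw
  refine ⟨QuadraticMap.ofPolar Q (fun a v => eq_of_char hψ fun c => smul_left_injective K h0 ?_)
    (fun u u' v => eq_of_char hψ fun c => smul_left_injective K h0 ?_)
    (fun a u v => eq_of_char hψ fun c => smul_left_injective K h0 ?_), rfl⟩
  · have := hw' (a • v, c)
    rw [map_smul, spT_smul, hw' (v, c * a ^ 2)] at this
    simp only [← this, smul_eq_mul, pow_two, mul_assoc]
  · simp only
    rw [← h1, smul_add, (isom_sp.sieg hι).add, map_mul, End.mul_apply, h1, map_smul, h1, smul_smul, mul_add,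
      AddChar.map_add_eq_mul, mul_comm]
  · simp only
    rw [← h1, smul_smul, h1, smul_eq_mul, mul_assoc]

omit hι in
theorem ws_conj {γ : W × F → K} {w : V} (hw : w ∈ ws (tw ρ ι) γ) {W' : Type*} [AddCommGroup W'] [Module F W']
    {ι' : W' →ₗ[F] (Fin n ⊕ Fin n → F)} {g : W' → W} {x : symplecticGroup (Fin n) F}
    (hx : ∀ u, x.1 *ᵥ ι' u = ι (g u)) : ρ x⁻¹ w ∈ ws (tw ρ ι') fun i => γ (g i.1, i.2) := by
  refine mem_ws.2 fun i => ?_
  rw [← map_smul, ← mem_ws.1 hw (g i.1, i.2), tw, tw, ← hx, ← conj_spT, ← End.mul_apply, ← End.mul_apply,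
    ← map_mul, ← map_mul]
  congr 2
  group

theorem exists_levi (hi : Function.Injective ι) {g : W →ₗ[F] W} (hg : Function.Injective g) :
    ∃ x : symplecticGroup (Fin n) F, ∀ u, x.1 *ᵥ ι u = ι (g u) := by
  obtain ⟨x, hx⟩ := sp_witt (LinearMap.range ι) (ι ∘ₗ g ∘ₗ (LinearEquiv.ofInjective ι hi).symm.toLinearMap)
    (hi.comp (hg.comp (LinearEquiv.injective _))) (by
      rintro ⟨_, u, rfl⟩ ⟨_, v, rfl⟩
      simp [hι])
  exact ⟨x, fun u => by
    simpa [show (⟨ι u, u, rfl⟩ : LinearMap.range ι) = LinearEquiv.ofInjective ι hi u from rfl] using hx ⟨_, u, rfl⟩⟩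

omit hι in
theorem map_ne_zero_of_rep {G : Type*} [Group G] (ρ : G →* End K V) (g : G) {w : V} (h : w ≠ 0) : ρ g w ≠ 0 :=
  fun e => h (by rw [← End.one_apply (R := K) w, ← map_one ρ, ← inv_mul_cancel g, map_mul, End.mul_apply, e, map_zero])

theorem quad_bound [Fintype F] [Finite W] [FiniteDimensional K V] (hi : Function.Injective ι) {ψ : AddChar F K}
    (hψ : ψ ≠ 1) {Q : QuadraticForm F W} {w : V} (hw : w ∈ ws (tw ρ ι) fun i => ψ (i.2 * Q i.1)) (h0 : w ≠ 0)
    {u v : W} (hΔ : polar Q u v ^ 2 ≠ 4 * Q u * Q v) :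
    (Fintype.card F ^ finrank F W - 1) * (Fintype.card F ^ finrank F W - Fintype.card F) ≤
      2 * (Fintype.card F + 1) * finrank K V := by
  have : Finite (QuadraticForm F W) := DFunLike.finite _
  refine (quad_orbit (O := {Q | ws (tw ρ ι) (fun i => ψ (i.2 * Q i.1)) ≠ ⊥}) (fun Q hQ g hg => ?_)
    ((Submodule.ne_bot_iff _).2 ⟨w, hw, h0⟩) hΔ).trans (Nat.mul_le_mul_left _ ?_)
  · obtain ⟨x, hx⟩ := exists_levi hι hi hg
    obtain ⟨w, hw, h0⟩ := (Submodule.ne_bot_iff _).1 hQ
    exact (Submodule.ne_bot_iff _).2 ⟨_, ws_conj ρ hw hx, map_ne_zero_of_rep ρ _ h0⟩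
  · rw [← mul_one (Nat.card _)]
    exact card_mul_le_finrank (tw_comm ρ hι) 
      (J := {Q : QuadraticForm F W | ws (tw ρ ι) (fun i => ψ (i.2 * Q i.1)) ≠ ⊥}) (γ := fun Q i => ψ (i.2 * Q.1 i.1))
      (fun Q Q' e => Subtype.ext (QuadraticMap.ext fun x => eq_of_char hψ fun c => by simpa using congrFun e (x, c)))
      fun Q => one_le_finrank Q.2

omit hι in
/-- an operator is determined by its values on the weight vectors -/
theorem ext_ws [IsAlgClosed K] [FiniteDimensional K V] {I : Type*} {T : I → End K V}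
    (hc : ∀ i j, Commute (T i) (T j)) {m : ℕ} (hm : (m : K) ≠ 0) (hf : ∀ i, T i ^ m = 1) {V' : Type*}
    [AddCommGroup V'] [Module K V'] {f g : V →ₗ[K] V'} (h : ∀ γ, ∀ w ∈ ws T γ, w ≠ 0 → f w = g w) : f = g := by
  refine LinearMap.ext fun v => ?_
  have hv : v ∈ ⨆ γ, ws T γ := by rw [iSup_ws hc hm hf]; trivial
  refine Submodule.iSup_induction _ (motive := fun v => f v = g v) hv (fun γ v hv => ?_) (by simp)
    fun x y hx hy => by rw [map_add, map_add, hx, hy]
  by_cases h0 : v = 0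
  · simp [h0]
  · exact h γ v hv h0

omit hι in
theorem sp_even_bound [Fintype F] (h2 : (2 : F) = 0) (hn : 2 ≤ n) [IsAlgClosed K] [FiniteDimensional K V]
    (hp : ((ringChar F : ℕ) : K) ≠ 0) (hne : ∀ g, g ∉ Subgroup.center _ → ρ g ≠ 1) :
    (Fintype.card F ^ n - 1) * (Fintype.card F ^ n - Fintype.card F) ≤ 2 * (Fintype.card F + 1) * finrank K V := by
  obtain ⟨ψ, hψ⟩ := exists_addChar (F := F) hp
  by_contra hlt
  let u : Fin n → F := Pi.single ⟨0, by omega⟩ 1
  let v : Fin n → F := Pi.single ⟨1, by omega⟩ 1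
  refine hne (isom_sp.sg (ι := lagr n F) lagr_iso ((1 : F) • u) v) (fun h => ?_)
    (ext_ws (tw_comm ρ (ι := lagr n F) lagr_iso) hp (tw_pow ρ) fun γ w hw h0 => ?_)
  · have h1 := Subgroup.mem_center_iff.1 h (spT (Pi.single (Sum.inr ⟨0, by omega⟩) 1) 1)
    have h2 := congrArg (fun g => spRep n F g (lagr n F u) (Sum.inl ⟨1, by omega⟩)) h1
    simp only [map_mul, End.mul_apply, Isom.sg_apply, lagr_iso] at h2
    simp only [spRep_apply, spT_mulVec, sympForm_add_left, sympForm_smul_left, sympForm_single_inr_left,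
      sympForm_single_inr_right, lagr_iso] at h2
    simp [lagr, u, v] at h2
  · obtain ⟨Q, rfl⟩ := exists_quadWt ρ (ι := lagr n F) lagr_iso hψ hw h0
    have : polar Q u v = 0 := by
      by_contra h
      refine hlt ?_
      have := quad_bound ρ (ι := lagr n F) lagr_iso lagr_inj hψ hw h0 (u := u) (v := v) (by
        rw [show (4 : F) = 2 * 2 by norm_num, h2]
        simpa using h)
      rwa [finrank_fin_fun] at this
    rw [sg_apply_of_ws ρ _ hw, this]
    simp

end Cfsg.Agent.H65
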