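import Cfsg.Agent.H65.SpQ
import Cfsg.Agent.H7.Rep
set_option autoImplicit false

/-! The Weil representation of a finite symplectic group in odd characteristic. -/

namespace Cfsg.Agent.H65

open Module Matrix Cfsg.Agent.H27

variable {F : Type*} [Field F] [Fintype F] [DecidableEq F] {n : ℕ} (ψ : AddChar F ℂ)

local notation "𝐟" => sympForm n F
local notation "X" => Fin n ⊕ Fin n → F
local notation "V₀" => (Fin n → F) → ℂ

/-- the Heisenberg operators -/
def hz (v : X) : End ℂ V₀ where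
  toFun f t := ψ ((v ∘ Sum.inl) ⬝ᵥ t + 2⁻¹ * ((v ∘ Sum.inl) ⬝ᵥ (v ∘ Sum.inr))) * f (t + v ∘ Sum.inr)
  map_add' f g := by ext; simp [mul_add]
  map_smul' c f := by ext; simp [mul_left_comm]

omit [Fintype F] [DecidableEq F] in
theorem hz_apply (v : X) (f : V₀) (t : Fin n → F) : hz ψ v f t =
    ψ ((v ∘ Sum.inl) ⬝ᵥ t + 2⁻¹ * ((v ∘ Sum.inl) ⬝ᵥ (v ∘ Sum.inr))) * f (t + v ∘ Sum.inr) := rfl

omit [Fintype F] [DecidableEq F] in
theorem sympForm_dot (u v : X) : 𝐟 u v = (v ∘ Sum.inl) ⬝ᵥ (u ∘ Sum.inr) - (u ∘ Sum.inl) ⬝ᵥ (v ∘ Sum.inr) := by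
  simp [sympForm_eq, dotProduct, mul_comm]

omit [Fintype F] [DecidableEq F] in
theorem hz_zero : hz ψ (0 : X) = 1 := by
  ext f t
  simp [hz_apply]

omit [Fintype F] [DecidableEq F] in
theorem sum_char {ψ : AddChar F ℂ} (hψ : ψ ≠ 1) {W : Type*} [AddCommGroup W] [Module F W] [Fintype W]
    {l : W →ₗ[F] F} (hl : l ≠ 0) : ∑ x, ψ (l x) = 0 := by
  refine AddChar.sum_eq_zero_iff_ne_zero (ψ := ψ.compAddMonoidHom l.toAddMonoidHom) |>.2 fun e => ?_
  obtain ⟨y, hy⟩ := AddChar.ne_one_iff.1 hψ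
  obtain ⟨x, rfl⟩ := LinearMap.surjective_of_ne_zero hl y
  exact hy (DFunLike.congr_fun e x)

/-- the parity operator -/
def par (n : ℕ) (F : Type*) [Field F] : End ℂ ((Fin n → F) → ℂ) := LinearMap.funLeft ℂ ℂ Neg.neg

omit [Fintype F] [DecidableEq F] in
theorem par_apply (f : V₀) (t : Fin n → F) : par n F f t = f (-t) := rfl

variable [h2 : Fact ((2 : F) ≠ 0)]

omit [Fintype F] [DecidableEq F] in
theorem hz_mul (u v : X) : hz ψ u * hz ψ v = ψ (2⁻¹ * 𝐟 u v) • hz ψ (u + v) := by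
  refine LinearMap.ext fun f => funext fun t => ?_
  have e1 : (u + v) ∘ Sum.inl = u ∘ Sum.inl + v ∘ Sum.inl := rfl
  have e2 : (u + v) ∘ Sum.inr = u ∘ Sum.inr + v ∘ Sum.inr := rfl
  simp only [End.mul_apply, hz_apply, LinearMap.smul_apply, Pi.smul_apply, smul_eq_mul, ← mul_assoc,
    ← AddChar.map_add_eq_mul, e1, e2, add_assoc t, sympForm_dot, dotProduct_add, add_dotProduct]
  congr 2
  have := h2.out
  field_simp
  ring

omit [Fintype F] [DecidableEq F] in
theorem hz_neg_mul (u : X) : hz ψ (-u) * hz ψ u = 1 := by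
  rw [hz_mul, neg_add_cancel, hz_zero, ← neg_one_smul F u, sympForm_smul_left, sympForm_self]
  simp

omit [Fintype F] [DecidableEq F] in
theorem hz_conj (u v : X) : hz ψ u * hz ψ v * hz ψ (-u) = ψ (𝐟 u v) • hz ψ v := by
  rw [hz_mul, smul_mul_assoc, hz_mul, smul_smul, ← AddChar.map_add_eq_mul, add_neg_cancel_comm,
    ← neg_one_smul F u, sympForm_smul_right, sympForm_add_left, sympForm_self, sympForm_neg_comm v u]
  congr 2
  have := h2.out
  field_simp
  ring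

variable {ψ} [hψ : Fact (ψ ≠ 1)]

theorem trace_hz (v : X) : LinearMap.trace ℂ _ (hz ψ v) = if v = 0 then (Fintype.card F : ℂ) ^ n else 0 := by
  split_ifs with h
  · simp [h, hz_zero]
  obtain ⟨u, hu⟩ : ∃ u, ψ (𝐟 u v) ≠ 1 := by
    obtain ⟨y, hy⟩ := AddChar.ne_one_iff.1 hψ.out
    obtain ⟨x, rfl⟩ := LinearMap.surjective_of_ne_zero (f := sq_sp.fn v)
      (fun e => h (eq_zero_of_sympForm_right fun w => LinearMap.congr_fun e w)) y
    exact ⟨x, hy⟩
  have := congrArg (LinearMap.trace ℂ _) (hz_conj ψ u v)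
  rw [LinearMap.trace_mul_cycle, hz_neg_mul, one_mul, map_smul, smul_eq_mul] at this
  exact (mul_eq_zero.1 (show (ψ (𝐟 u v) - 1) * _ = 0 by linear_combination -this)).resolve_left (sub_ne_zero.2 hu)

theorem hz_indep : LinearIndependent ℂ (hz ψ : X → End ℂ V₀) := by
  refine Fintype.linearIndependent_iff.2 fun a ha w => ?_
  have := congrArg (fun A => LinearMap.trace ℂ _ (hz ψ (-w) * A)) ha
  simp only [Finset.mul_sum, mul_smul_comm, hz_mul, map_sum, map_smul, trace_hz, neg_add_eq_zero, smul_eq_mul,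
    mul_ite, mul_zero, Finset.sum_ite_eq, Finset.mem_univ, if_true, map_zero] at this
  simpa [(AddChar.val_isUnit _ _).ne_zero] using this

variable (ψ n) in
/-- the Heisenberg operators form a basis of the endomorphism algebra -/
noncomputable def hzB : Basis X ℂ (End ℂ V₀) := basisOfLinearIndependentOfCardEqFinrank (hz_indep (ψ := ψ)) (by
  simp [finrank_linearMap, pow_add])

theorem hzB_apply (v : X) : hzB n ψ v = hz ψ v := by simp [hzB]

omit [DecidableEq F] in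
theorem sum_hz : ∑ v : X, hz ψ v = (Fintype.card F : ℂ) ^ n • par n F := by
  refine LinearMap.ext fun f => funext fun t => ?_
  rw [← (Equiv.sumArrowEquivProdArrow _ _ _).symm.sum_comp, Fintype.sum_prod_type_right]
  simp only [LinearMap.sum_apply, Finset.sum_apply, hz_apply, LinearMap.smul_apply, Pi.smul_apply, par_apply,
    ← Finset.sum_mul, Equiv.sumArrowEquivProdArrow, Equiv.coe_fn_symm_mk, Sum.elim_comp_inl, Sum.elim_comp_inr]
  rw [Finset.sum_eq_single ((-2 : F) • t) (fun y _ hy => ?_) (by simp)]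
  · have : t + (-2 : F) • t = -t := by module
    rw [this]
    simp [h2.out]
  · rw [mul_eq_zero]
    left
    have := sum_char hψ.out (l := (dotProductBilin F F).flip (t + (2⁻¹ : F) • y)) fun e => hy (by
      have h1 : t + (2⁻¹ : F) • y = 0 := dotProduct_eq_zero_iff.1 fun w => by
        rw [dotProduct_comm]; exact LinearMap.congr_fun e w
      rw [eq_neg_of_add_eq_zero_left h1, smul_neg, smul_smul]
      simp [h2.out])
    simpa using this

theorem ext_hz {A B : End ℂ V₀ →ₗ[ℂ] End ℂ V₀} (h : ∀ v : X, A (hz ψ v) = B (hz ψ v)) : A = B :=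
  (hzB n ψ).ext fun v => by simpa only [hzB_apply] using h v

variable (ψ) in
/-- `T` intertwines the Heisenberg operators according to `g` -/
def Itw (g : symplecticGroup (Fin n) F) (T : End ℂ V₀) : Prop :=
  IsUnit T ∧ ∀ v, T * hz ψ v = hz ψ (g.1 *ᵥ v) * T

theorem exists_itw (g : symplecticGroup (Fin n) F) : ∃ T, Itw ψ g T := by
  let e : X ≃ X := ⟨(g.1 *ᵥ ·), ((g⁻¹).1 *ᵥ ·), sp_inv_mulVec_mulVec g, sp_mulVec_inv_mulVec g⟩
  let L := (hzB n ψ).equiv (hzB n ψ) e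
  have hL : ∀ v, L (hz ψ v) = hz ψ (g.1 *ᵥ v) := fun v => by
    rw [← hzB_apply, Basis.equiv_apply, hzB_apply]; rfl
  obtain ⟨T, hT⟩ := (AlgEquiv.ofLinearEquiv L (by rw [← hz_zero ψ, hL, mulVec_zero]) fun x y => by
    have := ext_hz (ψ := ψ) (A := L.toLinearMap ∘ₗ LinearMap.mulRight ℂ y)
      (B := LinearMap.mulRight ℂ (L y) ∘ₗ L.toLinearMap) fun u => by
      have := ext_hz (ψ := ψ) (A := L.toLinearMap ∘ₗ LinearMap.mulLeft ℂ (hz ψ u))
        (B := LinearMap.mulLeft ℂ (L (hz ψ u)) ∘ₗ L.toLinearMap) fun v => by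
        simp [hz_mul, hL, mulVec_add, sp_sympForm]
      exact LinearMap.congr_fun this y
    exact LinearMap.congr_fun this x).eq_linearEquivConjAlgEquiv
  refine ⟨T, (LinearMap.isUnit_iff_ker_eq_bot _).2 T.ker, fun v => ?_⟩
  have : L (hz ψ v) = _ := AlgEquiv.congr_fun hT (hz ψ v)
  rw [← hL, this]
  refine LinearMap.ext fun x => ?_
  simp

theorem exists_smul_of_comm {A : End ℂ V₀} (h : ∀ v : X, A * hz ψ v = hz ψ v * A) : ∃ c : ℂ, A = c • 1 := by
  have := ext_hz (ψ := ψ) (A := LinearMap.mulLeft ℂ A) (B := LinearMap.mulRight ℂ A) h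
  obtain ⟨c, hc⟩ := (Algebra.IsCentral.mem_center_iff ℂ).1
    (Subalgebra.mem_center_iff.2 fun B => (LinearMap.congr_fun this B).symm)
  exact ⟨c, by rw [hc, Algebra.algebraMap_eq_smul_one]⟩

namespace Itw
variable {g g' : symplecticGroup (Fin n) F} {T T' : End ℂ ((Fin n → F) → ℂ)}

omit [Fintype F] [DecidableEq F] h2 hψ in
theorem mul (h : Itw ψ g T) (h' : Itw ψ g' T') : Itw ψ (g * g') (T * T') :=
  ⟨h.1.mul h'.1, fun v => by rw [mul_assoc, h'.2, ← mul_assoc, h.2, sp_mul_mulVec, mul_assoc]⟩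

theorem unique (h : Itw ψ g T) (h' : Itw ψ g T') : ∃ c : ℂ, c ≠ 0 ∧ T' = c • T := by
  obtain ⟨u, rfl⟩ := h.1
  obtain ⟨c, hc⟩ := exists_smul_of_comm (ψ := ψ) (A := (u⁻¹).val * T') fun v => by
    rw [mul_assoc, h'.2, ← mul_assoc, ← mul_assoc, (Units.inv_mul_eq_iff_eq_mul u).2 (by
      rw [← mul_assoc, h.2, Units.mul_inv_cancel_right] : hz ψ (g.1 *ᵥ v) = u.val * (hz ψ v * (u⁻¹).val))]
  rw [Units.inv_mul_eq_iff_eq_mul, mul_smul_comm, mul_one] at hc
  refine ⟨c, ?_, hc⟩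
  rintro rfl
  exact h'.1.ne_zero (by rw [hc, zero_smul])

omit [DecidableEq F] in
theorem comm_par (h : Itw ψ g T) : T * par n F = par n F * T := by
  let e : X ≃ X := ⟨(g.1 *ᵥ ·), ((g⁻¹).1 *ᵥ ·), sp_inv_mulVec_mulVec g, sp_mulVec_inv_mulVec g⟩
  refine smul_right_injective (End ℂ V₀) (pow_ne_zero n (Nat.cast_ne_zero.2 (Fintype.card_ne_zero (α := F)) :
    (Fintype.card F : ℂ) ≠ 0)) ?_
  simp only
  rw [← mul_smul_comm, ← smul_mul_assoc, ← sum_hz (ψ := ψ), Finset.mul_sum, Finset.sum_mul, ← e.sum_comp (hz ψ · * T)]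
  exact Finset.sum_congr rfl fun v _ => h.2 v

omit [Fintype F] [DecidableEq F] h2 hψ in
theorem smul (h : Itw ψ g T) {c : ℂ} (hc : c ≠ 0) : Itw ψ g (c • T) :=
  ⟨by simpa [Units.smul_def] using h.1.smul (Units.mk0 c hc), fun v => by rw [smul_mul_assoc, h.2, mul_smul_comm]⟩

end Itw

end Cfsg.Agent.H65
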