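import Cfsg.Agent.H65.Weil
set_option autoImplicit false

/-! The Weil representation: linearisation, the even and odd parts. -/

namespace Cfsg.Agent.H65

open Module Matrix Cfsg.Agent.H27

variable {F : Type*} [Field F] {n : ℕ}

local notation "𝐟" => sympForm n F
local notation "X" => Fin n ⊕ Fin n → F
local notation "V₀" => (Fin n → F) → ℂ

/-- even and odd functions -/
def Ev (n : ℕ) (F : Type*) [Field F] (ε : ℂ) : Submodule ℂ ((Fin n → F) → ℂ) := (par n F).eigenspace ε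

theorem mem_Ev {ε : ℂ} {f : V₀} : f ∈ Ev n F ε ↔ par n F f = ε • f := End.mem_eigenspace_iff

theorem par_par (f : V₀) : par n F (par n F f) = f := funext fun t => by simp [par_apply]

/-- the projection -/
noncomputable def prE (n : ℕ) (F : Type*) [Field F] (ε : ℂ) : End ℂ ((Fin n → F) → ℂ) :=
  (2⁻¹ : ℂ) • (1 + ε • par n F)

theorem prE_apply (ε : ℂ) (f : V₀) : prE n F ε f = (2⁻¹ : ℂ) • (f + ε • par n F f) := rfl

theorem isProj_prE {ε : ℂ} (hε : ε * ε = 1) : LinearMap.IsProj (Ev n F ε) (prE n F ε) where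
  map_mem f := by
    rw [mem_Ev, prE_apply, map_smul, map_add, map_smul, par_par]
    match_scalars
    · linear_combination (-2⁻¹) * hε
    · ring
  map_id f hf := by
    rw [prE_apply, mem_Ev.1 hf]
    match_scalars
    linear_combination 2⁻¹ * hε

/-- the compression of an operator -/
noncomputable def cE {ε : ℂ} (hε : ε * ε = 1) (T : End ℂ V₀) : End ℂ (Ev n F ε) :=
  (isProj_prE hε).codRestrict ∘ₗ T ∘ₗ (Ev n F ε).subtype

theorem mapsTo_Ev {ε : ℂ} {T : End ℂ V₀} (h : T * par n F = par n F * T) {f : V₀} (hf : f ∈ Ev n F ε) :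
    T f ∈ Ev n F ε := by rw [mem_Ev, ← End.mul_apply, ← h, End.mul_apply, mem_Ev.1 hf, map_smul]

theorem coe_cE {ε : ℂ} (hε : ε * ε = 1) {T : End ℂ V₀} (h : T * par n F = par n F * T) (f : Ev n F ε) :
    (cE hε T f : V₀) = T f := (isProj_prE hε).map_id _ (mapsTo_Ev h f.2)

theorem cE_smul {ε : ℂ} (hε : ε * ε = 1) (c : ℂ) (T : End ℂ V₀) : cE hε (c • T) = c • cE hε T := by
  simp [cE, LinearMap.smul_comp, LinearMap.comp_smul]

theorem cE_one {ε : ℂ} (hε : ε * ε = 1) : cE hε (1 : End ℂ V₀) = 1 :=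
  LinearMap.ext fun f => Subtype.ext (coe_cE hε (by simp) f)

theorem cE_mul {ε : ℂ} (hε : ε * ε = 1) (T : End ℂ V₀) {T' : End ℂ V₀} (h : T' * par n F = par n F * T') :
    cE hε (T * T') = cE hε T * cE hε T' := by
  refine LinearMap.ext fun f => ?_
  change (isProj_prE hε).codRestrict (T (T' f)) = (isProj_prE hε).codRestrict (T (cE hε T' f))
  rw [coe_cE hε h]

theorem neg_one_sq' : (-1 : ℂ) * -1 = 1 := by simp

variable [Fintype F] [DecidableEq F] [h2 : Fact ((2 : F) ≠ 0)] {ψ : AddChar F ℂ} [hψ : Fact (ψ ≠ 1)]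

theorem trace_par : LinearMap.trace ℂ _ (par n F) = 1 := by
  obtain ⟨ψ, hψ⟩ := exists_addChar (F := F) cast_ringChar_ne_zero
  have := Fact.mk hψ
  have := congrArg (LinearMap.trace ℂ _) (sum_hz (ψ := ψ) (n := n))
  simp only [map_sum, trace_hz, Finset.sum_ite_eq', Finset.mem_univ, if_true, map_smul, smul_eq_mul] at this
  exact mul_left_cancel₀ (pow_ne_zero n (Nat.cast_ne_zero.2 (Fintype.card_ne_zero (α := F))))
    (by rw [← this, mul_one])

theorem finrank_Ev {ε : ℂ} (hε : ε * ε = 1) : (finrank ℂ (Ev n F ε) : ℂ) = ((Fintype.card F : ℂ) ^ n + ε) / 2 := by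
  rw [← (isProj_prE hε).trace, prE, map_smul, map_add, map_smul, trace_par]
  simp
  ring

theorem finrank_Ev_succ : finrank ℂ (Ev n F 1) = finrank ℂ (Ev n F (-1)) + 1 := by
  refine Nat.cast_injective (R := ℂ) ?_
  push_cast
  rw [finrank_Ev (one_mul 1), finrank_Ev neg_one_sq']
  ring

theorem finrank_Ev_neg : finrank ℂ (Ev n F (-1)) = (Fintype.card F ^ n - 1) / 2 := by
  have : 2 * finrank ℂ (Ev n F (-1)) + 1 = Fintype.card F ^ n := Nat.cast_injective (R := ℂ) (by
    push_cast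
    rw [finrank_Ev neg_one_sq']
    ring)
  omega

omit [DecidableEq F] in
theorem Itw.det_ne {g : symplecticGroup (Fin n) F} {T : End ℂ V₀} (h : Itw ψ g T) {ε : ℂ} (hε : ε * ε = 1) :
    LinearMap.det (cE hε T) ≠ 0 := by
  refine ((LinearMap.isUnit_iff_isUnit_det _).1 ((LinearMap.isUnit_iff_ker_eq_bot _).2
    (LinearMap.ker_eq_bot.2 fun f f' e => Subtype.ext ?_))).ne_zero
  have e := congrArg Subtype.val e
  rw [coe_cE hε h.comm_par, coe_cE hε h.comm_par] at e
  exact LinearMap.ker_eq_bot.1 ((LinearMap.isUnit_iff_ker_eq_bot _).1 h.1) e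

theorem existsUnique_itw (g : symplecticGroup (Fin n) F) :
    ∃! T, Itw ψ g T ∧ LinearMap.det (cE (one_mul 1) T) = LinearMap.det (cE neg_one_sq' T) := by
  obtain ⟨T, hT⟩ := exists_itw (ψ := ψ) g
  have h1 := hT.det_ne (one_mul 1)
  have h1' := hT.det_ne neg_one_sq'
  refine ⟨(LinearMap.det (cE neg_one_sq' T) / LinearMap.det (cE (one_mul 1) T)) • T,
    ⟨hT.smul (div_ne_zero h1' h1), ?_⟩, fun T' h => ?_⟩
  · rw [cE_smul, cE_smul, LinearMap.det_smul, LinearMap.det_smul, finrank_Ev_succ, pow_succ, mul_assoc,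
      div_mul_cancel₀ _ h1]
  · obtain ⟨c, hc, rfl⟩ := hT.unique h.1
    have := h.2
    rw [cE_smul, cE_smul, LinearMap.det_smul, LinearMap.det_smul, finrank_Ev_succ, pow_succ, mul_assoc] at this
    rw [← mul_left_cancel₀ (pow_ne_zero _ hc) this, mul_div_cancel_right₀ _ h1]

variable (ψ) in
/-- the Weil representation -/
noncomputable def weil : Representation ℂ (symplecticGroup (Fin n) F) V₀ where
  toFun g := (existsUnique_itw (ψ := ψ) g).exists.choose
  map_one' := (existsUnique_itw 1).unique (existsUnique_itw (ψ := ψ) 1).exists.choose_spec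
    ⟨⟨isUnit_one, fun v => by rw [sp_one_mulVec, one_mul, mul_one]⟩, by rw [cE_one, cE_one, map_one, map_one]⟩
  map_mul' g g' := by
    have h := (existsUnique_itw (ψ := ψ) g).exists.choose_spec
    have h' := (existsUnique_itw (ψ := ψ) g').exists.choose_spec
    refine (existsUnique_itw _).unique (existsUnique_itw (ψ := ψ) _).exists.choose_spec ⟨h.1.mul h'.1, ?_⟩
    rw [cE_mul _ _ h'.1.comm_par, cE_mul _ _ h'.1.comm_par, map_mul, map_mul, h.2, h'.2]

theorem weil_itw (g : symplecticGroup (Fin n) F) : Itw ψ g (weil ψ g) :=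
  (existsUnique_itw (ψ := ψ) g).exists.choose_spec.1

variable (ψ) in
/-- the even and odd Weil representations -/
noncomputable def weilE {ε : ℂ} (hε : ε * ε = 1) : Representation ℂ (symplecticGroup (Fin n) F) (Ev n F ε) where
  toFun g := cE hε (weil ψ g)
  map_one' := by rw [map_one, cE_one]
  map_mul' g g' := by rw [map_mul, cE_mul _ _ (weil_itw g').comm_par]

theorem coe_weilE {ε : ℂ} (hε : ε * ε = 1) (g : symplecticGroup (Fin n) F) (f : Ev n F ε) :
    (weilE ψ hε g f : V₀) = weil ψ g f := coe_cE hε (weil_itw g).comm_par f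

theorem weil_commutant {A : End ℂ V₀} (h : ∀ g, weil ψ g * A = A * weil ψ g) :
    ∃ a b : ℂ, A = a • 1 + b • par n F := by
  obtain ⟨r, rfl⟩ : ∃ r : X → ℂ, A = ∑ v, r v • hz ψ v :=
    ⟨(hzB n ψ).repr A, by simpa only [hzB_apply] using ((hzB n ψ).sum_repr A).symm⟩
  have hr : ∀ (g : symplecticGroup (Fin n) F) v, r (g.1 *ᵥ v) = r v := fun g => by
    let e : X ≃ X := ⟨(g.1 *ᵥ ·), ((g⁻¹).1 *ᵥ ·), sp_inv_mulVec_mulVec g, sp_mulVec_inv_mulVec g⟩
    have h1 := h g
    simp only [Finset.mul_sum, mul_smul_comm, (weil_itw g).2, ← smul_mul_assoc, ← Finset.sum_mul] at h1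
    have h1 := (weil_itw (ψ := ψ) g).1.mul_right_cancel h1
    rw [← e.sum_comp fun v => r v • hz ψ v, ← sub_eq_zero, ← Finset.sum_sub_distrib] at h1
    intro v
    refine (sub_eq_zero.1 (Fintype.linearIndependent_iff.1 ((hz_indep (ψ := ψ)).comp _ e.injective)
      (fun v => r v - r (e v)) ?_ v)).symm
    simp only [_root_.sub_smul]
    exact h1
  obtain ⟨b, hb⟩ : ∃ b, ∀ v, v ≠ 0 → r v = b := by
    by_cases h0 : ∃ u : X, u ≠ 0
    · obtain ⟨u, hu⟩ := h0
      refine ⟨r u, fun v hv => ?_⟩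
      obtain ⟨g, rfl⟩ := sp_exists_mulVec_eq hu hv
      exact hr g u
    · exact ⟨0, fun v hv => absurd ⟨v, hv⟩ h0⟩
  refine ⟨r 0 - b, b * (Fintype.card F : ℂ) ^ n, ?_⟩
  rw [mul_smul, ← sum_hz (ψ := ψ), Finset.smul_sum, ← hz_zero ψ, ← sub_eq_iff_eq_add, ← Finset.sum_sub_distrib,
    Finset.sum_eq_single 0 (fun v _ hv => by rw [hb v hv, sub_self]) (by simp)]
  exact (_root_.sub_smul _ _ _).symm

theorem weilE_irr {ε : ℂ} (hε : ε * ε = 1) [Nontrivial (Ev n F ε)] : (weilE (n := n) ψ hε).IsIrreducible := by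
  refine H7.isIrreducible_of_invariant _ fun U hU => ?_
  have := Fintype.ofFinite (symplecticGroup (Fin n) F)
  let U' := U.map (Ev n F ε).subtype
  have hU' : ∀ g, ∀ f ∈ U', weil ψ g f ∈ U' := by
    rintro g _ ⟨f, hf, rfl⟩
    exact ⟨_, hU g f hf, coe_weilE hε g f⟩
  obtain ⟨p, hp⟩ := (LinearMap.id : U' →ₗ[ℂ] U').exists_extend
  obtain ⟨a, b, h⟩ := weil_commutant (ψ := ψ) (A := ∑ g, weil ψ g * (U'.subtype ∘ₗ p) * weil ψ g⁻¹) fun x => by
    rw [Finset.mul_sum, Finset.sum_mul]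
    refine Fintype.sum_equiv (Equiv.mulLeft x) _ _ fun g => ?_
    simp only [Equiv.coe_mulLeft, map_mul, mul_assoc, _root_.mul_inv_rev]
    rw [← map_mul _ x⁻¹, inv_mul_cancel, map_one, mul_one]
  have h1 : ∀ f : Ev n F ε, (a + b * ε) • (f : V₀) = ∑ g, weil ψ g (p (weil ψ g⁻¹ f)) := fun f => by
    have := LinearMap.congr_fun h f
    simp only [LinearMap.sum_apply, End.mul_apply, LinearMap.add_apply, LinearMap.smul_apply, End.one_apply,
      mem_Ev.1 f.2] at this
    rw [add_smul, mul_smul]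
    exact this.symm
  refine or_iff_not_imp_left.2 fun h0 => eq_top_iff.2 fun f _ => ?_
  obtain ⟨f₀, hf₀, h0⟩ := (Submodule.ne_bot_iff _).1 h0
  have h2 : a + b * ε ≠ 0 := fun e => by
    have := h1 f₀
    rw [e, zero_smul, Finset.sum_congr rfl (g := fun _ => (f₀ : V₀)) fun g _ => by
      rw [show p (weil ψ g⁻¹ f₀) = ⟨_, hU' g⁻¹ _ ⟨f₀, hf₀, rfl⟩⟩ from LinearMap.congr_fun hp ⟨_, _⟩,
        ← End.mul_apply, ← map_mul, mul_inv_cancel, map_one, End.one_apply]; rfl] at this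
    simp [h0, ← Nat.cast_smul_eq_nsmul ℂ, eq_comm (a := (0 : V₀))] at this
  obtain ⟨f', hf', e⟩ : (a + b * ε) • (f : V₀) ∈ U' := by
    rw [h1]
    exact Submodule.sum_mem _ fun g _ => hU' g _ (p _).2
  rw [show f' = (a + b * ε) • f from Subtype.ext e] at hf'
  exact (U.smul_mem_iff h2).1 hf'

end Cfsg.Agent.H65
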