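import Cfsg.Agent.H65.Weil2
set_option autoImplicit false

/-! The weights of the Weil representation. -/

namespace Cfsg.Agent.H65

open Module Matrix Cfsg.Agent.H27

variable {F : Type*} [Field F] {n : ℕ}

local notation "𝐟" => sympForm n F
local notation "X" => Fin n ⊕ Fin n → F
local notation "V₀" => (Fin n → F) → ℂ

/-- Fourier coefficients -/
noncomputable def four [Fintype F] (ψ : AddChar F ℂ) (φ : F → ℂ) (μ : F) : ℂ :=
  (Fintype.card F : ℂ)⁻¹ * ∑ β, φ β * ψ (-(μ * β))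

theorem sum_four [Fintype F] {ψ : AddChar F ℂ} (hψ : ψ ≠ 1) (φ : F → ℂ) (β : F) :
    ∑ μ, four ψ φ μ * ψ (μ * β) = φ β := by
  classical
  simp only [four, mul_assoc, ← Finset.mul_sum, Finset.sum_mul, ← AddChar.map_add_eq_mul]
  rw [Finset.sum_comm]
  simp only [← Finset.mul_sum, show ∀ x y, -(x * y) + x * β = x * (β - y) from fun x y => by ring,
    AddChar.sum_mulShift _ (AddChar.IsPrimitive.of_ne_one hψ), sub_eq_zero]
  simp [mul_comm (φ _)]

theorem four_pow_ne [Fintype F] {ψ : AddChar F ℂ} (hψ : ψ ≠ 1) {κ : F} (hκ : 2 * κ ≠ 0) {m : ℕ} (hm : m ≠ 0) :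
    four ψ (fun β => ψ (κ * β ^ 2)) 0 ^ m ≠ 1 := fun e => by
  classical
  have h1 := Complex.norm_eq_one_of_pow_eq_one e hm
  have h2 : four ψ (fun β => ψ (κ * β ^ 2)) 0 * (starRingEnd ℂ) (four ψ (fun β => ψ (κ * β ^ 2)) 0) =
      (Fintype.card F : ℂ)⁻¹ := by
    simp only [four, zero_mul, neg_zero, AddChar.map_zero_eq_one, mul_one, map_mul, map_sum, map_inv₀, map_natCast,
      ← AddChar.map_neg_eq_conj]
    rw [mul_mul_mul_comm, Finset.sum_mul_sum, Finset.sum_comm, Finset.sum_congr rfl fun γ _ =>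
      (Equiv.sum_comp (Equiv.addRight γ) _).symm, Finset.sum_comm]
    simp only [Equiv.coe_addRight, ← AddChar.map_add_eq_mul,
      show ∀ x y, κ * (x + y) ^ 2 + -(κ * y ^ 2) = κ * x ^ 2 + y * (2 * κ * x) from fun x y => by ring]
    simp only [AddChar.map_add_eq_mul, ← Finset.mul_sum, AddChar.sum_mulShift _ (AddChar.IsPrimitive.of_ne_one hψ),
      mul_eq_zero, hκ, false_or]
    simp
  rw [Complex.mul_conj, Complex.normSq_eq_norm_sq, h1] at h2
  have h3 : (Fintype.card F : ℂ) = 1 := by simpa using h2.symm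
  exact Fintype.one_lt_card.ne' (Nat.cast_eq_one.1 h3)

/-- the weights of rank at most one -/
def wtR (ψ : AddChar F ℂ) (a : F) (l : Dual F (Fin n → F)) (i : (Fin n → F) × F) : ℂ := ψ (i.2 * (a * l i.1 ^ 2))

/-- multiplication by a quadratic character -/
def dg (ψ : AddChar F ℂ) (u : Fin n → F) (c : F) : End ℂ V₀ where
  toFun f t := ψ (c * (-2⁻¹ * (u ⬝ᵥ t) ^ 2)) * f t
  map_add' f g := by ext; simp [mul_add]
  map_smul' c f := by ext; simp [mul_left_comm]

theorem dg_apply (ψ : AddChar F ℂ) (u : Fin n → F) (c : F) (f : V₀) (t : Fin n → F) :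
    dg ψ u c f t = ψ (c * (-2⁻¹ * (u ⬝ᵥ t) ^ 2)) * f t := rfl

theorem lagr_inl (u : Fin n → F) : lagr n F u ∘ Sum.inl = u := rfl
theorem lagr_inr (u : Fin n → F) : lagr n F u ∘ Sum.inr = 0 := rfl

/-- minus one -/
def negSp (n : ℕ) (F : Type*) [Field F] : symplecticGroup (Fin n) F := ⟨-1, SymplecticGroup.neg_mem (one_mem _)⟩

theorem negSp_mulVec (x : X) : (negSp n F).1 *ᵥ x = -x := by simp [negSp, neg_mulVec]

theorem negSp_mul : negSp n F * negSp n F = 1 := Subtype.ext (by simp [negSp])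

theorem negSp_mem : negSp n F ∈ Subgroup.center (symplecticGroup (Fin n) F) :=
  Subgroup.mem_center_iff.2 fun g => Subtype.ext (by simp [negSp])

variable [Fintype F] [h2 : Fact ((2 : F) ≠ 0)] {ψ : AddChar F ℂ} [hψ : Fact (ψ ≠ 1)]

omit h2 in
theorem dg_eq_sum (u : Fin n → F) (c : F) :
    dg ψ u c = ∑ μ, four ψ (fun β => ψ (c * (-2⁻¹ * β ^ 2))) μ • hz ψ (μ • lagr n F u) := by
  refine LinearMap.ext fun f => funext fun t => ?_
  rw [dg_apply, ← sum_four hψ.out (fun β => ψ (c * (-2⁻¹ * β ^ 2))) (u ⬝ᵥ t), Finset.sum_mul]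
  simp only [LinearMap.sum_apply, Finset.sum_apply, LinearMap.smul_apply, Pi.smul_apply, hz_apply,
    ← map_smul, lagr_inl, lagr_inr, smul_eq_mul, dotProduct_zero, mul_zero, add_zero, smul_dotProduct, mul_assoc]
  exact Finset.sum_congr rfl fun _ _ => mul_left_comm _ _ _

omit hψ in
theorem itw_dg (u : Fin n → F) (c : F) : Itw ψ (spT (lagr n F u) c) (dg ψ u c) := by
  constructor
  · refine (LinearMap.isUnit_iff_ker_eq_bot _).2 (LinearMap.ker_eq_bot'.2 fun f hf => funext fun t => ?_)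
    exact (mul_eq_zero.1 (congrFun hf t)).resolve_left (AddChar.val_isUnit _ _).ne_zero
  · intro v
    refine LinearMap.ext fun f => funext fun t => ?_
    have e1 : (v + (c * 𝐟 v (lagr n F u)) • lagr n F u) ∘ Sum.inl = v ∘ Sum.inl + (c * 𝐟 v (lagr n F u)) • u := rfl
    have e2 : (v + (c * 𝐟 v (lagr n F u)) • lagr n F u) ∘ Sum.inr = v ∘ Sum.inr := by ext; simp [lagr]
    simp only [End.mul_apply, dg_apply, hz_apply, spT_mulVec, e1, e2, ← mul_assoc, ← AddChar.map_add_eq_mul]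
    simp only [sympForm_dot, lagr_inl, lagr_inr, dotProduct_zero, sub_zero, add_dotProduct, smul_dotProduct,
      dotProduct_add, smul_eq_mul]
    congr 2
    have := h2.out
    field_simp
    ring

variable [DecidableEq F]

theorem weil_spT (hn : 2 ≤ n) (u : Fin n → F) (c : F) : weil ψ (spT (lagr n F u) c) = dg ψ u c := by
  choose s hs0 hs using fun (u : Fin n → F) c => (itw_dg (ψ := ψ) u c).unique (weil_itw _)
  have hd : ∀ u c (f : V₀), dg ψ u c f 0 = f 0 := fun u c f => by simp [dg_apply]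
  have h1 : ∀ u c u' c' v d v' d', spT (lagr n F u) c * spT (lagr n F u') c' =
      spT (lagr n F v) d * spT (lagr n F v') d' → s u c * s u' c' = s v d * s v' d' := by
    intro u c u' c' v d v' d' e
    have := congrArg (fun g => weil ψ g 1 0) e
    simpa [hs, hd, mul_comm] using this
  have h0 : ∀ u, s u 0 = 1 := fun u => by
    have := congrArg (fun T => T 1 0) (hs u 0)
    simpa [spT_zero, hd] using this.symm
  have h3 : ∀ u, u ≠ 0 → ∀ u', u' ≠ 0 → ∀ c, s u c = s u' c := fun u hu u' hu' c => by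
    obtain ⟨g, hg⟩ := sp_exists_mulVec_eq (u := lagr n F u) (v := lagr n F u')
      (fun e => hu (lagr_inj (e.trans (map_zero _).symm))) fun e => hu' (lagr_inj (e.trans (map_zero _).symm))
    have e1 : weil ψ g * dg ψ u c = dg ψ u' c * weil ψ g := by
      simp only [dg_eq_sum, Finset.mul_sum, Finset.sum_mul, mul_smul_comm, smul_mul_assoc, (weil_itw g).2,
        mulVec_smul, hg]
    have e2 : weil ψ g * weil ψ (spT (lagr n F u) c) = weil ψ (spT (lagr n F u') c) * weil ψ g := by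
      rw [← map_mul, ← map_mul, ← hg, ← conj_spT, inv_mul_cancel_right]
    rw [hs, hs, mul_smul_comm, e1, smul_mul_assoc] at e2
    exact smul_left_injective ℂ ((itw_dg u' c).1.mul (weil_itw g).1).ne_zero e2
  let u₀ : Fin n → F := Pi.single ⟨0, by omega⟩ 1
  let u₁ : Fin n → F := Pi.single ⟨1, by omega⟩ 1
  have hu₀ : u₀ ≠ 0 := by simp [u₀]
  have h4 : ∀ c, s u₀ c = 1 := fun c => by
    obtain ⟨c, rfl⟩ : ∃ d, c = d + d := ⟨c / 2, by have := h2.out; field_simp; ring⟩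
    have e1 := h1 u₀ c u₀ c u₀ (c + c) u₀ 0 (by simp [spT_mul])
    have e2 := h1 (u₀ + u₁) c (u₀ - u₁) c u₀ (c + c) u₁ (c + c) (sp_ext fun x => by
      simp only [sp_mul_mulVec, spT_mulVec, sympForm_add_left, sympForm_smul_left, lagr_iso]
      simp only [map_add, map_sub, sympForm_add_right, sympForm_sub_right]
      module)
    rw [h3 _ (fun e => by have := congrFun e ⟨0, by omega⟩; simp [u₀, u₁] at this) u₀ hu₀,
      h3 (u₀ - u₁) (fun e => by have := congrFun e ⟨0, by omega⟩; simp [u₀, u₁] at this) u₀ hu₀,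
      h3 u₁ (by simp [u₁]) u₀ hu₀, e1, h0] at e2
    exact (mul_left_cancel₀ (hs0 _ _) e2).symm
  by_cases hu : u = 0
  · subst hu
    rw [show spT (lagr n F 0) c = 1 from sp_ext fun x => by simp [spT_mulVec], map_one]
    refine LinearMap.ext fun f => funext fun t => ?_
    simp [dg_apply]
  · rw [hs, h3 u hu u₀ hu₀, h4, one_smul]

/-- the functional `u ↦ u ⬝ t` -/
def dl (t : Fin n → F) : Dual F (Fin n → F) := (dotProductBilin F F).flip t

omit [Fintype F] h2 [DecidableEq F] in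
theorem dl_apply (t u : Fin n → F) : dl t u = u ⬝ᵥ t := rfl

variable {ψ₀ : AddChar F ℂ} {a : F} (hn : 2 ≤ n) (ha : ∀ x, ψ (-2⁻¹ * x) = ψ₀ (a * x)) {ε : ℂ} (hε : ε * ε = 1)
include hn ha

theorem mem_ws_weilE {γ : (Fin n → F) × F → ℂ} {f : Ev n F ε} :
    f ∈ ws (tw (weilE ψ hε) (lagr n F)) γ ↔ ∀ t, f.1 t ≠ 0 → γ = wtR ψ₀ a (dl t) := by
  simp only [mem_ws, tw, Subtype.ext_iff, coe_weilE, weil_spT hn, funext_iff, dg_apply, wtR, dl_apply,
    Submodule.coe_smul, Pi.smul_apply, smul_eq_mul, mul_left_comm _ (-2⁻¹ : F), ha, mul_left_comm a]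
  refine ⟨fun h t ht i => (mul_right_cancel₀ ht (h i t)).symm, fun h i t => ?_⟩
  by_cases ht : f.1 t = 0
  · simp [ht]
  · rw [h t ht]

theorem weilE_wt {γ : (Fin n → F) × F → ℂ} {f : Ev n F ε} (hf : f ∈ ws (tw (weilE ψ hε) (lagr n F)) γ)
    (h0 : f ≠ 0) : ∃ l, γ = wtR ψ₀ a l := by
  obtain ⟨t, ht⟩ := Function.ne_iff.1 (show f.1 ≠ 0 from fun e => h0 (Subtype.ext e))
  exact ⟨_, (mem_ws_weilE hn ha hε).1 hf t ht⟩

omit [Fintype F] [DecidableEq F] hn ha h2 in
theorem eq_or_neg_of_sq {W : Type*} [AddCommGroup W] [Module F W] {l l' : Dual F W} (h : ∀ u, l u ^ 2 = l' u ^ 2) :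
    l = l' ∨ l = -l' := by
  by_contra! h'
  obtain ⟨u, hu⟩ := DFunLike.ne_iff.1 h'.1
  obtain ⟨v, hv⟩ := DFunLike.ne_iff.1 h'.2
  have h1 := (sq_eq_sq_iff_eq_or_eq_neg.1 (h u)).resolve_left hu
  have h2 := (sq_eq_sq_iff_eq_or_eq_neg.1 (h v)).resolve_right hv
  rcases sq_eq_sq_iff_eq_or_eq_neg.1 (h (u + v)) with e | e <;> rw [map_add, map_add] at e
  · exact hu (by linear_combination e - h2)
  · exact hv (by rw [LinearMap.neg_apply]; linear_combination e - h1)

omit [Fintype F] [DecidableEq F] hn ha h2 in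
theorem wt_inj (hψ₀ : ψ₀ ≠ 1) (ha0 : a ≠ 0) {l l' : Dual F (Fin n → F)} (h : wtR ψ₀ a l = wtR ψ₀ a l') :
    l = l' ∨ l = -l' :=
  eq_or_neg_of_sq fun u => mul_left_cancel₀ ha0 (eq_of_char hψ₀ fun c => congrFun h (u, c))

theorem weilE_mult (hψ₀ : ψ₀ ≠ 1) (ha0 : a ≠ 0) {γ : (Fin n → F) × F → ℂ} {f f' : Ev n F ε}
    (hf : f ∈ ws (tw (weilE ψ hε) (lagr n F)) γ) (hf' : f' ∈ ws (tw (weilE ψ hε) (lagr n F)) γ) (h0 : f ≠ 0) :
    ∃ c : ℂ, f' = c • f := by
  obtain ⟨t, ht⟩ := Function.ne_iff.1 (show f.1 ≠ 0 from fun e => h0 (Subtype.ext e))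
  have ht : f.1 t ≠ 0 := ht
  have key : ∀ g : Ev n F ε, g ∈ ws (tw (weilE ψ hε) (lagr n F)) γ → g.1 t = 0 → g = 0 := fun g hg hgt => by
    refine Subtype.ext (funext fun s => by_contra fun hs => ?_)
    rcases wt_inj hψ₀ ha0 (((mem_ws_weilE hn ha hε).1 hg s hs).symm.trans ((mem_ws_weilE hn ha hε).1 hf t ht))
      with e | e
    · obtain rfl : s = t := dotProduct_eq _ _ fun u => by
        rw [dotProduct_comm, dotProduct_comm t]; exact LinearMap.congr_fun e u
      exact hs hgt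
    · obtain rfl : s = -t := dotProduct_eq _ _ fun u => by
        rw [neg_dotProduct, dotProduct_comm, dotProduct_comm t]; exact LinearMap.congr_fun e u
      exact hs ((congrFun (mem_Ev.1 g.2) t).trans (by simp [hgt]))
  refine ⟨f'.1 t / f.1 t, sub_eq_zero.1 (key _ (sub_mem hf' (Submodule.smul_mem _ _ hf)) ?_)⟩
  simp [ht]

theorem weilE_exists {l : Dual F (Fin n → F)} (hl : l ≠ 0) :
    ∃ f ∈ ws (tw (weilE ψ hε) (lagr n F)) (wtR ψ₀ a l), f ≠ 0 := by
  obtain ⟨t, rfl⟩ : ∃ t, l = dl t := ⟨fun i => l (Pi.single i 1), LinearMap.ext fun u => by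
    rw [LinearMap.pi_apply_eq_sum_univ l u, dl_apply, dotProduct]
    refine Finset.sum_congr rfl fun i _ => ?_
    rw [smul_eq_mul]
    congr 2
    ext j
    simp [Pi.single_apply, eq_comm]⟩
  have ht : -t ≠ t := fun e => hl (by
    have : (2 : F) • t = 0 := by rw [two_smul, ← neg_eq_iff_add_eq_zero, e]
    rw [(smul_eq_zero.1 this).resolve_left h2.out]
    exact map_zero _)
  refine ⟨⟨prE n F ε (Pi.single t 1), (isProj_prE hε).map_mem _⟩, (mem_ws_weilE hn ha hε).2 fun s hs => ?_,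
    fun e => ?_⟩
  · by_cases h1 : s = t
    · rw [h1]
    by_cases h2 : -s = t
    · subst h2
      funext i
      simp [wtR, dl_apply]
    · simp [prE_apply, par_apply, h1, h2] at hs
  · simpa [prE_apply, par_apply, ht] using congrFun (congrArg Subtype.val e) t

omit hn ha in
theorem weil_neg_one : ∃ c : ℂ, c * c = 1 ∧ weil ψ (negSp n F) = c • par n F := by
  have h : Itw ψ (negSp n F) (par n F) := by
    refine ⟨.of_mul_eq_one (par n F) (LinearMap.ext par_par), fun v => LinearMap.ext fun f => funext fun t => ?_⟩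
    have e1 : (-v) ∘ Sum.inl = -(v ∘ Sum.inl) := rfl
    have e2 : (-v) ∘ Sum.inr = -(v ∘ Sum.inr) := rfl
    simp [par_apply, hz_apply, negSp_mulVec, e1, e2, add_comm]
  obtain ⟨c, -, hc⟩ := h.unique (weil_itw _)
  refine ⟨c, ?_, hc⟩
  have : weil ψ (negSp n F) * weil ψ (negSp n F) = 1 := by rw [← map_mul, negSp_mul, map_one]
  simpa [hc, par_apply] using congrArg (fun T => T 1 0) this

end Cfsg.Agent.H65
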