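import Cfsg.Agent.H65.Weil3
set_option autoImplicit false

/-! Representations of symplectic groups all of whose Siegel weights have rank at most one. -/

namespace Cfsg.Agent.H65

open Module Matrix QuadraticMap Cfsg.Agent.H27

section general
variable {K V : Type*} [Field K] [AddCommGroup V] [Module K V] {I : Type*} {T : I → End K V}

theorem ws_ind [IsAlgClosed K] [FiniteDimensional K V] (hc : ∀ i j, Commute (T i) (T j)) {m : ℕ} (hm : (m : K) ≠ 0)
    (hf : ∀ i, T i ^ m = 1) {U P : Submodule K V} (hU : ∀ i, ∀ v ∈ U, T i v ∈ U)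
    (h : ∀ γ, ∀ w ∈ ws T γ, w ∈ U → w ≠ 0 → w ∈ P) : U ≤ P := by
  let T' : I → End K U := fun i => (T i).restrict (hU i)
  have := ext_ws (T := T') (fun i j => LinearMap.ext fun v => Subtype.ext
    (LinearMap.congr_fun (hc i j).eq v.1)) hm (fun i => by
      rw [End.pow_restrict]
      exact LinearMap.ext fun v => Subtype.ext (by simp [LinearMap.restrict_apply, hf]))
    (f := P.mkQ ∘ₗ U.subtype) (g := 0) fun γ w hw h0 => (Submodule.Quotient.mk_eq_zero P).2
      (h γ w (mem_ws.2 fun i => congrArg Subtype.val (mem_ws.1 hw i)) w.2 fun e => h0 (Subtype.ext e))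
  exact fun v hv => (Submodule.Quotient.mk_eq_zero P).1 (LinearMap.congr_fun this ⟨v, hv⟩)

theorem mem_of_span_ws (hc : ∀ i j, Commute (T i) (T j)) {S : Set V} (hS : ∀ s ∈ S, ∃ γ, s ∈ ws T γ) {γ : I → K}
    {R : Submodule K V} (hR : ∀ s ∈ S, s ∈ ws T γ → s ∈ R) {x : V} (hx : x ∈ Submodule.span K S)
    (hγ : x ∈ ws T γ) : x ∈ R := by
  have : Submodule.span K S ≤ (R ⊓ ws T γ) ⊔ ⨆ γ' ≠ γ, ws T γ' := Submodule.span_le.2 fun s hs => by
    obtain ⟨γ', h⟩ := hS s hs
    by_cases e : γ' = γ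
    · subst e
      exact Submodule.mem_sup_left ⟨hR s hs h, h⟩
    · exact Submodule.mem_sup_right (Submodule.mem_iSup_of_mem γ' (Submodule.mem_iSup_of_mem e h))
  obtain ⟨y, hy, z, hz, rfl⟩ := Submodule.mem_sup.1 (this hx)
  rw [Submodule.disjoint_def.1 (indep_ws hc γ) z ((Submodule.add_mem_iff_right _ hy.2).1 hγ) hz, add_zero]
  exact hy.1

theorem ws_unique {γ γ' : I → K} {x : V} (h : x ∈ ws T γ) (h' : x ∈ ws T γ') (h0 : x ≠ 0) : γ = γ' :=
  funext fun i => smul_left_injective K h0 ((mem_ws.1 h i).symm.trans (mem_ws.1 h' i))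

/-- a submonoid of a finite group -/
def subF {G : Type*} [Group G] [Finite G] (p : G → Prop) (h1 : p 1) (hm : ∀ a b, p a → p b → p (a * b)) :
    Subgroup G where
  carrier := {g | p g}
  one_mem' := h1
  mul_mem' := hm _ _
  inv_mem' {g} hg := by
    have : ∀ k : ℕ, p (g ^ k) := fun k => by
      induction k with
      | zero => simpa using h1
      | succ k ih => rw [pow_succ]; exact hm _ _ ih hg
    rw [Set.mem_ofPred_eq, inv_eq_of_mul_eq_one_left (show g ^ (orderOf g - 1) * g = 1 by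
      rw [← pow_succ, Nat.sub_add_cancel (orderOf_pos g), pow_orderOf_eq_one])]
    exact this _

/-- the stabiliser of a subspace -/
def stabS {G : Type*} [Group G] [Finite G] (ρ : G →* End K V) (U : Submodule K V) : Subgroup G :=
  subF (fun g => ∀ y ∈ U, ρ g y ∈ U) (by simp) fun a b ha hb y hy => by
    rw [map_mul]; exact ha _ (hb y hy)

theorem mem_stabS_span {G : Type*} [Group G] [Finite G] {ρ : G →* End K V} {S : Set V} {g : G}
    (h : ∀ y ∈ S, ρ g y ∈ Submodule.span K S) : g ∈ stabS ρ (Submodule.span K S) := fun _ hy =>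
  (Submodule.span_le (p := (Submodule.span K S).comap (ρ g))).2 h hy

end general

variable {F : Type*} [Field F] {n : ℕ}

local notation "𝐟" => sympForm n F
local notation "X" => Fin n ⊕ Fin n → F
local notation "𝐢" => lagr n F

theorem mem_of_fix (v : X) (N : Subgroup (symplecticGroup (Fin n) F)) (hN : ∀ w c, 𝐟 w v = 0 → spT w c ∈ N)
    {g : symplecticGroup (Fin n) F} (hg : g.1 *ᵥ v = v) : g ∈ N := by
  let S : Subgroup (symplecticGroup (Fin n) F) := (MulAction.stabilizer _ v).comap (spRep n F).toHomUnits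
  have hS : ∀ g, g ∈ S ↔ g.1 *ᵥ v = v := fun g => by rw [← spRep_apply]; rfl
  have := eq_top_of_step ((spRep n F).comp S.subtype) (spRep_injective.comp Subtype.val_injective) (N.subgroupOf S)
    fun H u g hu hg => ?_
  · exact (this ▸ Subgroup.mem_top (⟨g, (hS g).2 hg⟩ : S) : (⟨g, (hS g).2 hg⟩ : S) ∈ N.subgroupOf S)
  simp only [MonoidHom.comp_apply, spRep_apply, Subgroup.coe_subtype] at hg ⊢
  have hH : ∀ h ∈ H ⊔ Submodule.span F {v}, g.1.1 *ᵥ h = h := fun h hh => by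
    obtain ⟨y, hy, z, hz, rfl⟩ := Submodule.mem_sup.1 hh
    obtain ⟨c, rfl⟩ := Submodule.mem_span_singleton.1 hz
    rw [mulVec_add, mulVec_smul, hg y hy, (hS _).1 g.2]
  by_cases h1 : u ∈ H ⊔ Submodule.span F {v}
  · exact ⟨1, one_mem _, fun h _ => sp_one_mulVec h, by rw [hH u h1]; exact sp_one_mulVec u⟩
  have hv : v ∈ H ⊔ Submodule.span F {v} := Submodule.mem_sup_right (Submodule.mem_span_singleton_self v)
  suffices ∃ t ∈ N, (∀ h ∈ H ⊔ Submodule.span F {v}, t.1 *ᵥ h = h) ∧ t.1 *ᵥ u = g.1.1 *ᵥ u by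
    obtain ⟨t, h1, h2, h3⟩ := this
    exact ⟨⟨t, (hS t).2 (h2 v hv)⟩, h1, fun h hh => h2 h (Submodule.mem_sup_left hh), h3⟩
  generalize H ⊔ Submodule.span F {v} = H' at *
  have h2 : g.1.1 *ᵥ u ∉ H' := fun h => h1 (by
    have := congrArg ((g.1⁻¹).1 *ᵥ ·) (hH _ h)
    simp only [sp_inv_mulVec_mulVec] at this
    rwa [this] at h)
  have h3 : ∀ h ∈ H', 𝐟 h u = 𝐟 h (g.1.1 *ᵥ u) := fun h hh => by rw [← sp_sympForm g.1 h u, hH h hh]
  generalize g.1.1 *ᵥ u = u' at *
  by_cases huv : 𝐟 u u' = 0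
  · obtain ⟨l, hlH, hlu, hlv⟩ := exists_dual_ne_zero_two H' h1 h2
    obtain ⟨z, hz⟩ := exists_sympForm_rep l
    have h4 : 𝐟 u (u + z) ≠ 0 := by
      rw [sympForm_add_right, sympForm_self, zero_add, sympForm_neg_comm, hz, hlu]
      simp
    have h5 : 𝐟 (u + z) u' ≠ 0 := by rwa [sympForm_add_left, huv, zero_add, hz]
    have h6 : ∀ h ∈ H', 𝐟 h (u + z - u) = 0 := fun h hh => by
      rw [add_sub_cancel_left, sympForm_neg_comm, hz, hlH h hh, neg_zero]
    have h7 : ∀ h ∈ H', 𝐟 h (u' - (u + z)) = 0 := fun h hh => by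
      have := h6 h hh
      rw [sympForm_sub_right, h3 h hh] at this
      rw [sympForm_sub_right]
      linear_combination -this
    refine ⟨spT (u' - (u + z)) _ * spT (u + z - u) _, N.mul_mem (hN _ _ ?_) (hN _ _ ?_),
      fun h hh => ?_, by rw [sp_mul_mulVec, spT_move h4, spT_move h5]⟩
    · rw [sympForm_neg_comm, h7 v hv, neg_zero]
    · rw [sympForm_neg_comm, h6 v hv, neg_zero]
    · rw [sp_mul_mulVec, spT_fix _ (h6 h hh), spT_fix _ (h7 h hh)]
  · have h6 : ∀ h ∈ H', 𝐟 h (u' - u) = 0 := fun h hh => by rw [sympForm_sub_right, h3 h hh, sub_self]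
    exact ⟨spT (u' - u) _, hN _ _ (by rw [sympForm_neg_comm, h6 v hv, neg_zero]), fun h hh => spT_fix _ (h6 h hh),
      spT_move huv⟩

/-- the Siegel transformation -/
def spE (f v : X) : symplecticGroup (Fin n) F := spT (f + v) 1 * spT f (-1) * spT v (-1)

theorem spE_mulVec {f v : X} (h : 𝐟 f v = 0) (x : X) : (spE f v).1 *ᵥ x = x + 𝐟 x v • f + 𝐟 x f • v := by
  simp only [spE, sp_mul_mulVec, spT_mulVec, sympForm_add_left, sympForm_add_right, sympForm_smul_left,
    sympForm_self, h, sympForm_neg_comm v f]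
  module

theorem conj_spE (g : symplecticGroup (Fin n) F) (f v : X) : g * spE f v * g⁻¹ = spE (g.1 *ᵥ f) (g.1 *ᵥ v) := by
  simp only [spE, ← mulVec_add, ← conj_spT]
  group

theorem spE_mul {f f' v : X} (h : 𝐟 f v = 0) (h' : 𝐟 f' v = 0) :
    spE f v * spE f' v = spE (f + f') v * spT v (𝐟 f' f) := by
  refine sp_ext fun x => ?_
  simp only [sp_mul_mulVec, spE_mulVec h, spE_mulVec h', spE_mulVec (f := f + f') (v := v)
    (by rw [sympForm_add_left, h, h', add_zero]), spT_mulVec, sympForm_add_left, sympForm_add_right,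
    sympForm_smul_left, sympForm_self, h', sympForm_neg_comm v f, sympForm_neg_comm v f', h]
  module

theorem spE_zero (v : X) : spE 0 v = 1 :=
  sp_ext fun x => by rw [spE_mulVec (sympForm_zero_left v), sp_one_mulVec, sympForm_zero_right]; simp

theorem spE_comm {f v : X} (h : 𝐟 f v = 0) (c : F) : spT v c * spE f v = spE f v * spT v c := by
  refine sp_ext fun x => ?_
  simp only [sp_mul_mulVec, spE_mulVec h, spT_mulVec, sympForm_add_left, sympForm_smul_left, sympForm_self,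
    sympForm_neg_comm v f, h]
  module

/-- the functional on the Lagrangian subspace given by a vector -/
def fs (f : X) : Dual F (Fin n → F) := sq_sp.fn f ∘ₗ 𝐢

theorem fs_apply (f : X) (u : Fin n → F) : fs f u = 𝐟 (𝐢 u) f := rfl

theorem exists_of_fs {f : X} (h : fs f = 0) : ∃ u, f = 𝐢 u := by
  refine ⟨f ∘ Sum.inl, funext fun i => ?_⟩
  rcases i with i | i
  · rfl
  · have := LinearMap.congr_fun h (Pi.single i 1)
    rw [fs_apply, show 𝐢 (Pi.single i 1) = Pi.single (Sum.inl i) 1 by ext (j | j) <;> simp [lagr, Pi.single_apply],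
      sympForm_single_inl_left] at this
    simpa [lagr] using this

theorem indep_of_fs {f : X} (h : fs f ≠ 0) {v : Fin n → F} (hv : v ≠ 0) : LinearIndependent F ![f, 𝐢 v] := by
  refine LinearIndependent.pair_iff.2 fun s t e => ?_
  obtain ⟨u, hu⟩ := DFunLike.ne_iff.1 h
  have h1 := congrArg (𝐟 (𝐢 u)) e
  rw [sympForm_add_right, sympForm_smul_right, sympForm_smul_right, lagr_iso, sympForm_zero_right] at h1
  have hs : s = 0 := (mul_eq_zero.1 (by simpa [fs_apply] using h1)).resolve_right hu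
  rw [hs, zero_smul, zero_add, ← map_smul] at e
  exact ⟨hs, (smul_eq_zero.1 (lagr_inj (e.trans (map_zero _).symm))).resolve_right hv⟩

variable {V : Type*} [AddCommGroup V] [Module ℂ V] (ρ : symplecticGroup (Fin n) F →* End ℂ V) (ψ : AddChar F ℂ)

/-- all weights have rank at most one -/
def R1 : Prop := ∀ (Q : QuadraticForm F (Fin n → F)), ∀ w ∈ ws (tw ρ 𝐢) fun i => ψ (i.2 * Q i.1), w ≠ 0 →
  ∀ u v, polar Q u v ^ 2 = 4 * Q u * Q v

variable {ρ ψ}

theorem spE_apply_of_ws {Q : (Fin n → F) → F} {w : V} (hw : w ∈ ws (tw ρ 𝐢) fun i => ψ (i.2 * Q i.1))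
    (u v : Fin n → F) : ρ (spE (𝐢 u) (𝐢 v)) w = ψ (polar Q u v) • w := by
  have h1 := mem_ws.1 hw (v, -1)
  have h2 := mem_ws.1 hw (u, -1)
  have h3 := mem_ws.1 hw (u + v, 1)
  simp only [tw, map_add] at h1 h2 h3
  rw [spE, map_mul, map_mul, End.mul_apply, End.mul_apply, h1, map_smul, map_smul, h2, map_smul, h3, smul_smul,
    smul_smul, ← AddChar.map_add_eq_mul, ← AddChar.map_add_eq_mul, polar]
  congr 2
  ring

theorem spE_mem_ws {a : F} {l : Dual F (Fin n → F)} {x : V} (hx : x ∈ ws (tw ρ 𝐢) (wtR ψ a l)) {f : X}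
    {v : Fin n → F} (h : 𝐟 f (𝐢 v) = 0) : ρ (spE f (𝐢 v)) x ∈ ws (tw ρ 𝐢) (wtR ψ a (l - l v • fs f)) := by
  have h' : 𝐟 (-f) (𝐢 v) = 0 := by rw [← neg_one_smul F f, sympForm_smul_left, h, mul_zero]
  have := ws_conj ρ hx (ι' := 𝐢) (g := fun u => u - fs f u • v) (x := spE (-f) (𝐢 v)) fun u => by
    rw [spE_mulVec h', lagr_iso, ← neg_one_smul F f, sympForm_smul_right, map_sub, map_smul, fs_apply]
    module
  rw [inv_eq_of_mul_eq_one_left (show spE f (𝐢 v) * spE (-f) (𝐢 v) = 1 by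
    rw [spE_mul h h', add_neg_cancel, spE_zero, ← neg_one_smul F f, sympForm_smul_left, sympForm_self, mul_zero,
      spT_zero, mul_one])] at this
  convert this using 2
  funext i
  simp [wtR, mul_comm]

variable [Fintype F] [FiniteDimensional ℂ V]

theorem R1.univ (hR : R1 ρ ψ) (hψ : ψ ≠ 1) (h2 : (2 : F) ≠ 0) (hn : 2 ≤ n) {f v : X} (hfv : 𝐟 f v = 0)
    (hi : LinearIndependent F ![f, v]) {a : F} (ha : a ≠ 0) {x : V} (hx : ∀ c, ρ (spT v c) x = ψ (c * a) • x) (c : F) :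
    ρ (spT f c) x = ∑ μ, four ψ (fun β => ψ (c / (4 * a) * β ^ 2)) μ • ρ (spE (μ • f) v) x := by
  have key : ∀ u v : Fin n → F, ws (fun c => ρ (spT (𝐢 v) c)) (fun c => ψ (c * a)) ≤ LinearMap.eqLocus
      (ρ (spT (𝐢 u) c)) (∑ μ, four ψ (fun β => ψ (c / (4 * a) * β ^ 2)) μ • ρ (spE (μ • 𝐢 u) (𝐢 v))) := fun u v => by
    refine ws_ind (tw_comm ρ (ι := 𝐢) lagr_iso) cast_ringChar_ne_zero (tw_pow ρ) (fun i y hy => mem_ws.2 fun c => ?_)
      fun γ w hw hw' h0 => ?_
    · rw [← End.mul_apply, show ρ (spT (𝐢 v) c) = tw ρ 𝐢 (v, c) from rfl, (tw_comm ρ (ι := 𝐢) lagr_iso _ _).eq,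
        End.mul_apply, show tw ρ 𝐢 (v, c) y = _ from mem_ws.1 hy c, map_smul]
    · obtain ⟨Q, rfl⟩ := exists_quadWt ρ (ι := 𝐢) lagr_iso hψ hw h0
      have h1 : Q v = a := eq_of_char hψ fun c =>
        smul_left_injective ℂ h0 ((mem_ws.1 hw (v, c)).symm.trans (mem_ws.1 hw' c))
      have h3 := hR Q w hw h0 u v
      have h4 : (4 : F) ≠ 0 := by rw [show (4 : F) = 2 * 2 by norm_num]; exact mul_ne_zero h2 h2
      simp only [LinearMap.mem_eqLocus, LinearMap.sum_apply, LinearMap.smul_apply, ← map_smul 𝐢,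
        spE_apply_of_ws hw, polar_smul_left, smul_smul, ← Finset.sum_smul, smul_eq_mul, sum_four hψ]
      rw [show ρ (spT (𝐢 u) c) w = _ from mem_ws.1 hw (u, c), h3, h1]
      congr 2
      field_simp
  let u₀ : Fin n → F := Pi.single ⟨0, by omega⟩ 1
  let u₁ : Fin n → F := Pi.single ⟨1, by omega⟩ 1
  obtain ⟨g, hg⟩ := sp_witt_family (u := ![𝐢 u₀, 𝐢 u₁]) (v := ![f, v]) (LinearIndependent.pair_iff.2 fun s t e => by
      have h1 := congrFun e (Sum.inl ⟨0, by omega⟩)
      have h2 := congrFun e (Sum.inl ⟨1, by omega⟩)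
      simp [lagr, u₀, u₁] at h1 h2
      exact ⟨h1, h2⟩) hi fun i j => by
    fin_cases i <;> fin_cases j <;> simp [lagr_iso, sympForm_self, hfv, sympForm_neg_comm v f]
  obtain rfl : g.1 *ᵥ 𝐢 u₀ = f := hg 0
  obtain rfl : g.1 *ᵥ 𝐢 u₁ = v := hg 1
  have h1 : ρ (spT (𝐢 u₀) c) (ρ g⁻¹ x) = _ := key u₀ u₁ (mem_ws.2 fun c => by
    rw [← map_smul, ← hx, ← conj_spT, ← End.mul_apply, ← End.mul_apply, ← map_mul, ← map_mul]
    congr 2
    group)
  simp only [← mulVec_smul, ← conj_spT, ← conj_spE, map_mul, End.mul_apply, h1, LinearMap.sum_apply, map_sum,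
    LinearMap.smul_apply, map_smul]

end Cfsg.Agent.H65
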